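import Cfsg.Agent.Lib.BenderSuzuki.Coords.Semi
import Mathlib.GroupTheory.Perm.Cycle.Type

/-!
# Bender–Suzuki §9: the element moving a point like an element of `V₀` is no field automorphism

For `v ∈ V₀` of prime order and a point `p` off the chord let `τ ∈ L₀` move `p` as `v` does.  Then
`τ⁻¹ v` is conjugate into `V₀`, by an element carrying `a`, `t • a` to `p`, `v • p`.
-/

set_option autoImplicit false
set_option linter.style.haveILetI false
set_option linter.unusedSectionVars false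

namespace Cfsg.Agent.Lib.BenderSuzuki.Coords

open MulAction Cfsg.Agent.Lib.RankOne.Basic Cfsg.Agent.Lib.RankOne.Involution

universe u v

variable {G : Type u} {Ω : Type v} [Group G] [Finite G] [MulAction G Ω] {a : Ω} {t : G}
  {Q : Subgroup G} {h : Ctx G Ω a t Q} {E : Type} [Field E] (M : Mod h E)

theorem exists_three_mul_add_two {x : ℕ} (hx : 3 ∣ x ^ 3 + 1) : ∃ j, x = 3 * j + 2 := by
  refine ⟨x / 3, ?_⟩
  have h1 : (x ^ 3 + 1) % 3 = 0 := Nat.mod_eq_zero_of_dvd hx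
  rw [Nat.add_mod, Nat.pow_mod] at h1
  have h2 : x % 3 = 0 ∨ x % 3 = 1 ∨ x % 3 = 2 := by omega
  rcases h2 with e | e | e <;> rw [e] at h1 <;> norm_num at h1
  omega

theorem not_nine_aux (i j : ℕ) : 3 * i ≠ (3 * j ^ 2 + 3 * j + 1) * (3 * j + 2) ^ 2 := by
  rw [show (3 * j ^ 2 + 3 * j + 1) * (3 * j + 2) ^ 2 =
    3 * (9 * j ^ 4 + 21 * j ^ 3 + 19 * j ^ 2 + 8 * j) + 4 by ring]
  omega

theorem sq_mod_three {k : ℕ} (hk : ¬ 3 ∣ k) : k * k % 3 = 1 := by
  rw [Nat.mul_mod]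
  have h2 : k % 3 = 1 ∨ k % 3 = 2 := by omega
  rcases h2 with e | e <;> rw [e]

theorem three_dvd_of_dvd_nine {m : ℕ} (hm : m ∣ 9) (h1 : m ≠ 1) : 3 ∣ m := by
  rw [show (9 : ℕ) = 3 ^ 2 by norm_num] at hm
  obtain ⟨i, -, rfl⟩ := (Nat.dvd_prime_pow Nat.prime_three).1 hm
  exact dvd_pow_self 3 fun e => h1 (by rw [e, pow_zero])

omit [Finite G] in
theorem conj_smul_eq_iff {f w : G} {x : Ω} : (f * w * f⁻¹) • x = x ↔ w • (f⁻¹ • x) = f⁻¹ • x := by
  rw [mul_smul, mul_smul, smul_eq_iff_eq_inv_smul]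

theorem fix_iff_onLine {v : G} (hv : v ∈ vKer a t) (hv1 : v ≠ 1) {x : Ω} :
    v • x = x ↔ h.OnLine x := ⟨fun e => ker_fix h hv hv1 e, onLine_ker hv⟩

/-- `L₀` is 2-transitive on the chord. -/
theorem Mod.exists_line_pair {x y : Ω} (hx : h.OnLine x) (hy : h.OnLine y) (hxy : x ≠ y) :
    ∃ l ∈ M.lGrp, l • a = x ∧ l • (t • a) = y := by
  obtain ⟨g, hg, hgx⟩ := M.exists_to_a hx
  rcases M.onLine_smul hg hy with e | ⟨z, hz, e⟩
  · exact absurd (smul_left_cancel g (hgx.trans e.symm)) hxy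
  · refine ⟨g⁻¹ * z, M.lGrp.mul_mem (M.lGrp.inv_mem hg) (M.z_mem_lGrp hz), ?_, ?_⟩
    · rw [mul_smul, hz.1, ← hgx, inv_smul_smul]
    · rw [mul_smul, ← e, inv_smul_smul]

/-- The chord has `q + 1` points. -/
theorem Mod.card_onLine : Nat.card {x : Ω // h.OnLine x} = M.q + 1 := by
  have hS := setup h
  rw [show M.q = Nat.card (zSub h) by rw [card_zSub h, M.qNum_eq], ← Finite.card_option]
  refine (Nat.card_eq_of_bijective (fun o : Option (zSub h) => o.elim
    (⟨a, Or.inl rfl⟩ : {x : Ω // h.OnLine x})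
    fun z => ⟨(z : G) • (t • a), Or.inr ⟨z, z.2, rfl⟩⟩) ⟨?_, ?_⟩).symm
  · rintro (_ | z) (_ | z') e
    · rfl
    · have e' : a = (z' : G) • (t • a) := congrArg Subtype.val e
      exact absurd (smul_left_cancel (z' : G) (e'.symm.trans z'.2.1.symm)) (t_smul_ne hS)
    · have e' : (z : G) • (t • a) = a := congrArg Subtype.val e
      exact absurd (smul_left_cancel (z : G) (e'.trans z.2.1.symm)) (t_smul_ne hS)
    · exact congrArg some (Subtype.ext (Q_smul_inj hS (zSub_le h z.2) (zSub_le h z'.2)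
        (t_smul_ne hS) (congrArg Subtype.val e)))
  · rintro ⟨x, rfl | ⟨z, hz, rfl⟩⟩
    · exact ⟨none, rfl⟩
    · exact ⟨some ⟨z, hz⟩, rfl⟩

/-- A vector with the eigenvalue of `p` is a multiple of `p`. -/
theorem Mod.eig_line {g : G} (hg : g ∈ M.lGrp) {p x : E × E} {κ : E} (hp : M.form p = 1)
    (hκ : ¬ M.InF κ) (hgp : M.phi g p = sm κ p) (hgx : M.phi g x = sm κ x) :
    ∃ α, x = sm α p := by
  obtain ⟨α, β, rfl⟩ := M.eigen_cases hp x
  have hconj : M.phi g (p.1 ^ M.q, p.2 ^ M.q) = sm (κ ^ M.q) (p.1 ^ M.q, p.2 ^ M.q) := by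
    rw [M.phi_conj hg, hgp]
    simp [sm, mul_pow]
  rw [M.phi_add hg, M.phi_sm hg, M.phi_sm hg, hgp, hconj, sm_sm, sm_sm] at hgx
  have h2 : sm κ (sm α p + sm β (p.1 ^ M.q, p.2 ^ M.q)) =
      sm (κ * α) p + sm (κ * β) (p.1 ^ M.q, p.2 ^ M.q) := by
    simp [sm, mul_add, mul_assoc]
  rw [h2] at hgx
  have h4 := (M.coeff_unique hp hgx).2
  have hβ : β = 0 := by
    by_contra hβ
    exact hκ (mul_left_cancel₀ hβ (by linear_combination h4))
  exact ⟨α, by rw [hβ]; simp [sm]⟩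

/-- The multiplicative group of `E` has elements of each order dividing `q + 1`. -/
theorem Mod.exists_orderOf {m : ℕ} (hm : m ∣ M.q + 1) : ∃ η : E, orderOf η = m := by
  haveI := M.finite
  obtain ⟨g, hg⟩ := IsCyclic.exists_ofOrder_eq_natCard (α := Eˣ)
  have hm0 : m ≠ 0 := fun e => by rw [e, zero_dvd_iff] at hm; omega
  have hcard : Nat.card Eˣ = (M.q + 1) * (M.q - 1) := by
    rw [Nat.card_units, M.card, ← Nat.sq_sub_sq, one_pow]
  have hdvd : m ∣ orderOf g := by rw [hg, hcard]; exact hm.mul_right _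
  refine ⟨((g ^ (orderOf g / m) : Eˣ) : E), ?_⟩
  have hne : orderOf g / m ≠ 0 := by
    rw [Nat.div_ne_zero_iff]
    exact ⟨hm0, Nat.le_of_dvd (orderOf_pos g) hdvd⟩
  rw [orderOf_units, orderOf_pow_of_dvd hne (Nat.div_dvd_of_dvd hdvd),
    Nat.div_div_self hdvd (orderOf_pos g).ne']

/-- Transitivity on ordered pairs of a set of points: the order of the group. -/
theorem card_of_pairs (h : Ctx G Ω a t Q) (H : Subgroup G) (S : Set Ω) (ha : a ∈ S)
    (hb : t • a ∈ S) (hmap : ∀ g ∈ H, ∀ x ∈ S, g • x ∈ S)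
    (htr : ∀ x ∈ S, ∀ y ∈ S, x ≠ y → ∃ g ∈ H, g • a = x ∧ g • (t • a) = y) :
    Nat.card H = (S.ncard * S.ncard - S.ncard) * Nat.card ↥(H ⊓ twoStab G a t : Subgroup G) := by
  classical
  haveI := finiteOmega (setup h)
  have hne : a ≠ t • a := (t_smul_ne (setup h)).symm
  have horb : MulAction.orbit H (a, t • a) = S.offDiag := by
    ext ⟨x, y⟩
    rw [MulAction.mem_orbit_iff, Set.mem_offDiag]
    constructor
    · rintro ⟨⟨g, hg⟩, e⟩
      obtain ⟨e1, e2⟩ := Prod.ext_iff.1 e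
      change g • a = x at e1
      change g • (t • a) = y at e2
      rw [← e1, ← e2]
      exact ⟨hmap g hg a ha, hmap g hg _ hb, fun e => hne (smul_left_cancel g e)⟩
    · rintro ⟨hx, hy, hxy⟩
      obtain ⟨g, hg, e1, e2⟩ := htr x hx y hy hxy
      exact ⟨⟨g, hg⟩, Prod.ext e1 e2⟩
  have hcard := (MulAction.stabilizer H (a, t • a)).index_mul_card
  rw [index_stabilizer, horb] at hcard
  have hoff : S.offDiag.ncard = S.ncard * S.ncard - S.ncard := by
    have hS : S.Finite := Set.toFinite S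
    rw [Set.ncard_eq_toFinset_card _ hS,
      Set.ncard_eq_toFinset_card _ (Set.toFinite S.offDiag), ← Finset.offDiag_card]
    congr 1
    ext ⟨x, y⟩
    simp [Finset.mem_offDiag]
  rw [← hcard, hoff]
  congr 1
  refine Nat.card_congr ⟨fun g => ⟨(g.1 : G), g.1.2, mem_twoStab.2 ?_⟩,
    fun g => ⟨⟨g.1, g.2.1⟩, MulAction.mem_stabilizer_iff.2
      (Prod.ext (mem_twoStab.1 g.2.2).1 (mem_twoStab.1 g.2.2).2)⟩, fun g => rfl, fun g => rfl⟩
  have e := MulAction.mem_stabilizer_iff.1 g.2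
  exact ⟨congrArg Prod.fst e, congrArg Prod.snd e⟩

variable {M} (c : M.Chart)

include c in
/-- The two-point stabiliser centralises the elements of order three of `V₀`. -/
theorem Mod.Chart.comm_three {d e : G} (hd : d ∈ twoStab G a t) (he : e ∈ vKer a t)
    (he3 : e ^ 3 = 1) : d * e = e * d := by
  by_cases he1 : e = 1
  · simp [he1]
  have hpow : ∀ (y : G), y ∈ vKer a t → y ^ 3 = 1 → c.kappa y ^ 3 = 1 := fun y hy hy3 => by
    rw [pow_three, ← c.kappa_mul hy hy, ← c.kappa_mul hy (mul_mem hy hy), ← pow_three, hy3,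
      c.kappa_one]
  have hroot : ∀ (y : G), y ∈ vKer a t → y ^ 3 = 1 → y = 1 ∨ y = e ∨ y = e * e := by
    intro y hy hy3
    have hx := hpow y hy hy3
    have hk := hpow e he he3
    set x := c.kappa y with hxdef
    set κ := c.kappa e with hκdef
    have hκ1 : κ ≠ 1 := fun e' => he1 (c.kappa_inj he (one_mem _) (e'.trans c.kappa_one.symm))
    have hκ2 : κ ^ 2 + κ + 1 = 0 := by
      have : (κ - 1) * (κ ^ 2 + κ + 1) = 0 := by linear_combination hk
      exact (mul_eq_zero.1 this).resolve_left (sub_ne_zero.2 hκ1)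
    have hprod : (x - 1) * ((x - κ) * (x - κ * κ)) = 0 := by
      linear_combination hx - hk + (κ * x - x ^ 2) * hκ2
    rcases mul_eq_zero.1 hprod with e' | e'
    · exact Or.inl (c.kappa_inj hy (one_mem _) ((sub_eq_zero.1 e').trans c.kappa_one.symm))
    rcases mul_eq_zero.1 e' with e' | e'
    · exact Or.inr (Or.inl (c.kappa_inj hy he (sub_eq_zero.1 e')))
    · exact Or.inr (Or.inr (c.kappa_inj hy (mul_mem he he)
        ((sub_eq_zero.1 e').trans (c.kappa_mul he he).symm)))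
  have hc3 : (d * e * d⁻¹) ^ 3 = 1 := by rw [conj_pow, he3, mul_one, mul_inv_cancel]
  rcases hroot _ (ker_conj h hd he) hc3 with e' | e' | e'
  · exact absurd (conj_eq_one_iff.1 e') he1
  · exact mul_inv_eq_iff_eq_mul.1 e'
  · exfalso
    have hee : e * e ≠ e := fun e'' => he1 (mul_eq_left.1 e'')
    have h2 : d * d * e * (d * d)⁻¹ = e := by
      calc d * d * e * (d * d)⁻¹ = d * (d * e * d⁻¹) * d⁻¹ := by group
        _ = d * (e * e) * d⁻¹ := by rw [e']
        _ = d * e * d⁻¹ * (d * e * d⁻¹) := by group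
        _ = e * (e ^ 3) := by rw [e', pow_three]; group
        _ = e := by rw [he3, mul_one]
    have hodd : Odd (orderOf d) := Odd.of_dvd_nat (setup h).odd_card (by
      rw [← Subgroup.orderOf_mk d hd]; exact orderOf_dvd_natCard _)
    obtain ⟨j, hj⟩ := hodd
    have hcomm : Commute d e := by
      have h3 : Commute (d * d) e := mul_inv_eq_iff_eq_mul.1 h2
      have h4 : (d * d) ^ (j + 1) = d := by
        rw [← sq, ← pow_mul, show 2 * (j + 1) = orderOf d + 1 by omega, pow_succ,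
          pow_orderOf_eq_one, one_mul]
      exact h4 ▸ h3.pow_left _
    exact hee (e'.symm.trans (mul_inv_eq_iff_eq_mul.2 hcomm.eq))

/-- A conjugate of `v` commuting with it, with a fixed point off the chord, has none on it. -/
theorem Mod.no_fix_onLine (M : Mod h E) {v f : G} (hv : v ∈ vKer a t) (hv1 : v ≠ 1)
    (hv3 : v ^ 3 = 1) (hq : 3 ∣ M.q + 1) (hcomm : f * v * f⁻¹ * v = v * (f * v * f⁻¹))
    (hoff : h.Off (f • a)) {x : Ω} (hx : h.OnLine x) : (f * v * f⁻¹) • x ≠ x := by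
  classical
  intro hfx
  have hS := setup h
  haveI := finiteOmega hS
  set u := f * v * f⁻¹ with hu
  let S := {y : Ω // u • y = y}
  have hS1 : Nat.card S = M.q + 1 := by
    rw [← M.card_onLine]
    refine Nat.card_congr (Equiv.subtypeEquiv (MulAction.toPerm f⁻¹) fun y => ?_)
    rw [hu, conj_smul_eq_iff, fix_iff_onLine hv hv1]
    rfl
  have hmaps : ∀ y : S, u • (v • y.1) = v • y.1 := fun y => by
    rw [← mul_smul, hcomm, mul_smul, y.2]
  let F : Function.End S := fun y => ⟨v • y.1, hmaps y⟩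
  have hF : F ^ 3 ^ 1 = 1 := by
    rw [pow_one]
    funext y
    refine Subtype.ext ?_
    show v • (v • (v • y.1)) = y.1
    rw [← mul_smul, ← mul_smul, ← pow_three', hv3, one_smul]
  haveI : Fact (Nat.Prime 3) := ⟨Nat.prime_three⟩
  letI : Fintype S := Fintype.ofFinite S
  have hmod := Equiv.Perm.card_fixedPoints_modEq hF
  rw [← Nat.card_eq_fintype_card, hS1] at hmod
  have h3 : 3 ∣ Fintype.card F.fixedPoints := (Nat.modEq_zero_iff_dvd).1
    (hmod.symm.trans (Nat.modEq_zero_iff_dvd.2 hq))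
  have hx0 : (⟨x, hfx⟩ : S) ∈ F.fixedPoints := Subtype.ext (onLine_ker hv hx)
  have h1 : 1 < Fintype.card F.fixedPoints := by
    have : 0 < Fintype.card F.fixedPoints := Fintype.card_pos_iff.2 ⟨⟨_, hx0⟩⟩
    omega
  obtain ⟨⟨⟨y, hy⟩, hyv⟩, hne⟩ := Fintype.exists_ne_of_one_lt_card h1 ⟨_, hx0⟩
  have hyL : h.OnLine y := (fix_iff_onLine hv hv1).1 (congrArg Subtype.val hyv)
  have hxy : x ≠ y := fun e => hne (Subtype.ext (Subtype.ext e.symm))
  obtain ⟨l, hl, hla, hlb⟩ := M.exists_line_pair hx hyL hxy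
  set f' := l⁻¹ * f with hf'
  have hmove : ∀ z w : Ω, l • z = w → u • w = w → h.OnLine (f'⁻¹ • z) := by
    intro z w hzw hw
    rw [← fix_iff_onLine hv hv1, ← conj_smul_eq_iff, hf']
    rw [show l⁻¹ * f * v * (l⁻¹ * f)⁻¹ = l⁻¹ * (f * v * f⁻¹) * l by group, mul_smul, mul_smul,
      hzw, ← hu, hw, ← hzw, inv_smul_smul]
  obtain ⟨l', hl', hla', hlb'⟩ := M.exists_line_pair (hmove a x hla hfx) (hmove (t • a) y hlb hy)
    (fun e => (t_smul_ne hS).symm (smul_left_cancel _ e))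
  have hd : f' * l' ∈ twoStab G a t :=
    mem_twoStab.2 ⟨by rw [mul_smul, hla', smul_inv_smul], by rw [mul_smul, hlb', smul_inv_smul]⟩
  have hk : f' * v * f'⁻¹ ∈ vKer a t := by
    have := ker_conj h hd hv
    rwa [show f' * l' * v * (f' * l')⁻¹ = f' * (l' * v * l'⁻¹) * f'⁻¹ by group,
      ← M.ker_lGrp hv hl', mul_inv_cancel_right] at this
  have hu' : u = f' * v * f'⁻¹ := by
    calc u = l * (f' * v * f'⁻¹) * l⁻¹ := by rw [hu, hf']; group
      _ = _ := by rw [← M.ker_lGrp hk hl, mul_inv_cancel_right]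
  have hu1 : u ≠ 1 := fun e => hv1 (conj_eq_one_iff.1 e)
  refine not_off.2 (ker_fix h (hu' ▸ hk) hu1 ?_) hoff
  rw [hu, conj_smul_eq_iff, inv_smul_smul]
  exact hv.1.1

/-- A lift of order three of a non-trivial automorphism fixes a point of the chord. -/
theorem Mod.exists_fix_onLine (M : Mod h E) {l d : G} (hl : l ∈ M.lGrp) (hd : d ∈ vGrp a t)
    (hne : d ∉ vKer a t) (h3 : (l * d) ^ 3 = 1) : ∃ x, h.OnLine x ∧ (l * d) • x = x := by
  have hS := setup h
  obtain ⟨h1, hs1⟩ := M.semilinear hd hl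
  obtain ⟨h2, hs2⟩ := M.semilinear hd h1
  set l1 := d * l * d⁻¹ with hl1
  set l2 := d * l1 * d⁻¹ with hl2
  have hprod : l * l1 * l2 * d ^ 3 = 1 := by
    rw [← h3, hl2, hl1, pow_three, pow_three]
    group
  have hd3 : d ^ 3 = 1 := M.eq_one_of_vGrp (by
    rw [eq_inv_of_mul_eq_one_right hprod]
    exact M.lGrp.inv_mem (M.lGrp.mul_mem (M.lGrp.mul_mem hl h1) h2)) ((vGrp a t).pow_mem hd 3)
  rw [hd3, mul_one] at hprod
  obtain ⟨lam, hlam, hlam'⟩ := M.exists_sig_ne hd hne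
  have hdd : d * d ∈ vGrp a t := mul_mem hd hd
  have hs3 : ∀ x, M.InF x → M.sig d (M.sig d (M.sig d x)) = x := fun x hx => by
    rw [M.sig_comp hd hx, M.sig_comp hdd hx, ← pow_three, hd3, M.sig_id hx]
  have hsF : ∀ p : E × E, M.InF2 (M.sigP d p) := fun p => ⟨M.sig_inF hd _, M.sig_inF hd _⟩
  set ψ : E × E → E × E := fun p => M.phi l (M.sigP d p) with hψdef
  have hψ : ∀ p, M.InF2 (ψ p) := fun p => ((M.semilinear hd hl).2 _ (hsF p)).1
  have hψ3 : ∀ p, M.InF2 p → ψ (ψ (ψ p)) = p := by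
    intro p hp
    have e1 : ∀ x, M.InF2 x → M.sigP d (M.phi l x) = M.phi l1 (M.sigP d x) :=
      fun x hx => (hs1 x hx).2.symm
    have e2 : ∀ x, M.InF2 x → M.sigP d (M.phi l1 x) = M.phi l2 (M.sigP d x) :=
      fun x hx => (hs2 x hx).2.symm
    simp only [hψdef]
    rw [e1 _ (hsF p), e1 _ (((M.semilinear hd h1).2 _ (hsF _)).1), e2 _ (hsF _),
      ← M.phi_mul h1 h2, ← M.phi_mul hl (M.lGrp.mul_mem h1 h2), ← mul_assoc, hprod, M.phi_one]
    exact Prod.ext (hs3 _ hp.1) (hs3 _ hp.2)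
  have hψadd : ∀ p p', M.InF2 p → M.InF2 p' → ψ (p + p') = ψ p + ψ p' := fun p p' hp hp' => by
    simp only [hψdef]
    rw [← M.phi_add hl]
    congr 1
    exact Prod.ext (M.sig_add hd hp.1 hp'.1) (M.sig_add hd hp.2 hp'.2)
  have hψsm : ∀ μ p, M.InF μ → M.InF2 p → ψ (sm μ p) = sm (M.sig d μ) (ψ p) := fun μ p hμ hp => by
    simp only [hψdef]
    rw [← M.phi_sm hl]
    congr 1
    exact Prod.ext (M.sig_mul hd hμ hp.1) (M.sig_mul hd hμ hp.2)
  have hF2add : ∀ p p', M.InF2 p → M.InF2 p' → M.InF2 (p + p') := fun p p' hp hp' =>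
    ⟨M.inF_add hp.1 hp'.1, M.inF_add hp.2 hp'.2⟩
  set e₀ : E × E := (1, 0) with he₀
  have he₀F : M.InF2 e₀ := ⟨M.inF_one, M.inF_zero⟩
  -- a line fixed by `ψ`
  obtain ⟨y, hy, hy0, μ, hμ⟩ : ∃ y, M.InF2 y ∧ y ≠ 0 ∧ ∃ μ, ψ y = sm μ y := by
    by_cases hline : ∃ μ, ψ e₀ = sm μ e₀
    · exact ⟨e₀, he₀F, by simp [he₀], hline⟩
    have hfix : ∀ p, M.InF2 p → ψ (p + ψ p + ψ (ψ p)) = p + ψ p + ψ (ψ p) := fun p hp => by
      rw [hψadd _ _ (hF2add _ _ hp (hψ _)) (hψ _), hψadd _ _ hp (hψ _), hψ3 p hp]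
      abel
    by_cases hz1 : e₀ + ψ e₀ + ψ (ψ e₀) = 0
    swap
    · exact ⟨_, hF2add _ _ (hF2add _ _ he₀F (hψ _)) (hψ _), hz1, 1, by rw [hfix _ he₀F, sm_one]⟩
    set p := sm lam e₀ with hp
    have hpF : M.InF2 p := ⟨M.inF_mul hlam M.inF_one, M.inF_mul hlam M.inF_zero⟩
    refine ⟨p + ψ p + ψ (ψ p), hF2add _ _ (hF2add _ _ hpF (hψ _)) (hψ _), fun hz2 => ?_, 1,
      by rw [hfix _ hpF, sm_one]⟩
    have hσ := M.sig_inF hd lam
    rw [hp, hψsm _ _ hlam he₀F, hψsm _ _ hσ (hψ _)] at hz2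
    set A := M.sig d lam with hA
    set B := M.sig d (M.sig d lam) with hB
    have hAB : A = B ∧ lam = B ∨ ∃ μ, ψ e₀ = sm μ e₀ := by
      by_cases hAB : A = B
      · refine Or.inl ⟨hAB, ?_⟩
        obtain ⟨q1, q2⟩ := Prod.ext_iff.1 hz1
        obtain ⟨r1, -⟩ := Prod.ext_iff.1 hz2
        simp only [sm, he₀, Prod.fst_add, Prod.snd_add, Prod.fst_zero, Prod.snd_zero] at q1 q2 r1
        rw [← hAB] at r1 ⊢
        linear_combination r1 - A * q1
      · refine Or.inr ⟨(lam - B) / (B - A), ?_⟩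
        have hne' : B - A ≠ 0 := sub_ne_zero.2 (Ne.symm hAB)
        obtain ⟨q1, q2⟩ := Prod.ext_iff.1 hz1
        obtain ⟨r1, r2⟩ := Prod.ext_iff.1 hz2
        simp only [sm, he₀, Prod.fst_add, Prod.snd_add, Prod.fst_zero, Prod.snd_zero] at q1 q2 r1 r2 ⊢
        refine Prod.ext ?_ ?_
        · show _ = (lam - B) / (B - A) * 1
          rw [mul_one, eq_div_iff hne']
          linear_combination B * q1 - r1
        · show _ = (lam - B) / (B - A) * 0
          rw [mul_zero]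
          refine (mul_eq_zero.1 (?_ : (B - A) * _ = 0)).resolve_left hne'
          linear_combination B * q2 - r2
    rcases hAB with ⟨e1, e2⟩ | e1
    · exact hlam' (e1.trans e2.symm)
    · exact hline e1
  -- the corresponding point
  obtain ⟨g, hg, κ, hκF, hκ0, hge⟩ : ∃ g ∈ M.lGrp, ∃ κ, M.InF κ ∧ κ ≠ 0 ∧
      M.phi g e₀ = sm κ y := by
    by_cases hy2 : y.2 = 0
    · have hy1 : y.1 ≠ 0 := fun e => hy0 (Prod.ext e hy2)
      refine ⟨1, one_mem _, y.1⁻¹, M.inF_inv hy.1, inv_ne_zero hy1, ?_⟩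
      rw [M.phi_one]
      exact Prod.ext (inv_mul_cancel₀ hy1).symm (by simp [sm, he₀, hy2])
    · obtain ⟨z, hz, hze⟩ := M.zeta_surj (y.2⁻¹ * y.1) (M.inF_mul (M.inF_inv hy.2) hy.1)
      refine ⟨z * t, M.lGrp.mul_mem (M.z_mem_lGrp hz) M.t_mem_lGrp, y.2⁻¹, M.inF_inv hy.2,
        inv_ne_zero hy2, ?_⟩
      rw [M.phi_mul (M.z_mem_lGrp hz) M.t_mem_lGrp, M.phi_eq (M.rel_z hz), M.phi_eq M.rel_t]
      refine Prod.ext ?_ ?_
      · simp [sm, he₀, actA, actT, hze]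
      · simp [sm, he₀, actA, actT, inv_mul_cancel₀ hy2]
  obtain ⟨hg', hsg⟩ := M.semilinear hd hg
  set m := g⁻¹ * (l * (d * g * d⁻¹)) with hmdef
  have hm : M.phi m e₀ = sm (M.sig d κ * μ * κ⁻¹) e₀ := by
    have hse : M.sigP d e₀ = e₀ := Prod.ext (M.sig_one hd) M.sig_zero
    have h4 : M.phi (d * g * d⁻¹) e₀ = M.sigP d (sm κ y) := by
      rw [← hge, ← (hsg e₀ he₀F).2, hse]
    have h5 : M.phi g⁻¹ y = sm κ⁻¹ e₀ := by
      have h6 := congrArg (fun p => M.phi g⁻¹ (sm κ⁻¹ p)) hge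
      simp only [sm_sm, inv_mul_cancel₀ hκ0, sm_one] at h6
      rw [← h6, M.phi_sm (M.lGrp.inv_mem hg), ← M.phi_mul (M.lGrp.inv_mem hg) hg, inv_mul_cancel,
        M.phi_one]
    rw [hmdef, M.phi_mul (M.lGrp.inv_mem hg) (M.lGrp.mul_mem hl hg'), M.phi_mul hl hg', h4]
    show M.phi g⁻¹ (ψ (sm κ y)) = _
    rw [hψsm κ y hκF hy, hμ, sm_sm, M.phi_sm (M.lGrp.inv_mem hg), h5, sm_sm]
  have hmL : m ∈ M.lGrp := M.lGrp.mul_mem (M.lGrp.inv_mem hg) (M.lGrp.mul_mem hl hg')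
  have hma : m • a = a := by
    rcases M.nf_of_rel (M.phi_rel hmL) with ⟨z, hz, k, hk, hmk, -⟩ | ⟨z₁, hz₁, k, hk, z₂, hz₂, -, hf⟩
    · rw [hmk, mul_smul, show k • a = a from hk.1.1, hz.1]
    · exfalso
      rw [hf] at hm
      have h7 := congrArg Prod.snd hm
      simp [Function.comp_apply, actA, actM, actT, sm, he₀, M.mu_ne_zero hk] at h7
  refine ⟨g • a, M.onLine_smul hg (Or.inl rfl), ?_⟩
  calc (l * d) • (g • a) = (l * (d * g * d⁻¹)) • (d • a) := by
        rw [← mul_smul, ← mul_smul]; congr 1; group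
    _ = (g * m) • a := by rw [show d • a = a from hd.1.1, hmdef, mul_inv_cancel_left]
    _ = g • a := by rw [mul_smul, hma]

/-- No field automorphism: the moved element is conjugate into `V₀`. -/
theorem Mod.Chart.exists_fixer (c : M.Chart) {v : G} (hv : v ∈ vKer a t) (hv1 : v ≠ 1)
    (hord : (orderOf v).Prime) {p : Ω} (hp : h.Off p) :
    ∃ τ w g₀ : G, τ ∈ M.lGrp ∧ τ • p = v • p ∧ w ∈ vKer a t ∧ g₀ • a = p ∧
      g₀ • (t • a) = v • p ∧ g₀ * w * g₀⁻¹ = τ⁻¹ * v := by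
  classical
  have hS := setup h
  haveI := finiteOmega hS
  haveI := h.hyp.faithful
  set r := orderOf v with hrdef
  have hvr : v ^ r = 1 := pow_orderOf_eq_one v
  obtain ⟨hτ, hτp⟩ := M.gTo_spec hp (off_ker hv hp)
  set τ := M.gTo p (v • p)
  set P := c.vec p with hPdef
  set κ := c.kappa v with hκdef
  have hP : M.form P = 1 := c.form_vec hp
  have hκF : ¬ M.InF κ := c.kappa_not_inF hv hv1
  have hτP : M.phi τ P = sm κ P := by rw [hPdef, ← c.vec_smul hτ hp, hτp, c.vec_ker hv hp]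
  have hvτ : v * τ = τ * v := M.ker_lGrp hv hτ
  set v' := τ⁻¹ * v with hv'def
  have hv'p : v' • p = p := by rw [hv'def, mul_smul, ← hτp, inv_smul_smul]
  have hv'vp : v' • (v • p) = v • p := by
    rw [← mul_smul, show v' * v = v * v' from by
      rw [hv'def, ← mul_assoc, (Commute.inv_right hvτ).eq], mul_smul, hv'p]
  have hfix' : ∀ x, h.Off x → (v' • x = x ↔ M.phi τ (c.vec x) = sm κ (c.vec x)) := by
    intro x hx
    rw [← c.vec_smul hτ hx, ← c.vec_ker hv hx, hv'def, mul_smul, inv_smul_eq_iff]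
    exact ⟨fun e => by rw [← e], fun e => (c.vec_inj (M.off_smul hτ hx) (off_ker hv hx) e).symm⟩
  have hv'line : ∀ x, h.OnLine x → v' • x ≠ x := by
    intro x hx e
    rw [hv'def, mul_smul, onLine_ker hv hx, inv_smul_eq_iff] at e
    exact M.ker_shift_fpf hv hv1 hτ hp hτp.symm hx e.symm
  -- at least `q + 1` fixed points
  obtain ⟨ζ, hζ⟩ := M.exists_orderOf (dvd_refl (M.q + 1))
  have hnorm : ∀ {η : E}, η ^ (M.q + 1) = 1 → M.form (sm η P) = 1 := fun {η} hη => by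
    rw [M.form_sm, hP, mul_one, ← pow_succ, hη]
  have hζi : ∀ i : ℕ, (ζ ^ i) ^ (M.q + 1) = 1 := fun i => by
    rw [← pow_mul, mul_comm, pow_mul, ← hζ, pow_orderOf_eq_one, one_pow]
  choose X hX hXvec using fun i : ℕ => c.vec_surj (hnorm (hζi i))
  have hXfix : ∀ i, v' • X i = X i := fun i => (hfix' _ (hX i)).2 (by
    rw [hXvec, M.phi_sm hτ, hτP, sm_sm, sm_sm, mul_comm])
  have hcard' : M.q + 1 ≤ Nat.card {x : Ω // v' • x = x} := by
    rw [← Nat.card_fin (M.q + 1)]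
    refine Nat.card_le_card_of_injective (fun i => ⟨X i, hXfix i⟩) fun i j e => ?_
    have e1 : X i = X j := congrArg Subtype.val e
    have e2 : sm (ζ ^ (i : ℕ)) P = sm (ζ ^ (j : ℕ)) P := by rw [← hXvec, ← hXvec, e1]
    have e3 := pow_injOn_Iio_orderOf (x := ζ) (show (i : ℕ) ∈ Set.Iio (orderOf ζ) by
      rw [hζ]; exact i.2) (show (j : ℕ) ∈ Set.Iio (orderOf ζ) by rw [hζ]; exact j.2) (sm_inj hP e2)
    exact Fin.ext e3
  -- into `C(t)`
  obtain ⟨g₁, hg₁a, hg₁b⟩ :=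
    exists_pair hS (t_smul_ne hS).symm (off_ne_ker hv hv1 hp).symm
  set d := g₁⁻¹ * v' * g₁ with hddef
  have hdD : d ∈ twoStab G a t := by
    rw [mem_twoStab, hddef, mul_smul, mul_smul, hg₁a, hv'p, ← hg₁a, inv_smul_smul, mul_smul,
      mul_smul, hg₁b, hv'vp, ← hg₁b, inv_smul_smul]
    exact ⟨rfl, rfl⟩
  have h3 : ∃ b c' e : Ω, b ≠ c' ∧ b ≠ e ∧ c' ≠ e ∧
      ∀ x ∈ ({d} : Set G), x • b = b ∧ x • c' = c' ∧ x • e = e := by
    letI : Fintype {x : Ω // v' • x = x} := Fintype.ofFinite _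
    have h2 : 2 < Fintype.card {x : Ω // v' • x = x} := by
      rw [← Nat.card_eq_fintype_card]
      have := M.four_le
      omega
    obtain ⟨x, y, z, hxy, hxz, hyz⟩ := Fintype.two_lt_card_iff.1 h2
    have hdf : ∀ x : {x : Ω // v' • x = x}, d • (g₁⁻¹ • x.1) = g₁⁻¹ • x.1 := fun x => by
      rw [hddef, mul_smul, mul_smul, smul_inv_smul, x.2]
    refine ⟨g₁⁻¹ • x.1, g₁⁻¹ • y.1, g₁⁻¹ • z.1, ?_, ?_, ?_, fun g hg => ?_⟩
    · exact fun e => hxy (Subtype.ext (smul_left_cancel _ e))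
    · exact fun e => hxz (Subtype.ext (smul_left_cancel _ e))
    · exact fun e => hyz (Subtype.ext (smul_left_cancel _ e))
    · rw [Set.mem_singleton_iff.1 hg]
      exact ⟨hdf x, hdf y, hdf z⟩
  obtain ⟨e, he, hec⟩ := conj_into_centralizer_t hS (Set.singleton_subset_iff.2 hdD) h3
  set w := e * d * e⁻¹
  have hwV : w ∈ vGrp a t :=
    ⟨(twoStab G a t).mul_mem ((twoStab G a t).mul_mem he.1 hdD) ((twoStab G a t).inv_mem he.1),
      Subgroup.mem_centralizer_singleton_iff.2 (hec d rfl).eq⟩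
  set g₀ := g₁ * e⁻¹ with hg₀def
  have hg₀a : g₀ • a = p := by
    rw [hg₀def, mul_smul, inv_smul_eq_iff.2 (mem_twoStab.1 he.1).1.symm, hg₁a]
  have hg₀b : g₀ • (t • a) = v • p := by
    rw [hg₀def, mul_smul, inv_smul_eq_iff.2 (mem_twoStab.1 he.1).2.symm, hg₁b]
  have hgw : g₀ * w * g₀⁻¹ = v' := by
    rw [hg₀def, show w = e * d * e⁻¹ from rfl, hddef]
    group
  refine ⟨τ, w, g₀, hτ, hτp, ?_, hg₀a, hg₀b, hgw⟩
  by_contra hwK
  -- `w` induces an automorphism of order `r`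
  have hτr : τ ^ r = 1 := by
    have hpow : ∀ i, M.phi (τ ^ i) P = sm (κ ^ i) P := by
      intro i
      induction i with
      | zero => rw [pow_zero, pow_zero, M.phi_one, sm_one]
      | succ i ih => rw [pow_succ, M.phi_mul (pow_mem hτ i) hτ, hτP, M.phi_sm (pow_mem hτ i), ih,
          sm_sm, pow_succ, mul_comm]
    have hk : ∀ i, c.kappa (v ^ i) = κ ^ i := by
      intro i
      induction i with
      | zero => rw [pow_zero, pow_zero, c.kappa_one]
      | succ i ih => rw [pow_succ, c.kappa_mul (pow_mem hv i) hv, ih, pow_succ]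
    refine M.stab_trivial (pow_mem hτ r) hP ?_
    rw [hpow, ← hk, hvr, c.kappa_one, sm_one]
  have hwr : w ^ r = 1 := by
    have : v' ^ r = 1 := by
      rw [hv'def, (Commute.inv_left (show Commute τ v from hvτ.symm)).mul_pow, inv_pow, hτr, hvr,
        inv_one, mul_one]
    rw [show w = g₀⁻¹ * v' * g₀⁻¹⁻¹ by rw [← hgw]; group, conj_pow, this, mul_one, mul_inv_cancel]
  set q₀ := fixNum h w with hq₀def
  have hq : M.q = q₀ ^ r := M.q_eq_fixNum_pow hwV hwK hord hwr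
  have hq₀2 : 2 ≤ q₀ := by
    have h1 : Nat.card Bool ≤ q₀ := Nat.card_le_card_of_injective
      (fun b : Bool => (bif b then ⟨⟨sInv h, sInv_mem h⟩, vGrp_s h hwV⟩
        else ⟨1, by simp⟩ : {z : zSub h // w * (z : G) * w⁻¹ = z})) (by
        rintro (_ | _) (_ | _) e
        · rfl
        · exact absurd (congrArg (fun x : {z : zSub h // w * (z : G) * w⁻¹ = z} => ((x.1 : zSub h) : G))
            e).symm (sInv_ne h)
        · exact absurd (congrArg (fun x : {z : zSub h // w * (z : G) * w⁻¹ = z} => ((x.1 : zSub h) : G))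
            e) (sInv_ne h)
        · rfl)
    simpa using h1
  set F : Set Ω := {x | w • x = x} with hFdef
  have hFx : ∀ {x : Ω}, x ∈ F ↔ v' • (g₀ • x) = g₀ • x := fun {x} => by
    rw [← hgw, conj_smul_eq_iff, inv_smul_smul]; rfl
  have hFcard : M.q + 1 ≤ F.ncard := by
    rw [← Nat.card_coe_set_eq]
    refine le_trans hcard' (le_of_eq (Nat.card_congr
      (Equiv.subtypeEquiv (MulAction.toPerm g₀⁻¹) fun x => ?_)))
    show v' • x = x ↔ g₀⁻¹ • x ∈ F
    rw [hFx, smul_inv_smul]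
  have hFB : (F ∩ {x | h.OnLine x}).ncard = q₀ + 1 := by
    rw [← Nat.card_coe_set_eq, hq₀def, fixNum, ← Finite.card_option]
    have hzb : ∀ z ∈ zSub h, (w • (z • (t • a)) = z • (t • a) ↔ w * z * w⁻¹ = z) := fun z hz => by
      rw [conj_smul_b hwV.1]
      exact ⟨fun e => Q_smul_inj hS (zSub_le h (z_conj_mem h hz hwV.1.1)) (zSub_le h hz)
        (t_smul_ne hS) e, fun e => by rw [e]⟩
    refine (Nat.card_eq_of_bijective (fun o : Option {z : zSub h // w * (z : G) * w⁻¹ = z} => o.elim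
      (⟨a, hwV.1.1, Or.inl rfl⟩ : ↥(F ∩ {x | h.OnLine x}))
      fun z => ⟨((z.1 : zSub h) : G) • (t • a), (hzb _ z.1.2).2 z.2, Or.inr ⟨_, z.1.2, rfl⟩⟩)
      ⟨?_, ?_⟩).symm
    · rintro (_ | z) (_ | z') e
      · rfl
      · have e' : a = ((z'.1 : zSub h) : G) • (t • a) := congrArg Subtype.val e
        exact absurd (smul_left_cancel _ (e'.symm.trans z'.1.2.1.symm)) (t_smul_ne hS)
      · have e' : ((z.1 : zSub h) : G) • (t • a) = a := congrArg Subtype.val e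
        exact absurd (smul_left_cancel _ (e'.trans z.1.2.1.symm)) (t_smul_ne hS)
      · exact congrArg some (Subtype.ext (Subtype.ext (Q_smul_inj hS (zSub_le h z.1.2)
          (zSub_le h z'.1.2) (t_smul_ne hS) (congrArg Subtype.val e))))
    · rintro ⟨x, hxF, rfl | ⟨z, hz, rfl⟩⟩
      · exact ⟨none, rfl⟩
      · exact ⟨some ⟨⟨z, hz⟩, (hzb z hz).1 hxF⟩, rfl⟩
  have hq0q : q₀ < M.q := by
    rw [hq]
    calc q₀ = q₀ ^ 1 := (pow_one _).symm
      _ < q₀ ^ r := Nat.pow_lt_pow_right (by omega) hord.one_lt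
  obtain ⟨x₀, hx₀F, hx₀⟩ : ∃ x ∈ F, h.Off x := by
    by_contra! hno
    have : F ⊆ F ∩ {x | h.OnLine x} := fun x hx => ⟨hx, not_off.1 (hno x hx)⟩
    have := Set.ncard_le_ncard this (Set.toFinite _)
    omega
  have hFsplit : F.ncard + q₀ ≤ q₀ ^ 3 + q₀ + 1 := by
    have hoffc : (F \ {x | h.OnLine x}).ncard ≤
        Nat.card {g : M.lGrp // w * (g : G) * w⁻¹ = g} := by
      rw [← Nat.card_coe_set_eq]
      have key : ∀ x : ↥(F \ {x | h.OnLine x}),
          ∃ g : M.lGrp, w * (g : G) * w⁻¹ = g ∧ (g : G) • x₀ = x.1 := by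
        rintro ⟨x, hxF, hxB⟩
        have hxoff : h.Off x := by_contra fun hn => hxB (not_off.1 hn)
        obtain ⟨g, hg, hgx⟩ := M.trans hx₀ hxoff
        refine ⟨⟨g, hg⟩, ?_, hgx⟩
        have hwg := (M.semilinear hwV hg).1
        have h8 : (w * g * w⁻¹) • x₀ = g • x₀ := by
          rw [mul_smul, mul_smul, inv_smul_eq_iff.2 (show w • x₀ = x₀ from hx₀F).symm, hgx,
            show w • x = x from hxF]
        have h9 := M.free (M.lGrp.mul_mem (M.lGrp.inv_mem hg) hwg) hx₀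
          (by rw [mul_smul, h8, inv_smul_smul])
        exact (inv_mul_eq_one.1 h9).symm
      choose gg hgg1 hgg2 using key
      refine Nat.card_le_card_of_injective (fun x => ⟨gg x, hgg1 x⟩) fun x y e => Subtype.ext ?_
      have e' : gg x = gg y := congrArg Subtype.val e
      rw [← hgg2 x, ← hgg2 y, e']
    have := M.card_cent_le hwV
    have h2 := Set.ncard_inter_add_ncard_sdiff_eq_ncard F {x | h.OnLine x} (Set.toFinite _)
    rw [← hq₀def] at this
    omega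
  have hr3 : r = 3 := by
    have h1 : q₀ ^ r ≤ q₀ ^ 3 := by omega
    have h2 := (Nat.pow_le_pow_iff_right (by omega : 1 < q₀)).1 h1
    have h3 := hord.two_le
    have hodd := ker_orderOf_odd h hv
    rw [← hrdef] at hodd
    rcases hodd with ⟨j, hj⟩
    omega
  rw [hr3] at hq hvr hwr hτr
  have hFeq : F.ncard = q₀ ^ 3 + 1 := by omega
  -- `3 ∣ q₀ + 1`
  have hκ3 : κ ^ 3 = 1 := by
    rw [pow_three, hκdef, ← c.kappa_mul hv hv, ← c.kappa_mul hv (mul_mem hv hv), ← pow_three, hvr,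
      c.kappa_one]
  have hκ1 : κ ≠ 1 := fun e => hκF (by rw [e]; exact M.inF_one)
  have h3q : 3 ∣ M.q + 1 := by
    haveI : Fact (Nat.Prime 3) := ⟨Nat.prime_three⟩
    rw [← orderOf_eq_prime hκ3 hκ1]
    exact orderOf_dvd_of_pow_eq_one (by rw [pow_succ]; exact c.norm_kappa hv)
  obtain ⟨j, hj⟩ := exists_three_mul_add_two (hq ▸ h3q : 3 ∣ q₀ ^ 3 + 1)
  have h9 : 9 ∣ M.q + 1 := ⟨3 * j ^ 3 + 6 * j ^ 2 + 4 * j + 1, by rw [hq, hj]; ring⟩
  -- an element of order nine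
  obtain ⟨η, hη, hη3⟩ : ∃ η : E, orderOf η = 9 ∧ η ^ 3 = κ := by
    obtain ⟨η, hη⟩ := M.exists_orderOf h9
    have h1 : η ^ 9 = 1 := by rw [← hη]; exact pow_orderOf_eq_one η
    have h2 : η ^ 3 ≠ 1 := fun e => by
      have := orderOf_dvd_of_pow_eq_one e
      rw [hη] at this
      norm_num at this
    have hκ2 : κ ^ 2 + κ + 1 = 0 := by
      have : (κ - 1) * (κ ^ 2 + κ + 1) = 0 := by linear_combination hκ3
      exact (mul_eq_zero.1 this).resolve_left (sub_ne_zero.2 hκ1)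
    have h4 : (η ^ 3 - 1) * ((η ^ 3 - κ) * (η ^ 3 - κ * κ)) = 0 := by
      linear_combination h1 - hκ3 + (κ * η ^ 3 - η ^ 6) * hκ2
    rcases mul_eq_zero.1 ((mul_eq_zero.1 h4).resolve_left (sub_ne_zero.2 h2)) with e' | e'
    · exact ⟨η, hη, sub_eq_zero.1 e'⟩
    · refine ⟨η ^ 2, ?_, ?_⟩
      · rw [Nat.Coprime.orderOf_pow (by rw [hη]; norm_num), hη]
      · rw [← pow_mul, mul_comm, pow_mul, sub_eq_zero.1 e']
        linear_combination κ * hκ3
  have hηq : η ^ (M.q + 1) = 1 := orderOf_dvd_iff_pow_eq_one.1 (hη ▸ h9)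
  obtain ⟨p', hp', hp'vec⟩ := c.vec_surj (hnorm hηq)
  obtain ⟨h', hh', hh'p⟩ := M.trans hp hp'
  have hh'P : M.phi h' P = sm η P := by rw [hPdef, ← c.vec_smul hh' hp, hh'p, hp'vec]
  have heq : ∀ g g', g ∈ M.lGrp → g' ∈ M.lGrp → M.phi g P = M.phi g' P → g = g' := by
    intro g g' hg hg' e'
    refine (inv_mul_eq_one.1 (M.stab_trivial (M.lGrp.mul_mem (M.lGrp.inv_mem hg) hg') hP ?_))
    rw [M.phi_mul (M.lGrp.inv_mem hg) hg', ← e', ← M.phi_mul (M.lGrp.inv_mem hg) hg, inv_mul_cancel,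
      M.phi_one]
  have hh3 : h' ^ 3 = τ := heq _ _ (pow_mem hh' 3) hτ (by
    rw [pow_three, M.phi_mul hh' (M.lGrp.mul_mem hh' hh'), M.phi_mul hh' hh', hh'P, M.phi_sm hh',
      hh'P, sm_sm, M.phi_sm hh', hh'P, sm_sm, hτP, ← hη3]
    congr 1
    ring)
  have hh'v' : Commute h' v' := by
    rw [hv'def]
    refine Commute.mul_right (Commute.inv_right ?_) (M.ker_lGrp hv hh').symm
    rw [← hh3]
    exact Commute.self_pow h' 3
  -- in the centraliser of `w`
  set C := Subgroup.centralizer ({w} : Set G) with hCdef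
  have hC : ∀ {g : G}, g ∈ C ↔ w * g = g * w := fun {g} =>
    Subgroup.mem_centralizer_iff.trans ⟨fun e => e w rfl, fun e x hx => by
      rw [Set.mem_singleton_iff.1 hx]; exact e⟩
  have hmapF : ∀ g ∈ C, ∀ x ∈ F, g • x ∈ F := fun g hg x hx => by
    show w • (g • x) = g • x
    rw [← mul_smul, hC.1 hg, mul_smul, show w • x = x from hx]
  have h3F : ∃ b c' e : Ω, b ≠ c' ∧ b ≠ e ∧ c' ≠ e ∧
      ∀ x ∈ ({w} : Set G), x • b = b ∧ x • c' = c' ∧ x • e = e := by
    obtain ⟨z, hz, hz1⟩ : ∃ z, z ∈ F ∩ {x | h.OnLine x} ∧ (z ≠ a ∧ z ≠ t • a) := by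
      by_contra! hno
      have hsub : F ∩ {x | h.OnLine x} ⊆ {a, t • a} := fun z hz => by
        by_cases hza : z = a
        · exact Or.inl hza
        · exact Or.inr (hno z hz hza)
      have := Set.ncard_le_ncard hsub (Set.toFinite _)
      rw [Set.ncard_pair (t_smul_ne hS).symm, hFB] at this
      omega
    refine ⟨a, t • a, z, (t_smul_ne hS).symm, hz1.1.symm, hz1.2.symm, fun x hx => ?_⟩
    rw [Set.mem_singleton_iff.1 hx]
    exact ⟨hwV.1.1, hwV.1.2, hz.1⟩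
  have hcardC := card_of_pairs h C F hwV.1.1 hwV.1.2 hmapF (fun x hx y hy hxy => by
    have mfix : ∀ z ∈ F, z ∈ fixedSet ({w} : Set G) Ω := fun z hz g hg => by
      rw [Set.mem_singleton_iff.1 hg]; exact hz
    exact centralizer_two_trans hS (Set.singleton_subset_iff.2 hwV.1) h3F (mfix a hwV.1.1)
      (mfix _ hwV.1.2) (mfix x hx) (mfix y hy) (t_smul_ne hS).symm hxy)
  set C' := C ⊓ Subgroup.centralizer ({v} : Set G) with hC'def
  have hC' : ∀ {g : G}, g ∈ C' ↔ w * g = g * w ∧ v * g = g * v := fun {g} =>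
    and_congr hC (Subgroup.mem_centralizer_iff.trans ⟨fun e => e v rfl, fun e x hx => by
      rw [Set.mem_singleton_iff.1 hx]; exact e⟩)
  have hcardC' := card_of_pairs h C' (F ∩ {x | h.OnLine x}) ⟨hwV.1.1, Or.inl rfl⟩
    ⟨hwV.1.2, Or.inr ⟨1, one_mem _, by rw [one_smul]⟩⟩
    (fun g hg x hx => ⟨hmapF g hg.1 x hx.1, (fix_iff_onLine hv hv1).1 (by
      rw [← mul_smul, (hC'.1 hg).2, mul_smul, onLine_ker hv hx.2])⟩)
    (fun x hx y hy hxy => by
      have hgen : ∀ z ∈ zSub h, w * z * w⁻¹ = z → z ∈ C' := fun z hz hzw =>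
        hC'.2 ⟨mul_inv_eq_iff_eq_mul.1 hzw, mul_inv_eq_iff_eq_mul.1 (ker_z h hv hz)⟩
      have htC : t ∈ C' := hC'.2 ⟨vGrp_t hwV, (ker_t h hv).symm⟩
      have hzfix : ∀ z ∈ zSub h, z • (t • a) ∈ F → w * z * w⁻¹ = z := fun z hz hzF => by
        refine Q_smul_inj hS (zSub_le h (z_conj_mem h hz hwV.1.1)) (zSub_le h hz) (t_smul_ne hS) ?_
        rw [← conj_smul_b hwV.1]
        exact hzF
      obtain ⟨g, hg, hgx⟩ : ∃ g ∈ C', g • a = x := by
        rcases hx.2 with rfl | ⟨z, hz, rfl⟩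
        · exact ⟨1, one_mem _, one_smul _ _⟩
        · exact ⟨z * t, mul_mem (hgen z hz (hzfix z hz hx.1)) htC, mul_smul _ _ _⟩
      have hg' := C'.inv_mem hg
      rcases (fix_iff_onLine hv hv1).1 (show v • (g⁻¹ • y) = g⁻¹ • y by
        rw [← mul_smul, (hC'.1 hg').2, mul_smul, onLine_ker hv hy.2]) with e' | ⟨z, hz, e'⟩
      · exact absurd (smul_left_cancel g⁻¹ (e'.trans (inv_smul_eq_iff.2 hgx.symm).symm)).symm hxy
      · refine ⟨g * z, mul_mem hg (hgen z hz (hzfix z hz (e' ▸ hmapF _ hg'.1 y hy.1))), ?_, ?_⟩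
        · rw [mul_smul, hz.1, hgx]
        · rw [mul_smul, ← e', smul_inv_smul])
  have hDeq : C' ⊓ twoStab G a t = C ⊓ twoStab G a t :=
    le_antisymm (inf_le_inf_right _ inf_le_left) fun g hg => ⟨hC'.2 ⟨hC.1 hg.1,
      (c.comm_three hg.2 hv hvr).symm⟩, hg.2⟩
  have hwv : w * v = v * w := c.comm_three hwV.1 hv hvr
  set S := (Subgroup.centralizer ({v} : Set G)).subgroupOf C with hSdef
  have hcardS : Nat.card S = Nat.card C' :=
    Nat.card_congr ⟨fun g => ⟨g.1.1, g.1.2, g.2⟩, fun g => ⟨⟨g.1, g.2.1⟩, g.2.2⟩,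
      fun g => rfl, fun g => rfl⟩
  have hidx : S.index * (q₀ + 1) = (q₀ ^ 3 + 1) * q₀ ^ 2 := by
    have h1 := S.index_mul_card
    rw [hcardS, hcardC', hcardC, hDeq, hFB, hFeq,
      show (q₀ + 1) * (q₀ + 1) - (q₀ + 1) = (q₀ + 1) * q₀ by rw [← Nat.mul_sub_one]; simp,
      show (q₀ ^ 3 + 1) * (q₀ ^ 3 + 1) - (q₀ ^ 3 + 1) = (q₀ ^ 3 + 1) * q₀ ^ 3 by
        rw [← Nat.mul_sub_one]; simp] at h1
    have hpos : 0 < q₀ * Nat.card ↥(C ⊓ twoStab G a t : Subgroup G) :=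
      Nat.mul_pos (by omega) Nat.card_pos
    refine Nat.eq_of_mul_eq_mul_right hpos ?_
    linear_combination h1
  have h9i : ¬ 9 ∣ S.index := by
    rintro ⟨i, hi⟩
    rw [hi, hj] at hidx
    have h1 : 3 * i = (3 * j ^ 2 + 3 * j + 1) * (3 * j + 2) ^ 2 := by
      refine Nat.eq_of_mul_eq_mul_right (show 0 < 9 * (j + 1) by omega) ?_
      linear_combination hidx
    exact not_nine_aux i j h1
  set H₀ := g₀⁻¹ * h' * g₀ with hH₀def
  have hH₀C : H₀ ∈ C := by
    rw [hC, hH₀def, show w = g₀⁻¹ * v' * g₀ by rw [← hgw]; group]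
    calc g₀⁻¹ * v' * g₀ * (g₀⁻¹ * h' * g₀) = g₀⁻¹ * (v' * h') * g₀ := by group
      _ = g₀⁻¹ * (h' * v') * g₀ := by rw [hh'v'.eq]
      _ = _ := by group
  set τ₀ := g₀⁻¹ * τ * g₀ with hτ₀def
  have hH3 : H₀ ^ 3 = τ₀ := by
    rw [hH₀def, show g₀⁻¹ * h' * g₀ = g₀⁻¹ * h' * g₀⁻¹⁻¹ by group, conj_pow, hh3, hτ₀def, inv_inv]
  obtain ⟨g, hg, hgτ⟩ : ∃ g ∈ C, Commute τ₀ (g * v * g⁻¹) := by
    by_contra! hno
    refine h9i ?_
    set Z := Subgroup.zpowers (⟨H₀, hH₀C⟩ : C) with hZdef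
    have hZcard : Nat.card Z = 9 := by
      rw [hZdef, Nat.card_zpowers, ← orderOf_submonoid]
      haveI : Fact (Nat.Prime 3) := ⟨Nat.prime_three⟩
      refine orderOf_eq_prime_pow (p := 3) (n := 1) ?_ ?_
      · rw [pow_one]
        show ¬ H₀ ^ 3 = 1
        rw [hH3, hτ₀def, mul_eq_one_iff_eq_inv, mul_eq_left]
        intro e'
        apply hκ1
        refine sm_inj hP ?_
        rw [← hτP, e', M.phi_one, sm_one]
      · show H₀ ^ 3 ^ 2 = 1
        rw [show (3 : ℕ) ^ 2 = 3 * 3 by norm_num, pow_mul, hH3, hτ₀def,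
          show g₀⁻¹ * τ * g₀ = g₀⁻¹ * τ * g₀⁻¹⁻¹ by group, conj_pow, hτr, mul_one, mul_inv_cancel]
    have hfree : ∀ b : C ⧸ S, MulAction.stabilizer Z b = ⊥ := by
      intro b
      by_contra hne
      haveI : Fact (Nat.Prime 3) := ⟨Nat.prime_three⟩
      have h3d : 3 ∣ Nat.card (MulAction.stabilizer Z b) :=
        three_dvd_of_dvd_nine (hZcard ▸ Subgroup.card_subgroup_dvd_card _)
          fun e' => hne (Subgroup.card_eq_one.1 e')
      obtain ⟨x, hx⟩ := exists_prime_orderOf_dvd_card' 3 h3d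
      obtain ⟨i, hi⟩ : ∃ i : ℕ, (⟨H₀, hH₀C⟩ : C) ^ i = ((x : Z) : C) :=
        mem_powers_iff_mem_zpowers.2 (x : Z).2
      have hxo : orderOf ((x : Z) : C) = 3 := by
        rw [orderOf_submonoid, orderOf_submonoid, hx]
      have hHo : orderOf (⟨H₀, hH₀C⟩ : C) = 9 := by rw [← Nat.card_zpowers]; exact hZcard
      have h3i : 3 ∣ i := by
        have : (⟨H₀, hH₀C⟩ : C) ^ (i * 3) = 1 := by rw [pow_mul, hi, ← hxo, pow_orderOf_eq_one]
        have := orderOf_dvd_of_pow_eq_one this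
        rw [hHo] at this
        exact (Nat.mul_dvd_mul_iff_right (show 0 < 3 by norm_num)).1 this
      obtain ⟨k, rfl⟩ := h3i
      have hxb : ((x : Z) : C) • b = b := x.2
      obtain ⟨g, rfl⟩ := QuotientGroup.mk_surjective b
      rw [MulAction.Quotient.smul_mk, QuotientGroup.eq, Subgroup.mem_subgroupOf,
        Subgroup.mem_centralizer_singleton_iff] at hxb
      have hx3 : (((x : Z) : C) : G) = τ₀ ^ k := by
        rw [← hi, SubmonoidClass.coe_pow, pow_mul, hH3]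
      simp only [smul_eq_mul, Subgroup.coe_mul, Subgroup.coe_inv, hx3] at hxb
      have hcom : Commute (τ₀ ^ k) ((g : G) * v * (g : G)⁻¹) := by
        have h1 : Commute ((g : G)⁻¹ * (τ₀ ^ k)⁻¹ * g) v := by
          show _ * v = v * _
          calc (g : G)⁻¹ * (τ₀ ^ k)⁻¹ * g * v = (τ₀ ^ k * g)⁻¹ * g * v := by group
            _ = v * ((τ₀ ^ k * g)⁻¹ * g) := hxb
            _ = _ := by group
        have h2 : Commute ((g : G) * ((g : G)⁻¹ * (τ₀ ^ k)⁻¹ * g) * (g : G)⁻¹)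
            ((g : G) * v * (g : G)⁻¹) := (h1.map (MulAut.conj (g : G)).toMonoidHom)
        rw [show (g : G) * ((g : G)⁻¹ * (τ₀ ^ k)⁻¹ * g) * (g : G)⁻¹ = (τ₀ ^ k)⁻¹ by group] at h2
        exact Commute.inv_left_iff.1 h2
      refine hno g g.2 ?_
      have hk3 : ¬ 3 ∣ k := by
        rintro ⟨m, rfl⟩
        have : ((x : Z) : C) = 1 := by
          rw [← hi, show 3 * (3 * m) = 9 * m by ring, pow_mul, ← hHo, pow_orderOf_eq_one, one_pow]
        rw [this, orderOf_one] at hxo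
        norm_num at hxo
      have hτ03 : τ₀ ^ 3 = 1 := by
        rw [hτ₀def, show g₀⁻¹ * τ * g₀ = g₀⁻¹ * τ * g₀⁻¹⁻¹ by group, conj_pow, hτr, mul_one,
          mul_inv_cancel]
      have hkk : τ₀ = (τ₀ ^ k) ^ k := by
        rw [← pow_mul, ← Nat.mod_add_div (k * k) 3, pow_add, pow_mul τ₀ 3, hτ03, one_pow, mul_one]
        rw [sq_mod_three hk3, pow_one]
      rw [hkk]
      exact hcom.pow_left k
    haveI : Finite (Quotient (MulAction.orbitRel Z (C ⧸ S))) := inferInstance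
    rw [Subgroup.index, Nat.card_congr (MulAction.selfEquivOrbitsQuotientProd hfree), Nat.card_prod,
      hZcard]
    exact dvd_mul_left _ _
  -- the conjugate commuting with `τ` and `v`
  set cc := g₀ * g with hccdef
  set u := cc * v * cc⁻¹ with hudef
  have hu : u = g₀ * (g * v * g⁻¹) * g₀⁻¹ := by rw [hudef, hccdef]; group
  have huτ : Commute u τ := by
    have h1 : Commute (g₀ * (g * v * g⁻¹) * g₀⁻¹) (g₀ * τ₀ * g₀⁻¹) :=
      hgτ.symm.map (MulAut.conj g₀).toMonoidHom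
    rw [← hu, show g₀ * τ₀ * g₀⁻¹ = τ by rw [hτ₀def]; group] at h1
    exact h1
  have huv' : Commute u v' := by
    have hgw' : Commute g w := (hC.1 hg).symm
    have h0 : Commute (g * v * g⁻¹) w :=
      (hgw'.mul_left hwv.symm).mul_left hgw'.inv_left
    have h1 : Commute (g₀ * (g * v * g⁻¹) * g₀⁻¹) (g₀ * w * g₀⁻¹) :=
      h0.map (MulAut.conj g₀).toMonoidHom
    rw [← hu, hgw] at h1
    exact h1
  have huv : Commute u v := by
    have h1 := huτ.mul_right huv'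
    rwa [hv'def, mul_inv_cancel_left] at h1
  have hcca : h.Off (cc • a) := by
    by_contra hn
    refine hv'line _ (not_off.1 hn) ?_
    rw [show cc • a = g₀ • g • a from mul_smul g₀ g a]
    exact hFx.1 (hmapF g hg a hwV.1.1)
  have hline := fun (x : Ω) (hx : h.OnLine x) =>
    M.no_fix_onLine hv hv1 hvr h3q huv.eq hcca hx
  have huB : ∀ x, h.OnLine x → h.OnLine (u • x) := fun x hx => (fix_iff_onLine hv hv1).1 (by
    rw [← mul_smul, ← huv.eq, mul_smul, onLine_ker hv hx])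
  obtain ⟨l₀, hl₀, hl₀a, hl₀b⟩ := M.exists_line_pair (huB a (Or.inl rfl))
    (huB (t • a) (Or.inr ⟨1, one_mem _, by rw [one_smul]⟩))
    (fun e' => (t_smul_ne hS).symm (smul_left_cancel u e'))
  obtain ⟨cd, hcd, k, hk, hct, hdec⟩ := exists_CK hS (d := l₀⁻¹ * u)
    (mem_twoStab.2 ⟨by rw [mul_smul, ← hl₀a, inv_smul_smul], by rw [mul_smul, ← hl₀b, inv_smul_smul]⟩)
  have hcdV : cd ∈ vGrp a t := (centralizer_t_iff hS).2 ⟨hcd, hct⟩
  set l := l₀ * (cd * k * cd⁻¹) with hldef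
  have hl : l ∈ M.lGrp := M.lGrp.mul_mem hl₀ (M.k_mem_lGrp (k_conj h hcd hk))
  have hul : u = l * cd := by
    calc u = l₀ * (l₀⁻¹ * u) := by group
      _ = _ := by rw [hdec, hldef]; group
  by_cases hcK : cd ∈ vKer a t
  · -- `u` would fix every fixed point of `v'`
    have hlτ : Commute l τ := by
      have h1 : Commute (u * cd⁻¹) τ :=
        huτ.mul_left (show Commute cd τ from M.ker_lGrp hcK hτ).inv_left
      rwa [hul, mul_inv_cancel_right] at h1
    obtain ⟨α, hα⟩ := M.eig_line hτ hP hκF hτP (x := M.phi l P) (by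
      rw [← M.phi_mul hτ hl, ← hlτ.eq, M.phi_mul hl hτ, hτP, M.phi_sm hl])
    have key : ∀ x ∈ F, h.Off (g₀ • x) ∧ ∃ β, c.vec (g₀ • x) = sm β P ∧
        c.vec (u • g₀ • x) = sm (c.kappa cd * α) (c.vec (g₀ • x)) := by
      intro x hx
      have hoff : h.Off (g₀ • x) := by_contra fun hn => hv'line _ (not_off.1 hn) (hFx.1 hx)
      obtain ⟨β, hβ⟩ := M.eig_line hτ hP hκF hτP (x := c.vec (g₀ • x))
        ((hfix' _ hoff).1 (hFx.1 hx))
      refine ⟨hoff, β, hβ, ?_⟩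
      rw [hul, mul_smul, c.vec_smul hl (off_ker hcK hoff), c.vec_ker hcK hoff, hβ, M.phi_sm hl,
        M.phi_sm hl, hα, sm_sm, sm_sm, sm_sm]
      congr 1
      ring
    obtain ⟨hoff, β, hβ, hu1⟩ := key _ (hmapF g hg a hwV.1.1)
    have hcc : g₀ • g • a = cc • a := (mul_smul g₀ g a).symm
    have hfixc : u • cc • a = cc • a := by
      rw [hudef, conj_smul_eq_iff, inv_smul_smul]; exact hv.1.1
    rw [hcc] at hu1
    rw [hfixc] at hu1
    have hone : c.kappa cd * α = 1 := sm_inj (c.form_vec hcca) (by rw [← hu1, sm_one])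
    have hall : ∀ x ∈ F, h.OnLine x := fun x hx => by
      have hx' := hmapF g hg x hx
      obtain ⟨hoff', β', hβ', hu'⟩ := key _ hx'
      rw [hone, sm_one] at hu'
      have hfix2 : u • (g₀ • g • x) = g₀ • g • x := by
        by_cases hon : h.Off (u • (g₀ • g • x))
        · exact c.vec_inj hon hoff' hu'
        · refine absurd ?_ hon
          rw [hul, mul_smul]
          exact M.off_smul hl (off_ker hcK hoff')
      rw [show g₀ • g • x = cc • x from (mul_smul g₀ g x).symm, hudef, conj_smul_eq_iff,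
        inv_smul_smul] at hfix2
      exact (fix_iff_onLine hv hv1).1 hfix2
    have hsub : F ⊆ F ∩ {x | h.OnLine x} := fun x hx => ⟨hx, hall x hx⟩
    have h1 := Set.ncard_le_ncard hsub (Set.toFinite _)
    rw [hFB, hFeq] at h1
    omega
  · have hu3 : (l * cd) ^ 3 = 1 := by
      rw [← hul, hudef, conj_pow, hvr, mul_one, mul_inv_cancel]
    obtain ⟨x, hx, hxu⟩ := M.exists_fix_onLine hl hcdV hcK hu3
    refine hline x hx ?_
    rw [← hudef, hul]
    exact hxu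

end Cfsg.Agent.Lib.BenderSuzuki.Coords
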