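import Cfsg.Agent.Lib.BenderSuzuki.Coords.Assemble
import Cfsg.Agent.Lib.BenderSuzuki.Coords.Galois

/-!
# Bender–Suzuki §9: coordinates on `Q`
-/

set_option autoImplicit false

namespace Cfsg.Agent.Lib.BenderSuzuki.Coords

universe w z

/-- §9 Coordinates when `|Q| = q³`. -/
theorem propCoords : PropCoords.{w, z} :=
  propCoords_of_fixer fun _ _ _ _ _ _ _ _ _ _ _ _ c _ hv hv1 hord _ hp =>
    c.exists_fixer hv hv1 hord hp

end Cfsg.Agent.Lib.BenderSuzuki.Coords
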