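import Cfsg.Agent.Lib.BenderSuzuki.Coords.Cocycle

/-!
# Bender–Suzuki §9: the coordinates, given the fixed point statement
-/

set_option autoImplicit false

namespace Cfsg.Agent.Lib.BenderSuzuki.Coords

open MulAction Cfsg.Agent.Lib.RankOne.Basic Cfsg.Agent.Lib.RankOne.Involution

universe u v

variable {G : Type u} {Ω : Type v} [Group G] [Finite G] [MulAction G Ω] {a : Ω} {t : G}
  {Q : Subgroup G} {h : Ctx G Ω a t Q} {E : Type} [Field E] {M : Mod h E} (c : M.Chart)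

/-- The pair of coordinates. -/
noncomputable def Mod.Chart.coord (x : G) : E × E := (c.theta x, c.dd x)

theorem Mod.Chart.coords (hs : M.HasFixer) : Coords G a t Q E (qNum G a) c.coord := by
  rw [M.qNum_eq]
  refine ⟨⟨fun x hx => ?_, fun x hx y hy e => ?_, ?_⟩, fun x hx y hy => ?_, fun l hl hl0 => ?_, ?_⟩
  · show c.dd x + c.dd x ^ M.q = c.theta x ^ (M.q + 1)
    rw [add_comm, c.trace hx, pow_succ]
  · obtain ⟨e1, e2⟩ := Prod.mk.injEq _ _ _ _ ▸ (show (c.theta x, c.dd x) = (c.theta y, c.dd y) from e)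
    obtain ⟨z, hz, rfl⟩ := c.coset hx hy e1
    rw [(c.theta_zmul hz hx).2] at e2
    have hz0 : M.zeta z = 0 := by linear_combination -e2
    rw [M.zeta_inj z hz 1 (one_mem _) (hz0.trans M.zeta_one.symm), one_mul]
  · rintro ⟨θ, d⟩ (hd : d + d ^ M.q = θ ^ (M.q + 1))
    rw [pow_succ, add_comm] at hd
    by_cases hθ : θ = 0
    · subst hθ
      rw [mul_zero] at hd
      obtain ⟨z, hz, rfl⟩ := M.zeta_surj d (M.eq_of_add hd)
      exact ⟨z, zSub_le h hz, Prod.ext (c.theta_z hz) (c.dd_z hz)⟩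
    · obtain ⟨x, hx, -, h1, h2⟩ := c.exists_of_trace hθ hd
      exact ⟨x, hx, Prod.ext h1 h2⟩
  · obtain ⟨h1, h2⟩ := c.mul_law hs hx hy
    exact Prod.ext h1 h2
  · obtain ⟨k, hk, rfl⟩ := M.exists_mu hl hl0
    refine ⟨k, hk, fun x hx => ?_⟩
    obtain ⟨h1, h2⟩ := c.theta_k hk hx
    exact Prod.ext h1 (by rw [M.mu_sq hk]; exact h2)
  · obtain ⟨v, hv, hv1, -⟩ := exists_prime_ker h
    have hvV : v ∈ vGrp a t :=
      ⟨hv.1, Subgroup.mem_centralizer_iff.2 fun g hg => by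
        rw [Set.mem_singleton_iff.1 hg]; exact ker_t h hv⟩
    refine ⟨v, (c.kappa v)⁻¹, hvV, ?_, ?_, fun x hx => ?_⟩
    · intro e
      exact hv1 (c.kappa_inj hv (one_mem _) (by rw [c.kappa_one, inv_eq_one.1 e]))
    · rw [pow_succ, inv_pow, ← mul_inv, c.norm_kappa hv, inv_one]
    · obtain ⟨h1, h2⟩ := c.theta_ker hv hx
      exact Prod.ext h1 h2

/-- §9, given the fixed point statement. -/
theorem propCoords_of_fixer.{w, z}
    (hgal : ∀ (G : Type w) (Ω : Type z) [Group G] [Finite G] [MulAction G Ω] (a : Ω) (t : G)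
      (Q : Subgroup G) (h : Ctx G Ω a t Q) (E : Type) [Field E] (M : Mod h E),
        M.Chart → M.HasFixer) :
    PropCoords.{w, z} := by
  intro G Ω _ _ _ a t Q hyp htwo hcard hker
  have h : Ctx G Ω a t Q := ⟨hyp, htwo, hcard, hker⟩
  obtain ⟨E, inst, ⟨M⟩⟩ := exists_mod h
  obtain ⟨c⟩ := M.exists_chart
  haveI := M.finite
  letI := Fintype.ofFinite E
  refine ⟨E, inst, Fintype.ofFinite E, c.coord, ?_, c.coords (hgal G Ω a t Q h E M c)⟩
  rw [← Nat.card_eq_fintype_card, M.card, M.qNum_eq]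

end Cfsg.Agent.Lib.BenderSuzuki.Coords
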