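import Cfsg.Agent.Lib.BenderSuzuki.Interface
import Cfsg.Agent.Lib.FTDeps.RankOneCore
import Cfsg.Agent.Lib.OddOrder.FeitThompson
import Cfsg.Agent.S1137
import Cfsg.Agent.S1138

/-!
# Bender–Suzuki §9: first consequences of `|Q| = q³` and `V₀ ≠ 1`
-/

set_option autoImplicit false

namespace Cfsg.Agent.Lib.BenderSuzuki.Coords

open MulAction Cfsg.Agent.Lib.RankOne.Basic Cfsg.Agent.Lib.RankOne.Involution
  Cfsg.Agent.Lib.RankOne.Nilpotent
open Cfsg.Agent.Lib.FTDeps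

universe u v

variable {G : Type u} {Ω : Type v} [Group G] [Finite G] [MulAction G Ω] {a : Ω} {t : G}
  {Q : Subgroup G}

/-- The hypotheses of §9. -/
structure Ctx (G : Type u) (Ω : Type v) [Group G] [MulAction G Ω] (a : Ω) (t : G) (Q : Subgroup G) :
    Prop where
  hyp : Hyp G Ω a t Q
  two : IsPGroup 2 Q
  card : Nat.card Q = qNum G a ^ 3
  ker : vKer a t ≠ ⊥

variable (h : Ctx G Ω a t Q)
include h

theorem setup : Cfsg.IsRankOneSetup G Ω a t Q := h.hyp.setup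

/-- The involutions fixing `a`, with the identity. -/
def zSub : Subgroup G := RankOneCore.invSub h.hyp.setup h.hyp.twoRank

theorem mem_zSub {x : G} : x ∈ zSub h ↔ x • a = a ∧ x * x = 1 := Iff.rfl

theorem zSub_le : zSub h ≤ Q := fun _ hx => involutions_stab_mem_Q (setup h) hx.1 hx.2

theorem z_sq {z : G} (hz : z ∈ zSub h) : z * z = 1 := hz.2

theorem z_inv {z : G} (hz : z ∈ zSub h) : z⁻¹ = z := inv_eq_self_of_sq hz.2

theorem invs_of_z {z : G} (hz : z ∈ zSub h) (hz1 : z ≠ 1) : z ∈ invs G a := ⟨hz.1, hz1, hz.2⟩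

theorem z_of_invs {z : G} (hz : z ∈ invs G a) : z ∈ zSub h := ⟨hz.1, hz.2.2⟩

theorem card_zSub : Nat.card (zSub h) = qNum G a := by
  have e : (zSub h : Set G) = insert 1 (invs G a) := by
    ext x
    refine ⟨fun hx => ?_, ?_⟩
    · by_cases hx1 : x = 1
      · exact Or.inl hx1
      · exact Or.inr (invs_of_z h hx hx1)
    · rintro (rfl | hx)
      · exact (zSub h).one_mem
      · exact z_of_invs h hx
  rw [show Nat.card (zSub h) = (zSub h : Set G).ncard from Nat.card_coe_set_eq _, e,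
    Set.ncard_insert_of_notMem (fun hx => hx.2.1 rfl) (Set.toFinite _)]
  rw [qNum, Nat.card_coe_set_eq]

theorem z_comm {z x : G} (hz : z ∈ zSub h) (hx : x ∈ Q) : z * x = x * z := by
  by_cases hz1 : z = 1
  · simp [hz1]
  · exact (involution_central (setup h) h.hyp.twoRank (invs_of_z h hz hz1)).2 x hx

theorem z_conj_mem {z d : G} (hz : z ∈ zSub h) (hd : d • a = a) : d * z * d⁻¹ ∈ zSub h := by
  refine ⟨(stabilizer G a).mul_mem ((stabilizer G a).mul_mem hd hz.1) ((stabilizer G a).inv_mem hd), ?_⟩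
  rw [show d * z * d⁻¹ * (d * z * d⁻¹) = d * (z * z) * d⁻¹ by group, hz.2, mul_one, mul_inv_cancel]

omit [Finite G] h in
theorem kSet_le {k : G} (hk : k ∈ kSet a t) : k ∈ twoStab G a t := hk.1

theorem k_comm {k l : G} (hk : k ∈ kSet a t) (hl : l ∈ kSet a t) : k * l = l * k := by
  obtain ⟨C, hC, hcyc, -⟩ := RankOneCore.inverted_cyclic (setup h) h.hyp.twoRank
    (fun X _ _ hX => Lib.OddOrder.FeitThompson.isSolvable_of_odd_card (G := X) hX)
  have hkC : k ∈ C := by rw [← SetLike.mem_coe, hC]; exact hk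
  have hlC : l ∈ C := by rw [← SetLike.mem_coe, hC]; exact hl
  haveI := hcyc
  exact congrArg Subtype.val (IsCyclic.commutative.is_comm.comm (⟨k, hkC⟩ : C) ⟨l, hlC⟩)

theorem k_one : (1 : G) ∈ kSet a t := ⟨(twoStab G a t).one_mem, by simp⟩

theorem k_inv {k : G} (hk : k ∈ kSet a t) : k⁻¹ ∈ kSet a t := invertedBy_inv (setup h) hk

theorem k_mul {k l : G} (hk : k ∈ kSet a t) (hl : l ∈ kSet a t) : k * l ∈ kSet a t := by
  refine ⟨(twoStab G a t).mul_mem hk.1 hl.1, ?_⟩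
  rw [← conj_mul, hk.2, hl.2, ← mul_inv_rev, k_comm h hk hl]

theorem k_conj {d k : G} (hd : d ∈ twoStab G a t) (hk : k ∈ kSet a t) :
    d * k * d⁻¹ ∈ kSet a t := by
  obtain ⟨C, hC, -, hn⟩ := RankOneCore.inverted_cyclic (setup h) h.hyp.twoRank
    (fun X _ _ hX => Lib.OddOrder.FeitThompson.isSolvable_of_odd_card (G := X) hX)
  have hkC : k ∈ C := by rw [← SetLike.mem_coe, hC]; exact hk
  have := hn d hd k hkC
  rw [← SetLike.mem_coe, hC] at this
  exact this

theorem t_inv' : t⁻¹ = t := t_inv (setup h)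

theorem tk {k : G} (hk : k ∈ kSet a t) : t * k = k⁻¹ * t := t_mul_inverted (setup h) hk

theorem k_unique {z k l : G} (hz : z ∈ zSub h) (hz1 : z ≠ 1) (hk : k ∈ kSet a t) (hl : l ∈ kSet a t)
    (he : k * z * k⁻¹ = l * z * l⁻¹) : k = l :=
  (existsUnique_K (setup h) (invs_of_z h hz hz1)
    (invs_of_z h (z_conj_mem h hz hl.1.1) (fun e => hz1 (by simpa using e)))).unique
    ⟨hk, he⟩ ⟨hl, rfl⟩

theorem exists_k {z z' : G} (hz : z ∈ zSub h) (hz1 : z ≠ 1) (hz' : z' ∈ zSub h) (hz'1 : z' ≠ 1) :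
    ∃ k ∈ kSet a t, k * z * k⁻¹ = z' :=
  (existsUnique_K (setup h) (invs_of_z h hz hz1) (invs_of_z h hz' hz'1)).exists

/-! ### Elements of `V₀` -/

omit [Finite G] h in
theorem ker_mem_D {v : G} (hv : v ∈ vKer a t) : v ∈ twoStab G a t := hv.1

theorem ker_z {v z : G} (hv : v ∈ vKer a t) (hz : z ∈ zSub h) : v * z * v⁻¹ = z := by
  by_cases hz1 : z = 1
  · simp [hz1]
  · rw [mul_inv_eq_iff_eq_mul]
    exact (Subgroup.mem_centralizer_iff.1 hv.2 z (invs_of_z h hz hz1)).symm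

theorem ker_t {v : G} (hv : v ∈ vKer a t) : t * v = v * t :=
  mul_inv_eq_iff_eq_mul.1 (RankOneCore.kernel_fixed (setup h) h.hyp.twoRank hv.1 hv.2).1

theorem ker_k {v k : G} (hv : v ∈ vKer a t) (hk : k ∈ kSet a t) : k * v = v * k :=
  (RankOneCore.kernel_fixed (setup h) h.hyp.twoRank hv.1 hv.2).2 k hk

theorem ker_orderOf_odd {v : G} (hv : v ∈ vKer a t) : Odd (orderOf v) :=
  Odd.of_dvd_nat (setup h).odd_card (by
    rw [← Subgroup.orderOf_mk v hv.1]; exact orderOf_dvd_natCard _)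

theorem ker_conj {d v : G} (hd : d ∈ twoStab G a t) (hv : v ∈ vKer a t) :
    d * v * d⁻¹ ∈ vKer a t := by
  refine ⟨(twoStab G a t).mul_mem ((twoStab G a t).mul_mem hd hv.1) ((twoStab G a t).inv_mem hd),
    Subgroup.mem_centralizer_iff.2 fun s hs => ?_⟩
  have h1 : d⁻¹ * s * d⁻¹⁻¹ ∈ zSub h :=
    z_conj_mem h (z_of_invs h hs) ((stabilizer G a).inv_mem hd.1)
  have h2 := ker_z h hv h1
  rw [inv_inv, mul_inv_eq_iff_eq_mul] at h2
  calc s * (d * v * d⁻¹) = d * (d⁻¹ * s * d * v) * d⁻¹ := by group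
    _ = d * (v * (d⁻¹ * s * d)) * d⁻¹ := by rw [h2]
    _ = d * v * d⁻¹ * s := by group

omit [Finite G] h in
theorem conj_pow_eq {v x z : G} (hvz : v * z * v⁻¹ = z) (he : v * x * v⁻¹ = x * z) (m : ℕ) :
    v ^ m * x * (v ^ m)⁻¹ = x * z ^ m := by
  induction m with
  | zero => simp
  | succ m ih =>
    calc v ^ (m + 1) * x * (v ^ (m + 1))⁻¹ = v * (v ^ m * x * (v ^ m)⁻¹) * v⁻¹ := by
          rw [pow_succ']; group
      _ = (v * x * v⁻¹) * (v * z ^ m * v⁻¹) := by rw [ih]; group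
      _ = x * z * z ^ m := by rw [he, ← conj_pow, hvz]
      _ = x * z ^ (m + 1) := by rw [pow_succ', mul_assoc]

/-- An element moved into its own coset of `Z₀` is fixed. -/
theorem ker_trick {v x z : G} (hv : v ∈ vKer a t) (hz : z ∈ zSub h) (he : v * x * v⁻¹ = x * z) :
    z = 1 := by
  have := conj_pow_eq (ker_z h hv hz) he (orderOf v)
  rw [pow_orderOf_eq_one, one_mul, inv_one, mul_one] at this
  obtain ⟨j, hj⟩ := ker_orderOf_odd h hv
  rw [hj, pow_succ, pow_mul, sq, z_sq h hz, one_pow, one_mul] at this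
  exact mul_left_cancel (a := x) (by rw [mul_one]; exact this.symm)

/-- A kernel element centralising `Q` is trivial. -/
theorem ker_eq_one {v : G} (hv : v ∈ vKer a t) (hc : ∀ x ∈ Q, v * x * v⁻¹ = x) : v = 1 := by
  haveI := h.hyp.faithful
  refine eq_of_smul_eq_smul (α := Ω) fun c => ?_
  rw [one_smul]
  by_cases hca : c = a
  · rw [hca]; exact hv.1.1
  · obtain ⟨x, hx, rfl⟩ := Q_trans (setup h) (t_smul_ne (setup h)) hca
    rw [← mul_smul, mul_inv_eq_iff_eq_mul.1 (hc x hx), mul_smul, (mem_twoStab.1 hv.1).2]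

/-- `Q` is a Suzuki 2-group: squares and commutators lie in `Z₀`. -/
theorem sq_and_comm : (∀ x ∈ Q, x * x ∈ zSub h) ∧
    ∀ x ∈ Q, ∀ y ∈ Q, x⁻¹ * y⁻¹ * x * y ∈ zSub h := by
  haveI : Fact (Nat.Prime 2) := ⟨Nat.prime_two⟩
  obtain ⟨S⟩ : Nonempty (Sylow 2 ↥Q) := inferInstance
  have htop : (S : Subgroup ↥Q) = ⊤ := (S.is_maximal' (h.two.to_subgroup ⊤) le_top).symm
  have hmem : ∀ x : ↥Q, x ∈ (S : Subgroup ↥Q) := fun x => htop ▸ Subgroup.mem_top x
  haveI := h.hyp.faithful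
  rcases RankOneCore.sylow_two (setup h) h.hyp.twoRank
      (fun X _ _ hX => Lib.OddOrder.FeitThompson.isSolvable_of_odd_card (G := X) hX)
      S with hab | hS
  · exfalso
    apply h.ker
    rw [Subgroup.eq_bot_iff_forall]
    intro v hv
    have hQc : ∀ x ∈ Q, ∀ y ∈ Q, x * y = y * x := fun x hx y hy =>
      congrArg (fun z : ↥(S : Subgroup ↥Q) => ((z : ↥Q) : G))
        (hab.is_comm.comm ⟨⟨x, hx⟩, hmem _⟩ ⟨⟨y, hy⟩, hmem _⟩)
    refine ker_eq_one h hv fun x hx => ?_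
    have key : ∀ n : ℕ, ∀ x ∈ Q, x ^ 2 ^ n = 1 → v * x * v⁻¹ = x := by
      intro n
      induction n with
      | zero => intro x _ hx1; rw [pow_zero, pow_one] at hx1; simp [hx1]
      | succ n ih =>
        intro x hx hx1
        have hvx : v * x * v⁻¹ ∈ Q := twoStab_norm (setup h) hv.1 hx
        have h2 := ih (x * x) (Q.mul_mem hx hx) (by rw [← sq, ← pow_mul, ← pow_succ', hx1])
        have hz : x⁻¹ * (v * x * v⁻¹) ∈ zSub h := by
          refine ⟨Q_fix (setup h) (Q.mul_mem (Q.inv_mem hx) hvx), ?_⟩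
          calc x⁻¹ * (v * x * v⁻¹) * (x⁻¹ * (v * x * v⁻¹))
              = (x⁻¹ * x⁻¹) * ((v * x * v⁻¹) * (v * x * v⁻¹)) := by
                have e := hQc (v * x * v⁻¹) hvx x⁻¹ (Q.inv_mem hx)
                exact Commute.mul_mul_mul_comm e _ _
            _ = (x⁻¹ * x⁻¹) * (v * (x * x) * v⁻¹) := by group
            _ = 1 := by rw [h2]; group
        have h3 := ker_trick h hv hz (x := x) (by group)
        rw [inv_mul_eq_one] at h3
        exact h3.symm
    obtain ⟨n, hn⟩ := h.two ⟨x, hx⟩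
    exact key n x hx (congrArg Subtype.val hn)
  · have hinv := (Cfsg.Agent.S1137.result hS).2
    have hq := Cfsg.Agent.S1138.result hS
    refine ⟨fun x hx => ?_, fun x hx y hy => ?_⟩
    · have h1 := hinv _ (hq.1 ⟨⟨x, hx⟩, hmem _⟩)
      exact ⟨Q_fix (setup h) (Q.mul_mem hx hx),
        congrArg (fun z : ↥(S : Subgroup ↥Q) => ((z : ↥Q) : G)) h1⟩
    · have h1 := hinv _ (hq.2.1 ⟨⟨x, hx⟩, hmem _⟩ ⟨⟨y, hy⟩, hmem _⟩)
      exact ⟨Q_fix (setup h)
          (Q.mul_mem (Q.mul_mem (Q.mul_mem (Q.inv_mem hx) (Q.inv_mem hy)) hx) hy),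
        congrArg (fun z : ↥(S : Subgroup ↥Q) => ((z : ↥Q) : G)) h1⟩

theorem q_sq {x : G} (hx : x ∈ Q) : x * x ∈ zSub h := (sq_and_comm h).1 x hx

theorem q_comm {x y : G} (hx : x ∈ Q) (hy : y ∈ Q) : x⁻¹ * y⁻¹ * x * y ∈ zSub h :=
  (sq_and_comm h).2 x hx y hy

theorem q_inv {x : G} (hx : x ∈ Q) : x⁻¹ = x * (x * x) := by
  refine inv_eq_of_mul_eq_one_right ?_
  rw [← mul_assoc, z_sq h (q_sq h hx)]

/-- The fixed points of `v ∈ V₀#` in `Q` are the involutions. -/
theorem ker_fixed_mem {v x : G} (hv : v ∈ vKer a t) (hv1 : v ≠ 1) (hx : x ∈ Q)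
    (he : v * x * v⁻¹ = x) : x ∈ zSub h := by
  by_contra hxz
  obtain ⟨y, hy, hr⟩ : ∃ y ∈ Q, y⁻¹ * (v * y * v⁻¹) ∉ zSub h := by
    by_contra! hall
    refine hv1 (ker_eq_one h hv fun y hy => ?_)
    have h3 := ker_trick h hv (hall y hy) (x := y) (by group)
    rw [inv_mul_eq_one] at h3
    exact h3.symm
  set r := y⁻¹ * (v * y * v⁻¹) with hrdef
  have hvy : v * y * v⁻¹ ∈ Q := twoStab_norm (setup h) hv.1 hy
  have hrQ : r ∈ Q := Q.mul_mem (Q.inv_mem hy) hvy
  have hxr : ∀ x' ∈ Q, v * x' * v⁻¹ = x' → x' * r = r * x' := by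
    intro x' hx' he'
    have hc : x'⁻¹ * y⁻¹ * x' * y ∈ zSub h := q_comm h hx' hy
    have h1 := ker_z h hv hc
    have h2 : v * (x'⁻¹ * y⁻¹ * x' * y) * v⁻¹ =
        (v * x' * v⁻¹)⁻¹ * (v * y * v⁻¹)⁻¹ * (v * x' * v⁻¹) * (v * y * v⁻¹) := by group
    rw [he', show v * y * v⁻¹ = y * r by rw [hrdef]; group, h1] at h2
    have h3 : x'⁻¹ * (r⁻¹ * (y⁻¹ * x' * y) * r) = x'⁻¹ * (y⁻¹ * x' * y) := by
      calc x'⁻¹ * (r⁻¹ * (y⁻¹ * x' * y) * r) = x'⁻¹ * (y * r)⁻¹ * x' * (y * r) := by group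
        _ = x'⁻¹ * y⁻¹ * x' * y := h2.symm
        _ = _ := by group
    have h4 : y⁻¹ * x' * y = x' * (x'⁻¹ * y⁻¹ * x' * y) := by group
    have h5 := mul_left_cancel h3
    rw [h4] at h5
    have h6 := z_comm h hc hrQ
    set c := x'⁻¹ * y⁻¹ * x' * y
    calc x' * r = (x' * c) * r * c⁻¹ := by rw [mul_assoc x' c r, h6]; group
      _ = (r * (r⁻¹ * (x' * c) * r)) * c⁻¹ := by group
      _ = r * x' := by rw [h5]; group
  have hx2 : x * x ≠ 1 := fun e => hxz ⟨Q_fix (setup h) hx, e⟩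
  have hr2 : r * r ≠ 1 := fun e => hr ⟨Q_fix (setup h) hrQ, e⟩
  obtain ⟨k, hk, hke⟩ := exists_k h (q_sq h hx) hx2 (q_sq h hrQ) hr2
  set x' := k * x * k⁻¹ with hx'def
  have hx'Q : x' ∈ Q := twoStab_norm (setup h) hk.1 hx
  have hx'v : v * x' * v⁻¹ = x' := by
    have e := ker_k h hv hk
    calc v * x' * v⁻¹ = (v * k) * x * (v * k)⁻¹ := by rw [hx'def]; group
      _ = k * (v * x * v⁻¹) * k⁻¹ := by rw [← e]; group
      _ = x' := by rw [he]
  have hcom := hxr x' hx'Q hx'v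
  have hz : x' * r ∈ zSub h := by
    refine ⟨Q_fix (setup h) (Q.mul_mem hx'Q hrQ), ?_⟩
    calc x' * r * (x' * r) = x' * (r * x') * r := by group
      _ = (x' * x') * (r * r) := by rw [← hcom]; group
      _ = r * r * (r * r) := by rw [show x' * x' = k * (x * x) * k⁻¹ by rw [hx'def]; group, hke]
      _ = 1 := z_sq h (q_sq h hrQ)
  have hrv : v * r * v⁻¹ = r := by
    calc v * r * v⁻¹ = (v * x'⁻¹ * v⁻¹) * (v * (x' * r) * v⁻¹) := by group
      _ = x'⁻¹ * (x' * r) := by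
        rw [ker_z h hv hz, show v * x'⁻¹ * v⁻¹ = (v * x' * v⁻¹)⁻¹ by group, hx'v]
      _ = r := by group
  have hp := conj_pow_eq hrv (x := y) (by rw [hrdef]; group) (orderOf v)
  rw [pow_orderOf_eq_one, one_mul, inv_one, mul_one] at hp
  have hr1 : r ^ orderOf v = 1 := mul_left_cancel (a := y) (by rw [mul_one]; exact hp.symm)
  obtain ⟨j, hj⟩ := ker_orderOf_odd h hv
  have hr4 : (r * r) ^ j = 1 ∨ (r * r) ^ j = r * r := by
    rcases Nat.even_or_odd j with ⟨i, hi⟩ | ⟨i, hi⟩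
    · left; rw [hi, pow_add, ← (Commute.refl (r * r)).mul_pow, z_sq h (q_sq h hrQ), one_pow]
    · right; rw [hi, pow_succ, pow_mul, sq, z_sq h (q_sq h hrQ), one_pow, one_mul]
  rw [hj, pow_succ, pow_mul, sq] at hr1
  rcases hr4 with e | e <;> rw [e] at hr1
  · rw [one_mul] at hr1
    exact hr2 (by rw [hr1, one_mul])
  · refine hr2 ?_
    have := z_sq h (q_sq h hrQ)
    have hr' : r = (r * r * r)⁻¹ * (r * r * (r * r)) := by group
    rw [hr1, this, inv_one, one_mul] at hr'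
    rw [hr', mul_one]

/-- `V₀#` acts without fixed scalars on `Q / Z₀`. -/
theorem ker_ne_k {v k x z : G} (hv : v ∈ vKer a t) (hv1 : v ≠ 1) (hk : k ∈ kSet a t) (hx : x ∈ Q)
    (hz : z ∈ zSub h) (he : v * x * v⁻¹ = k * x * k⁻¹ * z) : x ∈ zSub h := by
  by_contra hxz
  have hx2 : x * x ≠ 1 := fun e => hxz ⟨Q_fix (setup h) hx, e⟩
  have hkx : k * x * k⁻¹ ∈ Q := twoStab_norm (setup h) hk.1 hx
  have h1 : x * x = k * (x * x) * k⁻¹ := by
    calc x * x = v * (x * x) * v⁻¹ := (ker_z h hv (q_sq h hx)).symm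
      _ = (v * x * v⁻¹) * (v * x * v⁻¹) := by group
      _ = (k * x * k⁻¹) * (k * x * k⁻¹) * (z * z) := by
        rw [he, mul_assoc (k * x * k⁻¹) z, ← mul_assoc z, z_comm h hz hkx]
        simp [mul_assoc]
      _ = k * (x * x) * k⁻¹ := by rw [z_sq h hz]; group
  have hk1 : k = 1 := k_unique h (q_sq h hx) hx2 hk (k_one h) (by rw [← h1]; group)
  subst hk1
  rw [one_mul, inv_one, mul_one] at he
  have := ker_trick h hv hz he
  rw [this, mul_one] at he
  exact hxz (ker_fixed_mem h hv hv1 hx he)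

/-- The fixed points of `v ∈ V₀#`. -/
theorem ker_fix {v : G} (hv : v ∈ vKer a t) (hv1 : v ≠ 1) {c : Ω} (hc : v • c = c) :
    c = a ∨ ∃ z ∈ zSub h, c = z • (t • a) := by
  by_cases hca : c = a
  · exact Or.inl hca
  · obtain ⟨x, hx, rfl⟩ := Q_trans (setup h) (t_smul_ne (setup h)) hca
    refine Or.inr ⟨x, ker_fixed_mem h hv hv1 hx ?_, rfl⟩
    refine Q_smul_inj (setup h) (twoStab_norm (setup h) hv.1 hx) hx (t_smul_ne (setup h)) ?_
    rw [mul_smul, mul_smul, inv_smul_eq_iff.2 (mem_twoStab.1 hv.1).2.symm, hc]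

/-! ### The structure equation -/

/-- The involution of the structure equation. -/
noncomputable def sInv : G :=
  (structure_equation (setup h)).exists.choose.1

/-- `t s t = s t s`, the element `r` being `s` itself. -/
theorem sInv_spec : sInv h ∈ zSub h ∧ sInv h ≠ 1 ∧ t * sInv h * t = sInv h * t * sInv h := by
  have hsp := (structure_equation (setup h)).exists.choose_spec
  obtain ⟨hs, hr, heq⟩ := hsp
  set s := sInv h with hsdef
  change s ∈ invs G a at hs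
  set r := (structure_equation (setup h)).exists.choose.2 with hrdef
  change t * s * t = r⁻¹ * t * r at heq
  have hsz := z_of_invs h hs
  obtain ⟨v, hv, hv1⟩ := (Subgroup.bot_or_exists_ne_one _).resolve_left h.ker
  have hvr : v * r * v⁻¹ = r := by
    have e : t * s * t = (v * r * v⁻¹)⁻¹ * t * (v * r * v⁻¹) := by
      have hvs := ker_z h hv hsz
      have hvt := ker_t h hv
      calc t * s * t = t * (v * s * v⁻¹) * t := by rw [hvs]
        _ = (t * v) * s * (v⁻¹ * t) := by group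
        _ = (v * t) * s * (t * v⁻¹) := by rw [hvt, (Commute.inv_right hvt).eq]
        _ = v * (t * s * t) * v⁻¹ := by group
        _ = v * r⁻¹ * t * r * v⁻¹ := by rw [heq]; group
        _ = v * r⁻¹ * (v⁻¹ * v * t) * r * v⁻¹ := by group
        _ = v * r⁻¹ * v⁻¹ * t * (v * r * v⁻¹) := by rw [mul_assoc v⁻¹ v t, ← hvt]; group
        _ = _ := by group
    exact congrArg Prod.snd ((structure_equation (setup h)).unique
      (y₁ := (s, v * r * v⁻¹)) (y₂ := (s, r))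
      ⟨hs, twoStab_norm (setup h) hv.1 hr, e⟩ ⟨hs, hr, heq⟩)
  have hrz := ker_fixed_mem h hv hv1 hr hvr
  rw [z_inv h hrz] at heq
  -- `t r t` in two ways
  have hti := t_inv' h
  have htrt : t * r * t = s * t * r := by
    have e : s = t * r * t * r * t := by
      calc s = t * (t * s * t) * t := by simp [mul_assoc, tt_mul (setup h), (setup h).mul_self]
        _ = _ := by rw [heq]; group
    calc t * r * t = (t * r * t * r * t) * (t * r⁻¹) := by simp [mul_assoc, tt_mul (setup h)]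
      _ = s * (t * r) := by rw [← e, z_inv h hrz]
      _ = _ := by rw [mul_assoc]
  have htrt' : t * r * t = r * t * s := by
    have := congrArg (fun g : G => g⁻¹) htrt
    simp only [mul_inv_rev, hti, z_inv h hrz, z_inv h hsz] at this
    simpa [mul_assoc] using this
  have hsr : s = r := by
    refine Q_smul_inj (setup h) (zSub_le h hsz) (zSub_le h hrz) (t_smul_ne (setup h)) ?_
    have := congrArg (fun g : G => g • a) (htrt.symm.trans htrt')
    simp only [mul_smul] at this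
    rwa [hrz.1, hsz.1] at this
  rw [← hsr] at heq
  exact ⟨hsz, hs.2.1, heq⟩

theorem sInv_mem : sInv h ∈ zSub h := (sInv_spec h).1

theorem sInv_ne : sInv h ≠ 1 := (sInv_spec h).2.1

/-- `t z t = z' t k² z'` for `z = k s k⁻¹` and `z' = k⁻¹ s k`. -/
theorem tzt {k : G} (hk : k ∈ kSet a t) :
    t * (k * sInv h * k⁻¹) * t =
      (k⁻¹ * sInv h * k) * t * (k * k) * (k⁻¹ * sInv h * k) := by
  have h1 := tk h hk
  have h2 := tk h (k_inv h hk)
  rw [inv_inv] at h2
  have hst := (sInv_spec h).2.2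
  set s := sInv h
  calc t * (k * s * k⁻¹) * t = (t * k) * s * (k⁻¹ * t) := by group
    _ = (k⁻¹ * t) * s * (t * k) := by rw [h1]
    _ = k⁻¹ * (t * s * t) * k := by group
    _ = (k⁻¹ * s * k) * (k⁻¹ * t) * k * (k⁻¹ * s * k) := by rw [hst]; group
    _ = _ := by rw [← h1]; group

end Cfsg.Agent.Lib.BenderSuzuki.Coords
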