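import Cfsg.Agent.Lib.BenderSuzuki.Coords.Points

/-!
# Bender–Suzuki §9: vector coordinates of the points off the chord; `V₀` acts by scalars
-/

set_option autoImplicit false

namespace Cfsg.Agent.Lib.BenderSuzuki.Coords

open MulAction Cfsg.Agent.Lib.RankOne.Basic Cfsg.Agent.Lib.RankOne.Involution
open scoped commutatorElement

universe u v

/-- Scalar multiplication of pairs. -/
def sm {E : Type} [Field E] (c : E) (p : E × E) : E × E := (c * p.1, c * p.2)

theorem sm_sm {E : Type} [Field E] (c d : E) (p : E × E) : sm c (sm d p) = sm (c * d) p := by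
  simp [sm, mul_assoc]

theorem sm_one {E : Type} [Field E] (p : E × E) : sm (1 : E) p = p := by simp [sm]

variable {G : Type u} {Ω : Type v} [Group G] [Finite G] [MulAction G Ω] {a : Ω} {t : G}
  {Q : Subgroup G} {h : Ctx G Ω a t Q} {E : Type} [Field E] (M : Mod h E)

theorem Mod.phi_sm {g : G} (hg : g ∈ M.lGrp) (c : E) (p : E × E) :
    M.phi g (sm c p) = sm c (M.phi g p) := M.phi_smul hg c p

theorem Mod.form_sm (c : E) (p : E × E) : M.form (sm c p) = c ^ M.q * c * M.form p := by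
  simp only [Mod.form, sm, mul_pow]; ring

theorem Mod.snd_ne_zero {p : E × E} (hp : M.form p = 1) : p.2 ≠ 0 := fun e => by
  simp [Mod.form, e, zero_pow M.q_ne_zero] at hp

theorem Mod.ratio_not_inF {p : E × E} (hp : M.form p = 1) : ¬ M.InF (p.1 / p.2) := fun e => by
  have hY := M.snd_ne_zero hp
  have hX : p.1 ^ M.q = p.1 / p.2 * p.2 ^ M.q := by
    conv_lhs => rw [← div_mul_cancel₀ p.1 hY, mul_pow]
    rw [show (p.1 / p.2) ^ M.q = p.1 / p.2 from e]
  rw [Mod.form, hX] at hp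
  have : (0 : E) = 1 := by
    rw [← hp]
    field_simp
    linear_combination -(p.1 * p.2 ^ M.q) * M.two_eq_zero
  exact zero_ne_one this

/-- The stabiliser of a vector of norm one is trivial. -/
theorem Mod.stab_trivial {g : G} (hg : g ∈ M.lGrp) {p : E × E} (hp : M.form p = 1)
    (he : M.phi g p = p) : g = 1 := by
  have hY := M.snd_ne_zero hp
  rcases M.nf_of_rel (M.phi_rel hg) with ⟨z, hz, k, hk, hgd, hf⟩ | ⟨z₁, hz₁, k, hk, z₂, hz₂, -, hf⟩
  · rw [hf] at he
    simp only [Function.comp_apply, actA, actM, Prod.ext_iff] at he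
    obtain ⟨h1, h2⟩ := he
    have hm : M.mu k = 1 := by
      have h3 : (M.mu k)⁻¹ * p.2 = 1 * p.2 := by rw [h2, one_mul]
      exact inv_eq_one.1 (mul_right_cancel₀ hY h3)
    have hk1 : k = 1 := M.chi_inj hk (k_one h) (by rw [← M.mu_sq hk, hm, one_pow, M.chi_one])
    rw [hm, inv_one, one_mul, one_mul] at h1
    have hz1 : M.zeta z = 0 := by
      have : M.zeta z * p.2 = 0 := by linear_combination h1
      exact (mul_eq_zero.1 this).resolve_right hY
    rw [hgd, hk1, M.zeta_inj z hz 1 (one_mem _) (hz1.trans M.zeta_one.symm), one_mul]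
  · exfalso
    rw [hf] at he
    simp only [Function.comp_apply, actA, actM, actT, Prod.ext_iff] at he
    have hm := M.mu_ne_zero hk
    refine M.ratio_not_inF hp ?_
    have : p.1 / p.2 = M.mu k + M.zeta z₂ := by
      rw [div_eq_iff hY]
      have h2 : p.1 + M.zeta z₂ * p.2 = M.mu k * p.2 := by
        have := congrArg (fun x => M.mu k * x) he.2
        simpa [← mul_assoc, mul_inv_cancel₀ hm] using this
      linear_combination h2 - (M.zeta z₂ * p.2) * M.two_eq_zero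
    rw [this]
    exact M.inF_add (M.mu_inF hk) (M.zeta_fix z₂ hz₂)

/-- The element of `L₀` carrying `p₀` to `p`. -/
noncomputable def Mod.gTo (p₀ p : Ω) : G :=
  haveI : Nonempty G := ⟨1⟩
  Classical.epsilon fun g => g ∈ M.lGrp ∧ g • p₀ = p

theorem Mod.gTo_spec {p₀ p : Ω} (h₀ : h.Off p₀) (hp : h.Off p) :
    M.gTo p₀ p ∈ M.lGrp ∧ M.gTo p₀ p • p₀ = p :=
  Classical.epsilon_spec (p := fun g => g ∈ M.lGrp ∧ g • p₀ = p) (M.trans h₀ hp)

theorem Mod.gTo_eq {p₀ : Ω} (h₀ : h.Off p₀) {g : G} (hg : g ∈ M.lGrp) :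
    M.gTo p₀ (g • p₀) = g := by
  obtain ⟨h1, h2⟩ := M.gTo_spec h₀ (M.off_smul hg h₀)
  have := M.free (M.lGrp.mul_mem (M.lGrp.inv_mem hg) h1) h₀
    (by rw [mul_smul, h2, inv_smul_smul])
  exact (inv_mul_eq_one.1 this).symm

theorem Mod.gTo_ker_mul {p₀ : Ω} (h₀ : h.Off p₀) {e e' : G} (he : e ∈ vKer a t)
    (he' : e' ∈ vKer a t) :
    M.gTo p₀ ((e * e') • p₀) = M.gTo p₀ (e' • p₀) * M.gTo p₀ (e • p₀) := by
  obtain ⟨h1, h2⟩ := M.gTo_spec h₀ (off_ker he h₀)
  obtain ⟨h3, h4⟩ := M.gTo_spec h₀ (off_ker he' h₀)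
  conv_lhs => rw [mul_smul, ← h4, ← mul_smul, M.ker_lGrp he h3, mul_smul, ← h2, ← mul_smul]
  exact M.gTo_eq h₀ (M.lGrp.mul_mem h3 h1)

/-- `L₀` is transitive on the chord. -/
theorem Mod.exists_to_a {d : Ω} (hd : h.OnLine d) : ∃ g ∈ M.lGrp, g • d = a := by
  rcases hd with rfl | ⟨z, hz, rfl⟩
  · exact ⟨1, one_mem _, one_smul _ _⟩
  · exact ⟨t * z, M.lGrp.mul_mem M.t_mem_lGrp (M.z_mem_lGrp hz), by
      rw [mul_smul, ← mul_smul z z, z_sq h hz, one_smul, tt_smul (setup h)]⟩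

/-- The element of `L₀` by which `v ∈ V₀#` moves a point has no fixed point on the chord. -/
theorem Mod.ker_shift_fpf {v g : G} (hv : v ∈ vKer a t) (hv1 : v ≠ 1) (hg : g ∈ M.lGrp) {p : Ω}
    (hp : h.Off p) (he : v • p = g • p) {d : Ω} (hd : h.OnLine d) : g • d ≠ d := by
  intro hgd
  obtain ⟨l, hl, hld⟩ := M.exists_to_a hd
  set g' := l * g * l⁻¹ with hg'def
  have hla : l⁻¹ • a = d := inv_smul_eq_iff.2 hld.symm
  have hg'a : g' • a = a := by rw [hg'def, mul_smul, mul_smul, hla, hgd, hld]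
  set p' := l • p with hp'def
  have hp' : h.Off p' := M.off_smul hl hp
  have he' : v • p' = g' • p' := by
    rw [hg'def, hp'def, ← mul_smul, M.ker_lGrp hv hl, mul_smul, he, mul_smul, mul_smul,
      inv_smul_smul]
  obtain ⟨x, hx, hxp⟩ := Q_trans (setup h) (t_smul_ne (setup h)) hp'.1
  rcases M.cases_lGrp (M.lGrp.mul_mem (M.lGrp.mul_mem hl hg) (M.lGrp.inv_mem hl)) with
    ⟨z, hz, k, hk, hzk⟩ | ⟨z₁, hz₁, k, hk, z₂, hz₂, hzk⟩
  · rw [← hg'def] at hzk
    rw [hzk, ← hxp, ← mul_smul v x] at he'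
    have e1 : (v * x * v⁻¹) • (t • a) = (z * (k * x * k⁻¹)) • (t • a) := by
      rw [mul_smul (v * x) v⁻¹, inv_smul_eq_iff.2 (mem_twoStab.1 hv.1).2.symm, he',
        mul_smul z k, mul_smul z (k * x * k⁻¹), mul_smul (k * x) k⁻¹,
        inv_smul_eq_iff.2 (mem_twoStab.1 hk.1).2.symm, mul_smul k x]
    have hkx := twoStab_norm (setup h) hk.1 hx
    have e2 := Q_smul_inj (setup h) (twoStab_norm (setup h) hv.1 hx)
      (Q.mul_mem (zSub_le h hz) hkx) (t_smul_ne (setup h)) e1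
    rw [z_comm h hz hkx] at e2
    exact hp'.2 x (ker_ne_k h hv hv1 hk hx hz e2) hxp.symm
  · rw [← hg'def] at hzk
    rw [hzk, mul_smul, hz₂.1, mul_smul, mul_smul, (mem_twoStab.1 hk.1).2] at hg'a
    exact t_smul_ne (setup h) (smul_left_cancel z₁ (hg'a.trans hz₁.1.symm))

/-- An eigenvector of norm one. -/
theorem Mod.exists_eigen {g : G} (hg : g ∈ M.lGrp) (hfpf : ∀ d, h.OnLine d → g • d ≠ d) :
    ∃ (p : E × E) (c : E), M.form p = 1 ∧ ¬ M.InF c ∧ M.phi g p = sm c p := by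
  have hga : g • a ≠ a := hfpf a (Or.inl rfl)
  rcases M.nf_of_rel (M.phi_rel hg) with ⟨z, hz, k, hk, hgd, -⟩ | ⟨z₁, hz₁, k, hk, z₂, hz₂, hgd, hf⟩
  · exact absurd (by rw [hgd, mul_smul, show k • a = a from hk.1.1, hz.1]) hga
  set σ := M.zeta z₁ + M.zeta z₂ with hσdef
  set c := M.chi k + M.zeta z₁ * M.zeta z₂ with hcdef
  have hm := M.mu_ne_zero hk
  have hno : ∀ x, M.InF x → x ^ 2 + σ * x ≠ c := by
    intro x hx he
    obtain ⟨z, hz, rfl⟩ := M.zeta_surj x hx
    refine hfpf (z • (t • a)) (Or.inr ⟨z, hz, rfl⟩) ?_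
    have hw : z₂ * z ∈ zSub h := mul_mem hz₂ hz
    have hprod : (M.zeta z + M.zeta z₁) * M.zeta (z₂ * z) = M.chi k := by
      rw [M.zeta_mul _ hz₂ _ hz]
      linear_combination he + (M.zeta z₁ * M.zeta z₂) * M.two_eq_zero
    have hw1 : z₂ * z ≠ 1 := fun e => M.chi_ne_zero hk (by rw [← hprod, e, M.zeta_one, mul_zero])
    obtain ⟨l, hl, hle⟩ := exists_k h (sInv_mem h) (sInv_ne h) hw hw1
    have hl' : l⁻¹ * sInv h * l⁻¹⁻¹ ∈ zSub h :=
      z_conj_mem h (sInv_mem h) ((stabilizer G a).inv_mem hl.1.1)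
    have e2 : (t * (z₂ * z) * t) • a = (l⁻¹ * sInv h * l) • (t • a) := by
      rw [← hle, tzt h hl, mul_smul, mul_smul, mul_smul,
        show (l⁻¹ * sInv h * l) • a = a by simpa using hl'.1,
        show (l * l) • a = a from (k_mul h hl hl).1.1]
    rw [inv_inv] at hl'
    have e3 : g • (z • (t • a)) = (z₁ * (k * (l⁻¹ * sInv h * l) * k⁻¹)) • (t • a) := by
      rw [hgd, mul_smul z₁, ← conj_smul_b hk.1, ← e2]
      simp only [← mul_smul, mul_assoc]
    rw [e3]
    congr 1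
    refine M.zeta_inj _ (mul_mem hz₁ (z_conj_mem h hl' hk.1.1)) _ hz ?_
    have hzw : M.zeta (z₂ * z) = M.chi l := by rw [← hle]; rfl
    have hchl : M.zeta (l⁻¹ * sInv h * l) = (M.chi l)⁻¹ := by
      rw [← M.chi_inv hl, Mod.chi, inv_inv]
    rw [M.zeta_mul _ hz₁ _ (z_conj_mem h hl' hk.1.1), M.zeta_conj k hk _ hl', hchl]
    show M.zeta z₁ + M.chi k * _ = _
    rw [hzw] at hprod
    have hl0 := M.chi_ne_zero hl
    rw [← hprod]
    field_simp
    linear_combination M.zeta z₁ * M.two_eq_zero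
  obtain ⟨d, hd, hde⟩ := M.exists_root (σ := σ) (c := c)
    (M.inF_add (M.zeta_fix _ hz₁) (M.zeta_fix _ hz₂))
    (M.inF_add (M.chi_inF hk) (M.inF_mul (M.zeta_fix _ hz₁) (M.zeta_fix _ hz₂))) hno
  have hT : M.InF (d ^ M.q + d) := M.inF_trace d
  have hT0 : d ^ M.q + d ≠ 0 := fun e => hd (M.eq_of_add e)
  set y := M.sqrtF (d ^ M.q + d)⁻¹ with hydef
  have hy : M.InF y := M.inF_sqrtF (M.inF_inv hT)
  have hy2 : y ^ 2 = (d ^ M.q + d)⁻¹ := M.sqrtF_sq (M.inF_inv hT)
  refine ⟨(d * y, y), (M.mu k)⁻¹ * (d + M.zeta z₂), ?_, ?_, ?_⟩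
  · rw [Mod.form]
    simp only [mul_pow, show y ^ M.q = y from hy]
    calc d ^ M.q * y * y + d * y * y = (d ^ M.q + d) * y ^ 2 := by ring
      _ = 1 := by rw [hy2, mul_inv_cancel₀ hT0]
  · intro e
    refine hd ?_
    have : d = M.mu k * ((M.mu k)⁻¹ * (d + M.zeta z₂)) + M.zeta z₂ := by
      rw [← mul_assoc, mul_inv_cancel₀ hm, one_mul, add_assoc, M.add_self, add_zero]
    rw [this]
    exact M.inF_add (M.inF_mul (M.mu_inF hk) e) (M.zeta_fix _ hz₂)
  · rw [hf]
    simp only [Function.comp_apply, actA, actM, actT, sm, Prod.mk.injEq]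
    refine ⟨?_, by ring⟩
    field_simp
    rw [M.mu_sq hk]
    linear_combination -(y * hde) +
      (y * (M.zeta z₁ * d)) * M.two_eq_zero

theorem Mod.eigen_cases {p : E × E} (hp : M.form p = 1) (x : E × E) :
    ∃ α β : E, x = sm α p + sm β (p.1 ^ M.q, p.2 ^ M.q) := by
  refine ⟨x.1 * p.2 ^ M.q + x.2 * p.1 ^ M.q, x.1 * p.2 + x.2 * p.1, ?_⟩
  simp only [Mod.form] at hp
  refine Prod.ext ?_ ?_ <;> simp only [sm, Prod.fst_add, Prod.snd_add]
  · linear_combination -x.1 * hp - (x.2 * p.1 * p.1 ^ M.q) * M.two_eq_zero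
  · linear_combination -x.2 * hp - (x.1 * p.2 * p.2 ^ M.q) * M.two_eq_zero

theorem Mod.coeff_unique {p : E × E} (hp : M.form p = 1) {α β α' β' : E}
    (e : sm α p + sm β (p.1 ^ M.q, p.2 ^ M.q) = sm α' p + sm β' (p.1 ^ M.q, p.2 ^ M.q)) :
    α = α' ∧ β = β' := by
  simp only [sm, Prod.mk_add_mk, Prod.mk.injEq] at e
  simp only [Mod.form] at hp
  obtain ⟨e1, e2⟩ := e
  constructor
  · linear_combination p.2 ^ M.q * e1 + p.1 ^ M.q * e2 + (α' - α) * hp -
      ((β - β') * p.1 ^ M.q * p.2 ^ M.q) * M.two_eq_zero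
  · linear_combination p.2 * e1 + p.1 * e2 + (β' - β) * hp -
      ((α - α') * p.1 * p.2) * M.two_eq_zero

/-- Vector coordinates, in which `V₀` acts by scalars. -/
structure Mod.Chart where
  /-- the base point -/
  base : Ω
  off : h.Off base
  /-- its vector -/
  vec₀ : E × E
  form₀ : M.form vec₀ = 1
  /-- the scalar of an element of `V₀` -/
  kappa : G → E
  ker_smul : ∀ e ∈ vKer a t, M.phi (M.gTo base (e • base)) vec₀ = sm (kappa e) vec₀

theorem Mod.exists_chart : Nonempty M.Chart := by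
  classical
  obtain ⟨p₀, h₀⟩ := M.exists_off
  haveI : Group.IsSolvable (vKer a t) := Lib.OddOrder.FeitThompson.isSolvable_of_odd_card
    (Odd.of_dvd_nat (setup h).odd_card (Subgroup.card_dvd_of_le inf_le_left))
  haveI : Nontrivial (vKer a t) := (Subgroup.nontrivial_iff_ne_bot _).2 h.ker
  obtain ⟨n, hn⟩ := Group.IsSolvable.solvable (G := vKer a t)
  have hex : ∃ m, derivedSeries (vKer a t) m = ⊥ := ⟨n, hn⟩
  obtain ⟨m, hm⟩ : ∃ m, Nat.find hex = m + 1 := Nat.exists_eq_succ_of_ne_zero fun e => by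
    have := Nat.find_spec hex
    rw [e, derivedSeries_zero] at this
    exact top_ne_bot this
  set A := derivedSeries (vKer a t) m with hA
  have hA1 : A ≠ ⊥ := Nat.find_min hex (by omega)
  have hAc : ∀ x ∈ A, ∀ y ∈ A, x * y = y * x := fun x hx y hy => by
    have h1 : ⁅x, y⁆ ∈ derivedSeries (vKer a t) (m + 1) := by
      rw [derivedSeries_succ]; exact Subgroup.commutator_mem_commutator hx hy
    rw [← hm, Nat.find_spec hex, Subgroup.mem_bot] at h1
    exact commutatorElement_eq_one_iff_mul_comm.1 h1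
  haveI hAn : A.Normal := derivedSeries_normal _ _
  obtain ⟨v, hvA, hv1⟩ := (Subgroup.bot_or_exists_ne_one _).resolve_left hA1
  let C : G → G := fun e => M.gTo p₀ (e • p₀)
  have hCm : ∀ e ∈ vKer a t, C e ∈ M.lGrp := fun e he => (M.gTo_spec h₀ (off_ker he h₀)).1
  have hCe : ∀ e ∈ vKer a t, C e • p₀ = e • p₀ := fun e he => (M.gTo_spec h₀ (off_ker he h₀)).2
  have hCmul : ∀ e ∈ vKer a t, ∀ e' ∈ vKer a t, C (e * e') = C e' * C e :=
    fun e he e' he' => M.gTo_ker_mul h₀ he he'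
  have hv1' : (v : G) ≠ 1 := fun e => hv1 (Subtype.ext e)
  obtain ⟨p, κ, hp, hκ, hpe⟩ := M.exists_eigen (hCm v v.2)
    (fun d hd => M.ker_shift_fpf v.2 hv1' (hCm v v.2) h₀ (hCe v v.2).symm hd)
  have hconj : M.phi (C v) (p.1 ^ M.q, p.2 ^ M.q) = sm (κ ^ M.q) (p.1 ^ M.q, p.2 ^ M.q) := by
    rw [M.phi_conj (hCm v v.2), hpe]
    simp [sm, mul_pow]
  have hκ' : κ ^ M.q ≠ κ := hκ
  let Sc : G → Prop := fun e => ∃ c, M.phi (C e) p = sm c p
  have hScmul : ∀ e ∈ vKer a t, ∀ e' ∈ vKer a t, Sc e → Sc e' → Sc (e * e') := by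
    rintro e he e' he' ⟨c, hc⟩ ⟨c', hc'⟩
    exact ⟨c * c', by rw [hCmul e he e' he', M.phi_mul (hCm e' he') (hCm e he), hc,
      M.phi_sm (hCm e' he'), hc', sm_sm]⟩
  have hScA : ∀ w : vKer a t, w ∈ A → ∃ c, M.phi (C w) p = sm c p := by
    intro w hw
    have hcomm : C w * C v = C v * C w := by
      rw [← hCmul v v.2 w w.2, ← hCmul w w.2 v v.2, ← Subgroup.coe_mul, ← Subgroup.coe_mul,
        hAc v hvA w hw]
    obtain ⟨α, β, hαβ⟩ := M.eigen_cases hp (M.phi (C w) p)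
    have h1 : M.phi (C v) (M.phi (C w) p) = sm κ (M.phi (C w) p) := by
      rw [← M.phi_mul (hCm v v.2) (hCm w w.2), ← hcomm, M.phi_mul (hCm w w.2) (hCm v v.2), hpe,
        M.phi_sm (hCm w w.2)]
    rw [hαβ, M.phi_add (hCm v v.2), M.phi_sm (hCm v v.2), M.phi_sm (hCm v v.2), hpe, hconj,
      sm_sm, sm_sm] at h1
    have h2 : sm κ (sm α p + sm β (p.1 ^ M.q, p.2 ^ M.q)) =
        sm (κ * α) p + sm (κ * β) (p.1 ^ M.q, p.2 ^ M.q) := by
      simp [sm, mul_add, mul_assoc]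
    rw [h2] at h1
    have h3 := (M.coeff_unique hp h1).2
    have hβ : β = 0 := by
      by_contra hβ
      exact hκ' (mul_left_cancel₀ hβ (by linear_combination h3))
    refine ⟨α, ?_⟩
    rw [hαβ, hβ]
    simp [sm]
  have hSc : ∀ e ∈ vKer a t, Sc e := by
    intro e he
    set w : vKer a t := ⟨e, he⟩⁻¹ * v * ⟨e, he⟩ with hwdef
    have hwA : w ∈ A := by
      have := hAn.conj_mem v hvA (⟨e, he⟩⁻¹)
      rwa [inv_inv] at this
    obtain ⟨cw, hcw⟩ := hScA w hwA
    have hrel : C w * C e = C e * C v := by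
      have e1 : (e : G) * w = v * e := by rw [hwdef]; simp [mul_assoc]
      rw [← hCmul e he w w.2, ← hCmul v v.2 e he, e1]
    have hconjw : M.phi (C w) (p.1 ^ M.q, p.2 ^ M.q) = sm (cw ^ M.q) (p.1 ^ M.q, p.2 ^ M.q) := by
      rw [M.phi_conj (hCm w w.2), hcw]
      simp [sm, mul_pow]
    obtain ⟨α, β, hαβ⟩ := M.eigen_cases hp (M.phi (C e) p)
    have h1 : M.phi (C w) (M.phi (C e) p) = sm κ (M.phi (C e) p) := by
      rw [← M.phi_mul (hCm w w.2) (hCm e he), hrel, M.phi_mul (hCm e he) (hCm v v.2), hpe,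
        M.phi_sm (hCm e he)]
    rw [hαβ, M.phi_add (hCm w w.2), M.phi_sm (hCm w w.2), M.phi_sm (hCm w w.2), hcw, hconjw,
      sm_sm, sm_sm] at h1
    have h2 : sm κ (sm α p + sm β (p.1 ^ M.q, p.2 ^ M.q)) =
        sm (κ * α) p + sm (κ * β) (p.1 ^ M.q, p.2 ^ M.q) := by
      simp [sm, mul_add, mul_assoc]
    rw [h2] at h1
    obtain ⟨h3, h4⟩ := M.coeff_unique hp h1
    by_cases hβ : β = 0
    · exact ⟨α, by rw [hαβ, hβ]; simp [sm]⟩
    · have hcw' : cw ^ M.q = κ := mul_left_cancel₀ hβ (by linear_combination h4)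
      have hα : α = 0 := by
        by_contra hα
        have hcwκ : cw = κ := mul_left_cancel₀ hα (by linear_combination h3)
        rw [hcwκ] at hcw'
        exact hκ' hcw'
      have hswap : M.phi (C e) (p.1 ^ M.q, p.2 ^ M.q) = sm (β ^ M.q) p := by
        rw [M.phi_conj (hCm e he), hαβ, hα]
        simp [sm, mul_pow, M.pow_pow]
      have h5 : Sc (e * e) := ⟨β * β ^ M.q, by
        rw [hCmul e he e he, M.phi_mul (hCm e he) (hCm e he), hαβ, hα,
          show sm (0 : E) p + sm β (p.1 ^ M.q, p.2 ^ M.q) = sm β (p.1 ^ M.q, p.2 ^ M.q) by simp [sm],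
          M.phi_sm (hCm e he), hswap, sm_sm]⟩
      have h6 : ∀ j : ℕ, Sc ((e * e) ^ j) := by
        intro j
        induction j with
        | zero =>
          refine ⟨1, ?_⟩
          have : C 1 = 1 := by
            show M.gTo p₀ ((1 : G) • p₀) = 1
            exact M.gTo_eq h₀ (one_mem _)
          rw [pow_zero, this, M.phi_one, sm_one]
        | succ j ih =>
          rw [pow_succ]
          exact hScmul _ (pow_mem (mul_mem he he) j) _ (mul_mem he he) ih h5
      obtain ⟨j, hj⟩ := ker_orderOf_odd h he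
      have h7 : (e * e) ^ (j + 1) = e := by
        rw [← sq, ← pow_mul, show 2 * (j + 1) = orderOf e + 1 by omega, pow_succ,
          pow_orderOf_eq_one, one_mul]
      exact h7 ▸ h6 (j + 1)
  choose! kap hkap using hSc
  exact ⟨⟨p₀, h₀, p, hp, kap, hkap⟩⟩

variable {M} (c : M.Chart)

/-- The vector of a point off the chord. -/
noncomputable def Mod.Chart.vec (p : Ω) : E × E := M.phi (M.gTo c.base p) c.vec₀

theorem Mod.Chart.vec_smul {g : G} (hg : g ∈ M.lGrp) {p : Ω} (hp : h.Off p) :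
    c.vec (g • p) = M.phi g (c.vec p) := by
  obtain ⟨h1, h2⟩ := M.gTo_spec c.off hp
  show M.phi (M.gTo c.base (g • p)) c.vec₀ = _
  conv_lhs => rw [← h2, ← mul_smul, M.gTo_eq c.off (M.lGrp.mul_mem hg h1)]
  exact M.phi_mul hg h1 _

theorem Mod.Chart.vec_ker {e : G} (he : e ∈ vKer a t) {p : Ω} (hp : h.Off p) :
    c.vec (e • p) = sm (c.kappa e) (c.vec p) := by
  obtain ⟨h1, h2⟩ := M.gTo_spec c.off hp
  conv_lhs => rw [← h2, ← mul_smul, M.ker_lGrp he h1, mul_smul]
  rw [c.vec_smul h1 (off_ker he c.off), show c.vec (e • c.base) = sm (c.kappa e) c.vec₀ from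
    c.ker_smul e he, M.phi_sm h1]
  rfl

theorem Mod.Chart.form_vec {p : Ω} (hp : h.Off p) : M.form (c.vec p) = 1 :=
  (M.form_phi (M.gTo_spec c.off hp).1 _).trans c.form₀

theorem Mod.Chart.vec_inj {p p' : Ω} (hp : h.Off p) (hp' : h.Off p') (e : c.vec p = c.vec p') :
    p = p' := by
  obtain ⟨g, hg, rfl⟩ := M.trans hp hp'
  rw [c.vec_smul hg hp] at e
  rw [M.stab_trivial hg (c.form_vec hp) e.symm, one_smul]

theorem Mod.Chart.norm_kappa {e : G} (he : e ∈ vKer a t) :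
    c.kappa e ^ M.q * c.kappa e = 1 := by
  have := c.form_vec (off_ker he c.off)
  rwa [c.vec_ker he c.off, M.form_sm, c.form_vec c.off, mul_one] at this

theorem Mod.Chart.kappa_ne_zero {e : G} (he : e ∈ vKer a t) : c.kappa e ≠ 0 := fun e0 => by
  have := c.norm_kappa he
  rw [e0, mul_zero] at this
  exact zero_ne_one this

theorem Mod.Chart.kappa_inj {e e' : G} (he : e ∈ vKer a t) (he' : e' ∈ vKer a t)
    (hk : c.kappa e = c.kappa e') : e = e' := by
  have h1 : e • c.base = e' • c.base := c.vec_inj (off_ker he c.off) (off_ker he' c.off) (by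
    rw [c.vec_ker he c.off, c.vec_ker he' c.off, hk])
  by_contra hne
  exact off_ne_ker ((vKer a t).mul_mem ((vKer a t).inv_mem he') he)
    (fun e1 => hne (inv_mul_eq_one.1 e1).symm) c.off (by rw [mul_smul, h1, inv_smul_smul])

theorem sm_inj {M : Mod h E} {p : E × E} (hp : M.form p = 1) {x y : E} (e : sm x p = sm y p) :
    x = y := mul_right_cancel₀ (M.snd_ne_zero hp) (congrArg Prod.snd e)

theorem Mod.Chart.kappa_mul {e e' : G} (he : e ∈ vKer a t) (he' : e' ∈ vKer a t) :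
    c.kappa (e * e') = c.kappa e * c.kappa e' := by
  refine sm_inj (c.form_vec c.off) ?_
  rw [← c.vec_ker (mul_mem he he') c.off, mul_smul, c.vec_ker he (off_ker he' c.off),
    c.vec_ker he' c.off, sm_sm]

theorem Mod.Chart.kappa_one : c.kappa 1 = 1 := by
  refine sm_inj (c.form_vec c.off) ?_
  rw [← c.vec_ker (one_mem _) c.off, one_smul, sm_one]

include c in
theorem Mod.Chart.ker_comm {e e' : G} (he : e ∈ vKer a t) (he' : e' ∈ vKer a t) :
    e * e' = e' * e :=
  c.kappa_inj (mul_mem he he') (mul_mem he' he)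
    (by rw [c.kappa_mul he he', c.kappa_mul he' he, mul_comm])

theorem Mod.Chart.kappa_not_inF {e : G} (he : e ∈ vKer a t) (he1 : e ≠ 1) :
    ¬ M.InF (c.kappa e) := by
  intro hF
  refine he1 (c.kappa_inj he (one_mem _) ?_)
  rw [c.kappa_one]
  refine M.sq_inj ?_
  rw [one_pow, sq]
  have := c.norm_kappa he
  rwa [show c.kappa e ^ M.q = c.kappa e from hF] at this

/-- Every vector of norm one is the vector of a point. -/
theorem Mod.Chart.vec_surj {x : E × E} (hx : M.form x = 1) : ∃ p, h.Off p ∧ c.vec p = x := by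
  classical
  haveI := M.finite
  letI := Fintype.ofFinite E
  haveI := finiteOmega (setup h)
  letI := Fintype.ofFinite Ω
  let S := Finset.univ.filter fun y : E × E => M.form y = 1
  let T := Finset.univ.filter fun p : Ω => h.Off p
  have hT : T.card + M.q = M.q ^ 3 := by
    rw [← M.card_off, Nat.card_eq_fintype_card, Fintype.card_subtype]
  have hfib : ∀ b ∈ S.image Prod.snd, (S.filter fun y => y.2 = b).card ≤ M.q := by
    intro b hb
    obtain ⟨y₀, hy₀, rfl⟩ := Finset.mem_image.1 hb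
    simp only [S, Finset.mem_filter, Finset.mem_univ, true_and] at hy₀
    have hb0 := M.snd_ne_zero hy₀
    rw [← M.card_inF, Nat.card_eq_fintype_card, Fintype.card_subtype]
    refine Finset.card_le_card_of_injOn (fun y => (y.1 + y₀.1) / y₀.2) (fun y hy => ?_)
      (fun y hy y' hy' e => ?_)
    · simp only [S, Finset.coe_filter, Finset.mem_filter, Finset.mem_univ, true_and,
        Set.mem_setOf_eq] at hy
      obtain ⟨hy1, hy2⟩ := hy
      simp only [Finset.coe_filter, Finset.mem_univ, true_and, Set.mem_setOf_eq, Mod.InF, div_pow,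
        M.add_pow]
      simp only [Mod.form, hy2] at hy1 hy₀
      field_simp
      linear_combination hy1 + hy₀ -
        (y.1 * y₀.2 ^ M.q + y₀.1 * y₀.2 ^ M.q) * M.two_eq_zero + M.two_eq_zero
    · simp only [Finset.coe_filter, Finset.mem_filter, Set.mem_setOf_eq] at hy hy'
      exact Prod.ext (by simpa [div_left_inj' hb0] using e) (hy.2.trans hy'.2.symm)
  have h2 : (S.image Prod.snd).card + 1 ≤ M.q ^ 2 := by
    rw [← M.card, Nat.card_eq_fintype_card, ← Finset.card_univ]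
    refine Finset.card_lt_card (Finset.ssubset_univ_iff.2 fun e => ?_)
    obtain ⟨y, hy, hy0⟩ := Finset.mem_image.1 (e ▸ Finset.mem_univ (0 : E) : (0 : E) ∈ S.image Prod.snd)
    exact M.snd_ne_zero (Finset.mem_filter.1 hy).2 hy0
  have h3 := Finset.card_le_mul_card_image (s := S) M.q hfib
  have h4 : S.card + M.q ≤ M.q ^ 3 := by
    have := Nat.mul_le_mul_left M.q h2
    rw [mul_add, mul_one] at this
    rw [show M.q ^ 3 = M.q * M.q ^ 2 by ring]
    omega
  have h5 : (T.image c.vec) = S := by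
    refine Finset.eq_of_subset_of_card_le (fun y hy => ?_) ?_
    · obtain ⟨p, hp, rfl⟩ := Finset.mem_image.1 hy
      exact Finset.mem_filter.2 ⟨Finset.mem_univ _, c.form_vec (Finset.mem_filter.1 hp).2⟩
    · rw [Finset.card_image_of_injOn fun p hp p' hp' e =>
        c.vec_inj (Finset.mem_filter.1 hp).2 (Finset.mem_filter.1 hp').2 e]
      show S.card ≤ T.card
      omega
  obtain ⟨p, hp, rfl⟩ := Finset.mem_image.1 (h5 ▸ Finset.mem_filter.2 ⟨Finset.mem_univ _, hx⟩ :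
    x ∈ T.image c.vec)
  exact ⟨p, (Finset.mem_filter.1 hp).2, rfl⟩

end Cfsg.Agent.Lib.BenderSuzuki.Coords
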