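import Cfsg.Agent.Lib.BenderSuzuki.Coords.Norm

/-!
# Bender–Suzuki §9: the cocycle of `θ` and `δ`

The identity `δ (x y) = δ x + δ y + (θ x)^q θ y` holds on the pairs with `θ y ∈ F ν (θ x)`, read off
from the cells of `t (y₃ z) t`; associativity of `Q` extends it to all pairs.
-/

set_option autoImplicit false

namespace Cfsg.Agent.Lib.BenderSuzuki.Coords

open MulAction Cfsg.Agent.Lib.RankOne.Basic Cfsg.Agent.Lib.RankOne.Involution

universe u v

variable {G : Type u} {Ω : Type v} [Group G] [Finite G] [MulAction G Ω] {a : Ω} {t : G}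
  {Q : Subgroup G} {h : Ctx G Ω a t Q} {E : Type} [Field E] {M : Mod h E} (c : M.Chart)

/-- The multiplication law for one pair. -/
def Mod.Chart.Pair (x y : G) : Prop :=
  c.theta (x * y) = c.theta x + c.theta y ∧
    c.dd (x * y) = c.dd x + c.dd y + c.theta x ^ M.q * c.theta y

/-- The multiplication law for a pair of first coordinates. -/
def Mod.Chart.Coc (α β : E) : Prop :=
  ∀ x ∈ Q, ∀ y ∈ Q, c.theta x = α → c.theta y = β → c.Pair x y

theorem Mod.Chart.exists_theta (α : E) : ∃ x ∈ Q, c.theta x = α := by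
  by_cases hα : α = 0
  · exact ⟨1, Q.one_mem, by rw [hα, c.theta_z (one_mem _)]⟩
  · obtain ⟨d, hd⟩ := M.exists_trace (M.inF_norm α)
    obtain ⟨x, hx, -, hθ, -⟩ := c.exists_of_trace hα hd
    exact ⟨x, hx, hθ⟩

theorem Mod.Chart.kappa_inv {e : G} (he : e ∈ vKer a t) : c.kappa e⁻¹ = (c.kappa e)⁻¹ := by
  refine eq_inv_of_mul_eq_one_left ?_
  rw [← c.kappa_mul ((vKer a t).inv_mem he) he, inv_mul_cancel, c.kappa_one]

include c in
theorem Mod.Chart.coc_of_pair {x y : G} (hx : x ∈ Q) (hy : y ∈ Q) (hp : c.Pair x y) :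
    c.Coc (c.theta x) (c.theta y) := by
  intro x' hx' y' hy' ex ey
  obtain ⟨z, hz, rfl⟩ := c.coset hx hx' ex.symm
  obtain ⟨w, hw, rfl⟩ := c.coset hy hy' ey.symm
  obtain ⟨p1, p2⟩ := hp
  have e : z * x * (w * y) = (z * w) * (x * y) := by
    calc z * x * (w * y) = z * (x * w) * y := by group
      _ = z * (w * x) * y := by rw [z_comm h hw hx]
      _ = _ := by group
  obtain ⟨t1, t2⟩ := c.theta_zmul (mul_mem hz hw) (Q.mul_mem hx hy)
  obtain ⟨x1, x2⟩ := c.theta_zmul hz hx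
  obtain ⟨y1, y2⟩ := c.theta_zmul hw hy
  refine ⟨?_, ?_⟩
  · rw [e, t1, p1, x1, y1]
  · rw [e, t2, p2, x1, x2, y1, y2, M.zeta_mul z hz w hw]; ring

theorem Mod.Chart.coc_zero_left (β : E) : c.Coc 0 β := by
  obtain ⟨y, hy, rfl⟩ := c.exists_theta β
  obtain ⟨h1, h2⟩ := c.theta_zmul (one_mem (zSub h)) hy
  have h0 := c.theta_z (one_mem (zSub h))
  rw [← h0]
  refine c.coc_of_pair Q.one_mem hy ⟨by rw [h1, h0, zero_add], ?_⟩
  rw [h2, h0, c.dd_z (one_mem _), zero_pow M.q_ne_zero, zero_mul, add_zero]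

theorem Mod.Chart.coc_zero_right (α : E) : c.Coc α 0 := by
  obtain ⟨x, hx, rfl⟩ := c.exists_theta α
  have h0 := c.theta_z (one_mem (zSub h))
  rw [← h0]
  refine c.coc_of_pair hx Q.one_mem ⟨by rw [mul_one, h0, add_zero], ?_⟩
  rw [mul_one, h0, c.dd_z (one_mem _), M.zeta_one, mul_zero, add_zero, add_zero]

variable (hs : M.HasFixer)
include hs

theorem Mod.Chart.coc_self (α : E) : c.Coc α α := by
  obtain ⟨x, hx, rfl⟩ := c.exists_theta α
  have hz := q_sq h hx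
  refine c.coc_of_pair hx hx ⟨by rw [c.theta_z hz, M.add_self], ?_⟩
  rw [c.dd_z hz, M.add_self, zero_add]
  exact c.norm_eq hs hx

theorem Mod.Chart.pair_inv {x y : G} (hy : y ∈ Q) (hp : c.Pair x y) : c.Pair (x * y) y⁻¹ := by
  obtain ⟨p1, p2⟩ := hp
  obtain ⟨i1, -⟩ := c.theta_inv hy
  refine ⟨?_, ?_⟩
  · rw [mul_inv_cancel_right, p1, i1, add_assoc, M.add_self, add_zero]
  · rw [mul_inv_cancel_right, p1, p2, i1, c.dd_inv hs hy, M.add_pow]
    linear_combination -c.trace hy -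
      (c.theta x ^ M.q * c.theta y + c.theta y ^ M.q * c.theta y) * M.two_eq_zero

theorem Mod.Chart.coc_symm {α β : E} (hc : c.Coc α β) : c.Coc β α := by
  intro x hx y hy ex ey
  obtain ⟨x1, -⟩ := c.theta_inv hx
  obtain ⟨y1, -⟩ := c.theta_inv hy
  obtain ⟨p1, p2⟩ := hc y⁻¹ (Q.inv_mem hy) x⁻¹ (Q.inv_mem hx) (y1.trans ey) (x1.trans ex)
  rw [← mul_inv_rev] at p1 p2
  obtain ⟨xy1, -⟩ := c.theta_inv (Q.mul_mem hx hy)
  rw [xy1, x1, y1] at p1
  rw [c.dd_inv hs (Q.mul_mem hx hy), c.dd_inv hs hx, c.dd_inv hs hy, x1, y1] at p2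
  refine ⟨by rw [p1, add_comm], ?_⟩
  calc c.dd (x * y) = (c.dd (x * y) ^ M.q) ^ M.q := (M.pow_pow _).symm
    _ = _ := by
      rw [p2, M.add_pow, M.add_pow, M.pow_pow, M.pow_pow, mul_pow, M.pow_pow]; ring

theorem Mod.Chart.coc_assoc {α β γ : E} (h1 : c.Coc α β) (h2 : c.Coc (α + β) γ)
    (h3 : c.Coc β γ) : c.Coc α (β + γ) := by
  obtain ⟨x, hx, rfl⟩ := c.exists_theta α
  obtain ⟨y, hy, rfl⟩ := c.exists_theta β
  obtain ⟨z, hz, rfl⟩ := c.exists_theta γ
  obtain ⟨a1, a2⟩ := h1 x hx y hy rfl rfl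
  obtain ⟨b1, b2⟩ := h3 y hy z hz rfl rfl
  obtain ⟨c1, c2⟩ := h2 (x * y) (Q.mul_mem hx hy) z hz a1 rfl
  rw [← b1]
  refine c.coc_of_pair hx (Q.mul_mem hy hz) ⟨?_, ?_⟩
  · rw [← mul_assoc, c1, a1, b1, add_assoc]
  · rw [← mul_assoc, c2, a1, a2, b1, b2, M.add_pow]; ring

/-- The law on the lines `F ν`. -/
theorem Mod.Chart.coc_line {v : G} (hv : v ∈ vKer a t) (hv1 : v ≠ 1) (hvp : (orderOf v).Prime)
    {l : E} (hl : M.InF l) (α : E) : c.Coc α (l * (c.kappa v)⁻¹ * α) := by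
  by_cases hl0 : l = 0
  · rw [hl0, zero_mul, zero_mul]; exact c.coc_zero_right α
  by_cases hα : α = 0
  · rw [hα, mul_zero]; exact c.coc_zero_left 0
  set ν := (c.kappa v)⁻¹ with hνdef
  have hν : ν ≠ 0 := inv_ne_zero (c.kappa_ne_zero hv)
  have h1ν : (1 : E) + l * ν ≠ 0 := fun e => c.kappa_not_inF hv hv1 (by
    have e1 : c.kappa v = l := by
      have e2 := (M.eq_of_add e).symm
      rw [hνdef] at e2
      exact ((mul_inv_eq_one₀ (c.kappa_ne_zero hv)).1 e2).symm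
    rw [e1]; exact hl)
  obtain ⟨y, hyQ, hyθ⟩ := c.exists_theta (α * (1 + l * ν))
  have hA : c.theta y ≠ 0 := by rw [hyθ]; exact mul_ne_zero hα h1ν
  have hy : y ∉ zSub h := fun hz => hA (c.theta_z hz)
  obtain ⟨τ, w, q, hτ, hτp, hw, hq, he⟩ := c.exists_translate hs hv hv1 hvp hyQ hy
  obtain ⟨k, hk, hmu, -, y₃, g, d, f, hy₃Q, hy₃, hg, hd, hf, hcell, hdw, hgθ, hgd, hfθ, hfd⟩ :=
    c.shift hv hv1 hyQ hy hτ hτp hw hq he
  have hS := setup h
  have hm := M.mu_ne_zero hk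
  have hgd' : c.dd g = M.mu k * ν := by
    rw [hgd, c.norm_eq hs hyQ, ← hmu, hνdef]
    linear_combination (M.mu k * c.kappa v) * M.two_eq_zero
  obtain ⟨-, G1, G2⟩ := c.theta_g hy₃Q hy₃ hg (cell_g hd hf hcell h)
  rw [hgθ] at G1
  rw [hgd'] at G2
  have hy₃d : c.dd y₃ = (M.mu k * ν)⁻¹ := by rw [G2, inv_inv]
  have hy₃θ : c.theta y₃ = c.theta y * (M.mu k * ν)⁻¹ := by
    rw [G1, hy₃d, div_mul_cancel₀ _ (inv_ne_zero (mul_ne_zero hm hν))]
  -- the involution `z`, with `ζ (z) = l / μ`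
  obtain ⟨m, hmk, hmc⟩ := M.exists_chi (M.inF_mul hl (M.inF_inv (M.mu_inF hk)))
    (mul_ne_zero hl0 (inv_ne_zero hm))
  set z := m * sInv h * m⁻¹ with hzdef
  set z' := m⁻¹ * sInv h * m with hz'def
  have hz : z ∈ zSub h := z_conj_mem h (sInv_mem h) hmk.1.1
  have hz' : z' ∈ zSub h := by
    simpa using z_conj_mem h (sInv_mem h) ((stabilizer G a).inv_mem hmk.1.1)
  have hzζ : M.zeta z = l * (M.mu k)⁻¹ := hmc
  have hz'ζ : M.zeta z' = (M.zeta z)⁻¹ := by
    rw [hzdef, hz'def, ← show M.chi m = M.zeta (m * sInv h * m⁻¹) from rfl, ← M.chi_inv hmk,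
      Mod.chi, inv_inv]
  -- the image of the second coordinate
  have hf' : f ∉ zSub h := (c.theta_f hy₃Q hy₃ hg hd hf hcell).1
  have hzf : z' * f ∉ zSub h := not_mem_z_mul hz' hf'
  have hzfQ : z' * f ∈ Q := Q.mul_mem (zSub_le h hz') hf
  obtain ⟨g', hg'Q, hg'z, hg'e⟩ := c.t_off hzfQ hzf
  obtain ⟨-, g'1, g'2⟩ := c.theta_g hzfQ hzf hg'Q hg'e
  obtain ⟨zf1, zf2⟩ := c.theta_zmul hz' hf
  rw [zf1, zf2, hfθ, hfd, hz'ζ, hzζ] at g'1
  rw [zf2, hfd, hz'ζ, hzζ] at g'2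
  set q' := d * g' * d⁻¹ with hq'def
  have hq'Q : q' ∈ Q := twoStab_norm hS hd hg'Q
  have hd' : q' = k * (v * (w⁻¹ * g' * w⁻¹⁻¹) * v⁻¹) * k⁻¹ := by
    rw [hq'def, show d = k * v * w⁻¹ by rw [← hdw]; group]; group
  have hwi : w⁻¹ * g' * w⁻¹⁻¹ ∈ Q := twoStab_norm hS ((vKer a t).inv_mem hw).1 hg'Q
  obtain ⟨k1, k2⟩ := c.theta_k hk (twoStab_norm hS hv.1 hwi)
  obtain ⟨v1, v2⟩ := c.theta_ker hv hwi
  obtain ⟨w1, w2⟩ := c.theta_ker ((vKer a t).inv_mem hw) hg'Q
  rw [← hd', v1, w1, c.kappa_inv hw, inv_inv, g'1] at k1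
  rw [← hd', v2, w2, g'2, ← M.mu_sq hk] at k2
  -- the product
  have hzy : z * y₃ ∉ zSub h := not_mem_z_mul hz hy₃
  have hzyQ : z * y₃ ∈ Q := Q.mul_mem (zSub_le h hz) hy₃Q
  have hpt : (g * q') • (t • a) = t • ((z * y₃) • (t • a)) := by
    have htz : (t * z * t) • a = z' • (t • a) := by
      rw [hzdef, tzt h hmk, ← hz'def, mul_smul, hz'.1, mul_smul,
        show (m * m) • a = a from (k_mul h hmk hmk).1.1, mul_smul]
    calc (g * q') • (t • a) = g • (d • (g' • (t • a))) := by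
          rw [mul_smul, conj_smul_b hd]
      _ = g • (d • (t • ((z' * f) • (t • a)))) := by rw [hg'e]
      _ = (g * d * t * f) • (z' • (t • a)) := by
          rw [z_comm h hz' hf]; simp only [mul_smul]
      _ = (t * y₃ * t) • ((t * z * t) • a) := by rw [hcell, htz]
      _ = _ := by
          rw [← mul_smul, z_comm h hz hy₃Q]
          simp only [← mul_smul]
          congr 1
          calc t * y₃ * t * (t * z * t) = t * y₃ * (t * t) * z * t := by group
            _ = _ := by rw [hS.mul_self]; group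
  obtain ⟨-, P1, P2⟩ := c.theta_g hzyQ hzy (Q.mul_mem hg hq'Q) hpt
  obtain ⟨zy1, zy2⟩ := c.theta_zmul hz hy₃Q
  rw [zy1, zy2, hy₃θ, hy₃d, hzζ] at P1
  rw [zy2, hy₃d, hzζ] at P2
  have hκν : c.kappa v * ν = 1 := mul_inv_cancel₀ (c.kappa_ne_zero hv)
  have hω := c.kappa_ne_zero hw
  have hll : l * l⁻¹ = 1 := mul_inv_cancel₀ hl0
  have hd₁ : (l * (M.mu k)⁻¹)⁻¹ + M.mu k * ν = M.mu k * (1 + l * ν) * l⁻¹ := by
    rw [mul_inv, inv_inv]; linear_combination (-(M.mu k * ν)) * hll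
  have hd₂ : l * (M.mu k)⁻¹ + (M.mu k * ν)⁻¹ = (1 + l * ν) * (M.mu k * ν)⁻¹ := by
    field_simp; ring
  rw [← hνdef] at k1 k2
  rw [hd₁] at k1 k2
  rw [hd₂] at P1 P2
  set i := (1 + l * ν)⁻¹ with hidef
  have hi : (1 + l * ν) * i = 1 := mul_inv_cancel₀ h1ν
  have Q1 : c.theta q' = l * ν * c.theta y * i := by
    rw [k1, hidef]
    generalize 1 + l * ν = u at h1ν ⊢
    field_simp
  have Q2 : c.dd q' = M.mu k * l * i := by
    rw [k2, hidef]
    generalize 1 + l * ν = u at h1ν ⊢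
    field_simp
  have G1' : c.theta (g * q') = c.theta y * i := by
    rw [P1, hidef]
    generalize 1 + l * ν = u at h1ν ⊢
    field_simp
  have G2' : c.dd (g * q') = M.mu k * ν * i := by
    rw [P2, hidef]
    generalize 1 + l * ν = u at h1ν ⊢
    field_simp
  have hpair : c.Pair g q' := by
    refine ⟨?_, ?_⟩
    · rw [G1', hgθ, Q1]
      linear_combination c.theta y * hi - (l * ν * c.theta y * i) * M.two_eq_zero
    · rw [G2', hgθ, hgd', Q1, Q2]
      linear_combination (M.mu k * ν) * hi + (l * ν * i) * hmu - (M.mu k * l * i) * hκν -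
        (M.mu k * l * ν ^ 2 * i + M.mu k * l * i) * M.two_eq_zero
  have hres := c.coc_of_pair (Q.mul_mem hg hq'Q) (Q.inv_mem hq'Q) (c.pair_inv hs hq'Q hpair)
  rw [(c.theta_inv hq'Q).1] at hres
  have e1 : c.theta (g * q') = α := by
    rw [G1', hyθ]; linear_combination α * hi
  have e2 : c.theta q' = l * ν * α := by
    rw [Q1, hyθ]; linear_combination (l * ν * α) * hi
  rwa [e1, e2] at hres

/-- The law holds for all pairs. -/
theorem Mod.Chart.coc_all (α β : E) : c.Coc α β := by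
  obtain ⟨v, hv, hv1, hvp⟩ := exists_prime_ker h
  obtain ⟨hv2, hv2p⟩ := prime_sq h hv hv1 hvp
  set κ := c.kappa v with hκdef
  have hκ := c.kappa_ne_zero hv
  set ν := κ⁻¹ with hνdef
  have hκν : κ * ν = 1 := mul_inv_cancel₀ hκ
  have hκq : κ ^ M.q = ν := eq_inv_of_mul_eq_one_left (c.norm_kappa hv)
  set P := κ + ν with hPdef
  have hP : P ≠ 0 := fun e => c.kappa_not_inF hv hv1 (by
    show κ ^ M.q = κ
    rw [hκq]; exact (M.eq_of_add e).symm)
  have hPF : M.InF P := by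
    rw [hPdef, ← hκq, add_comm]; exact M.inF_trace κ
  have line : ∀ l, M.InF l → ∀ x, c.Coc x (l * ν * x) := fun l hl x =>
    c.coc_line hs hv hv1 hvp hl x
  have line' : ∀ l, M.InF l → ∀ x, c.Coc x (l * κ * x) := fun l hl x => by
    by_cases hl0 : l = 0
    · rw [hl0, zero_mul, zero_mul]; exact c.coc_zero_right x
    have := c.coc_symm hs (line l⁻¹ (M.inF_inv hl) (l * κ * x))
    rwa [show l⁻¹ * ν * (l * κ * x) = x by
      rw [show l⁻¹ * ν * (l * κ * x) = l⁻¹ * l * (κ * ν) * x by ring, hκν, inv_mul_cancel₀ hl0,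
        one_mul, one_mul]] at this
  have shift' : ∀ x y, c.Coc x y → c.Coc x (x + y) := fun x y hxy =>
    c.coc_assoc hs (c.coc_self hs x) (by rw [M.add_self]; exact c.coc_zero_left y) hxy
  have scal : ∀ r, M.InF r → ∀ x, c.Coc x (r * x) := by
    intro r hr x
    by_cases hr0 : r = 0
    · rw [hr0, zero_mul]; exact c.coc_zero_right x
    set y := r * P⁻¹ with hydef
    have hy : M.InF y := M.inF_mul hr (M.inF_inv hPF)
    have hy0 : y ≠ 0 := mul_ne_zero hr0 (inv_ne_zero hP)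
    have e : r * x = y * κ * x + y * ν * x := by
      rw [hydef, ← add_mul, ← mul_add, ← hPdef, mul_assoc r, inv_mul_cancel₀ hP, mul_one]
    rw [e]
    refine c.coc_assoc hs (line' y hy x) ?_ ?_
    · have h1 := c.coc_symm hs (shift' _ _
        (line' (y⁻¹ + P) (M.inF_add (M.inF_inv hy) hPF) (y * ν * x)))
      rwa [show y * ν * x + (y⁻¹ + P) * κ * (y * ν * x) = x + y * κ * x by
        have hy' : y * y⁻¹ = 1 := mul_inv_cancel₀ hy0
        rw [hPdef]
        linear_combination (y⁻¹ * y * x + y * κ * x + y * ν * x) * hκν + x * hy' +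
          (y * ν * x) * M.two_eq_zero] at h1
    · have h1 := c.coc_line hs (mul_mem hv hv) hv2 hv2p M.inF_one (y * κ * x)
      rwa [show 1 * (c.kappa (v * v))⁻¹ * (y * κ * x) = y * ν * x by
        rw [c.kappa_mul hv hv, ← hκdef, hνdef]; field_simp] at h1
  by_cases hα : α = 0
  · rw [hα]; exact c.coc_zero_left β
  set e := β * α⁻¹ with hedef
  have hβ : β = e * α := by rw [hedef, mul_assoc, inv_mul_cancel₀ hα, mul_one]
  set s := (e ^ M.q + e) * P⁻¹ with hsdef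
  have hs' : M.InF s := M.inF_mul (M.inF_trace e) (M.inF_inv hPF)
  have hsP : s * P = e ^ M.q + e := by rw [hsdef, mul_assoc, inv_mul_cancel₀ hP, mul_one]
  have hr : M.InF (e + s * ν) := by
    have hνq : ν ^ M.q = κ := by rw [hνdef, inv_pow, hκq, hνdef, inv_inv]
    show (e + s * ν) ^ M.q = e + s * ν
    rw [M.add_pow, mul_pow s ν, show s ^ M.q = s from hs', hνq]
    rw [hPdef] at hsP
    linear_combination hsP + (e ^ M.q - s * ν) * M.two_eq_zero
  have e' : β = (e + s * ν) * α + s * ν * α := by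
    rw [hβ]; linear_combination -(s * ν * α) * M.two_eq_zero
  rw [e']
  set r := e + s * ν
  refine c.coc_assoc hs (scal r hr α) ?_ ?_
  · by_cases h1r : 1 + r = 0
    · rw [show α + r * α = (1 + r) * α by ring, h1r, zero_mul]; exact c.coc_zero_left _
    · have := line (s * (1 + r)⁻¹) (M.inF_mul hs' (M.inF_inv (M.inF_add M.inF_one hr))) (α + r * α)
      rwa [show s * (1 + r)⁻¹ * ν * (α + r * α) = s * ν * α by field_simp] at this
  · by_cases hr0 : r = 0
    · rw [hr0, zero_mul]; exact c.coc_zero_left _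
    · have := line (s * r⁻¹) (M.inF_mul hs' (M.inF_inv hr)) (r * α)
      rwa [show s * r⁻¹ * ν * (r * α) = s * ν * α by field_simp] at this

/-- The two coordinates turn the product of `Q` into the unitary cocycle. -/
theorem Mod.Chart.mul_law {x y : G} (hx : x ∈ Q) (hy : y ∈ Q) :
    c.theta (x * y) = c.theta x + c.theta y ∧
      c.dd (x * y) = c.dd x + c.dd y + c.theta x ^ M.q * c.theta y :=
  c.coc_all hs _ _ x hx y hy rfl rfl

end Cfsg.Agent.Lib.BenderSuzuki.Coords
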