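import Cfsg.Agent.Lib.BenderSuzuki.Coords.Basic
import Cfsg.Agent.Lib.Suzuki2.FieldModel
import Mathlib.FieldTheory.Finite.GaloisField

/-!
# Bender–Suzuki §9: the field with `q²` elements and `Z₀` as its subfield with `q` elements
-/

set_option autoImplicit false

namespace Cfsg.Agent.Lib.BenderSuzuki.Coords

open MulAction Cfsg.Agent.Lib.RankOne.Basic Cfsg.Agent.Lib.RankOne.Involution
open Cfsg.Agent.Lib.FTDeps

universe u v

variable {G : Type u} {Ω : Type v} [Group G] [Finite G] [MulAction G Ω] {a : Ω} {t : G}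
  {Q : Subgroup G}

/-- `Z₀` identified with the subfield of `q` elements of `E`, the field with `q²` elements. -/
structure Mod (h : Ctx G Ω a t Q) (E : Type) [Field E] where
  /-- the degree -/
  n : ℕ
  two_le : 2 ≤ n
  qNum_eq : qNum G a = 2 ^ n
  card : Nat.card E = (2 ^ n) ^ 2
  char : CharP E 2
  /-- the identification -/
  zeta : G → E
  zeta_mul : ∀ z ∈ zSub h, ∀ z' ∈ zSub h, zeta (z * z') = zeta z + zeta z'
  zeta_inj : ∀ z ∈ zSub h, ∀ z' ∈ zSub h, zeta z = zeta z' → z = z'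
  zeta_surj : ∀ l : E, l ^ 2 ^ n = l → ∃ z ∈ zSub h, zeta z = l
  zeta_fix : ∀ z ∈ zSub h, zeta z ^ 2 ^ n = zeta z
  zeta_s : zeta (sInv h) = 1
  zeta_conj : ∀ k ∈ kSet a t, ∀ z ∈ zSub h,
    zeta (k * z * k⁻¹) = zeta (k * sInv h * k⁻¹) * zeta z

theorem exists_mod (h : Ctx G Ω a t Q) :
    ∃ (E : Type) (_ : Field E), Nonempty (Mod h E) := by
  classical
  haveI : Fact (Nat.Prime 2) := ⟨Nat.prime_two⟩
  haveI : Finite (zSub h) := inferInstance
  obtain ⟨n, hn, hcard⟩ := RankOneCore.exists_card_invSub (setup h) h.hyp.twoRank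
  change Nat.card (zSub h) = 2 ^ n at hcard
  have hn2 : 2 ≤ n := by
    obtain ⟨s, s', hs, hs', hne⟩ := Cfsg.Agent.Lib.RankOne.Nilpotent.exists_two_involutions (setup h) h.hyp.twoRank
    rcases n with _ | _ | n
    · exact absurd rfl hn
    · exfalso
      rw [zero_add, pow_one] at hcard
      have h1 : ((zSub h : Subgroup G) : Set G).ncard = 2 := by
        rw [← Nat.card_coe_set_eq]; exact hcard
      have h3 : ({1, s, s'} : Set G).ncard = 3 := by
        rw [Set.ncard_eq_three]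
        exact ⟨1, s, s', Ne.symm hs.2.1, Ne.symm hs'.2.1, hne, rfl⟩
      have h4 : ({1, s, s'} : Set G) ⊆ (zSub h : Set G) := by
        rintro x (rfl | rfl | rfl)
        exacts [(zSub h).one_mem, z_of_invs h hs, z_of_invs h hs']
      have := Set.ncard_le_ncard h4 (Set.toFinite _)
      omega
    · omega
  let conjAut : ∀ k : G, k • a = a → MulAut (zSub h) := fun k hk =>
    { toFun := fun z => ⟨k * z * k⁻¹, z_conj_mem h z.2 hk⟩
      invFun := fun z => ⟨k⁻¹ * z * k, by simpa using z_conj_mem h z.2 ((stabilizer G a).inv_mem hk)⟩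
      left_inv := fun z => Subtype.ext (by simp [mul_assoc])
      right_inv := fun z => Subtype.ext (by simp [mul_assoc])
      map_mul' := fun z w => Subtype.ext (by simp [mul_assoc]) }
  let L : Subgroup (MulAut (zSub h)) :=
    { carrier := {f | ∃ k ∈ kSet a t, ∀ z, ((f z : zSub h) : G) = k * z * k⁻¹}
      one_mem' := ⟨1, k_one h, fun z => by simp⟩
      mul_mem' := by
        rintro f g ⟨k, hk, hf⟩ ⟨l, hl, hg⟩
        refine ⟨k * l, k_mul h hk hl, fun z => ?_⟩
        rw [MulAut.mul_apply, hf, hg]; group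
      inv_mem' := by
        rintro f ⟨k, hk, hf⟩
        refine ⟨k⁻¹, k_inv h hk, fun z => ?_⟩
        have e := hf (f⁻¹ z)
        rw [MulAut.apply_inv_self] at e
        rw [e]; group }
  have hLcomm : ∀ f ∈ L, ∀ g ∈ L, f * g = g * f := by
    rintro f ⟨k, hk, hf⟩ g ⟨l, hl, hg⟩
    refine MulEquiv.ext fun z => Subtype.ext ?_
    rw [MulAut.mul_apply, MulAut.mul_apply, hf, hg, hg, hf]
    calc k * (l * z * l⁻¹) * k⁻¹ = (k * l) * z * (k * l)⁻¹ := by group
      _ = (l * k) * z * (l * k)⁻¹ := by rw [k_comm h hk hl]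
      _ = _ := by group
  have hLtrans : ∀ x y : zSub h, x ≠ 1 → y ≠ 1 → ∃ f ∈ L, f x = y := by
    intro x y hx hy
    obtain ⟨k, hk, hke⟩ := exists_k h x.2 (fun e => hx (Subtype.ext e)) y.2
      (fun e => hy (Subtype.ext e))
    exact ⟨conjAut k hk.1.1, ⟨k, hk, fun z => rfl⟩, Subtype.ext hke⟩
  obtain ⟨ι, hbij, hadd, -, hι1, hmul⟩ := Suzuki2.FieldModel.field_model hn hcard
    (fun z => Subtype.ext (z_sq h z.2)) L hLcomm hLtrans (a₀ := ⟨sInv h, sInv_mem h⟩)
    (fun e => sInv_ne h (congrArg Subtype.val e))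
  have hn2n : 2 * n ≠ 0 := by omega
  obtain ⟨emb⟩ : Nonempty (GaloisField 2 n →ₐ[ZMod 2] GaloisField 2 (2 * n)) :=
    FiniteField.nonempty_algHom_of_finrank_dvd (by
      rw [GaloisField.finrank 2 hn, GaloisField.finrank 2 hn2n]; exact dvd_mul_left n 2)
  let zeta : G → GaloisField 2 (2 * n) := fun g => if hg : g ∈ zSub h then emb (ι ⟨g, hg⟩) else 0
  have hz : ∀ (g : G) (hg : g ∈ zSub h), zeta g = emb (ι ⟨g, hg⟩) := fun g hg => dif_pos hg
  letI : Fintype (GaloisField 2 n) := Fintype.ofFinite _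
  have hF : ∀ x : GaloisField 2 n, (emb x) ^ 2 ^ n = emb x := fun x => by
    rw [← map_pow]
    congr 1
    have := FiniteField.pow_card x
    rwa [← Nat.card_eq_fintype_card, GaloisField.card 2 n hn] at this
  refine ⟨GaloisField 2 (2 * n), inferInstance, ⟨{
    n := n
    two_le := hn2
    qNum_eq := (card_zSub h).symm.trans hcard
    card := by rw [GaloisField.card 2 _ hn2n, ← pow_mul, mul_comm]
    char := inferInstance
    zeta := zeta
    zeta_mul := fun z hz1 z' hz2 => by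
      rw [hz _ (mul_mem hz1 hz2), hz _ hz1, hz _ hz2, ← map_add, ← hadd]
      rfl
    zeta_inj := fun z hz1 z' hz2 e => by
      rw [hz _ hz1, hz _ hz2] at e
      exact congrArg Subtype.val (hbij.1 (emb.injective e))
    zeta_surj := fun l hl => ?_
    zeta_fix := fun z hz1 => by rw [hz _ hz1]; exact hF _
    zeta_s := by rw [hz _ (sInv_mem h), hι1, map_one]
    zeta_conj := fun k hk z hz1 => by
      rw [hz _ (z_conj_mem h hz1 hk.1.1), hz _ (z_conj_mem h (sInv_mem h) hk.1.1), hz _ hz1,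
        ← map_mul]
      exact congrArg emb (hmul (conjAut k hk.1.1) ⟨k, hk, fun _ => rfl⟩ ⟨z, hz1⟩) }⟩⟩
  letI : Fintype (GaloisField 2 (2 * n)) := Fintype.ofFinite _
  let S := Finset.univ.filter fun x : GaloisField 2 (2 * n) => x ^ 2 ^ n = x
  have hS : S.card ≤ 2 ^ n := by
    have hp : (Polynomial.X ^ 2 ^ n - Polynomial.X : Polynomial (GaloisField 2 (2 * n))) ≠ 0 :=
      FiniteField.X_pow_card_pow_sub_X_ne_zero _ hn one_lt_two
    refine le_trans (Finset.card_le_card (t := (Polynomial.X ^ 2 ^ n - Polynomial.X :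
      Polynomial (GaloisField 2 (2 * n))).roots.toFinset) fun x hx => ?_) ?_
    · simp only [S, Finset.mem_filter] at hx
      rw [Multiset.mem_toFinset, Polynomial.mem_roots hp]
      simp [hx.2]
    · refine le_trans (Multiset.toFinset_card_le _) (le_trans (Polynomial.card_roots' _) ?_)
      exact le_of_eq (FiniteField.X_pow_card_pow_sub_X_natDegree_eq _ hn one_lt_two)
  have hsub : Finset.univ.image emb ⊆ S := fun x hx => by
    obtain ⟨y, -, rfl⟩ := Finset.mem_image.1 hx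
    simp [S, hF]
  have hc : (Finset.univ.image emb).card = 2 ^ n := by
    rw [Finset.card_image_of_injective _ (show Function.Injective ⇑emb from emb.injective), Finset.card_univ, ← Nat.card_eq_fintype_card,
      GaloisField.card 2 n hn]
  have hlS : l ∈ S := by simp [S, hl]
  rw [← Finset.eq_of_subset_of_card_le hsub (by omega)] at hlS
  obtain ⟨y, -, rfl⟩ := Finset.mem_image.1 hlS
  obtain ⟨⟨g, hg⟩, rfl⟩ := hbij.2 y
  exact ⟨g, hg, hz g hg⟩

/-! ### The field -/

variable {h : Ctx G Ω a t Q} {E : Type} [Field E] (M : Mod h E)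

/-- The number `q`. -/
abbrev Mod.q : ℕ := 2 ^ M.n

theorem Mod.four_le : 4 ≤ M.q := le_trans (by norm_num) (Nat.pow_le_pow_right two_pos M.two_le)

theorem Mod.finite (M : Mod h E) : Finite E :=
  Nat.finite_of_card_ne_zero (by rw [M.card]; positivity)

theorem Mod.two_eq_zero (M : Mod h E) : (2 : E) = 0 := by
  haveI := M.char; exact CharTwo.two_eq_zero

theorem Mod.add_self (M : Mod h E) (x : E) : x + x = 0 := by
  rw [← two_mul, M.two_eq_zero, zero_mul]

theorem Mod.eq_of_add (M : Mod h E) {x y : E} (e : x + y = 0) : x = y := by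
  linear_combination e - M.add_self y

theorem Mod.add_pow (x y : E) : (x + y) ^ M.q = x ^ M.q + y ^ M.q := by
  haveI := M.char
  haveI : Fact (Nat.Prime 2) := ⟨Nat.prime_two⟩
  exact add_pow_char_pow x y 2 M.n

theorem Mod.pow_pow (x : E) : (x ^ M.q) ^ M.q = x := by
  haveI := M.finite
  letI := Fintype.ofFinite E
  rw [← pow_mul, ← sq, ← M.card, Nat.card_eq_fintype_card, FiniteField.pow_card]

theorem Mod.q_ne_zero : M.q ≠ 0 := by positivity

/-- Membership in the subfield. -/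
abbrev Mod.InF (x : E) : Prop := x ^ M.q = x

theorem Mod.inF_zero : M.InF 0 := zero_pow M.q_ne_zero

theorem Mod.inF_one : M.InF 1 := one_pow _

theorem Mod.inF_add {x y : E} (hx : M.InF x) (hy : M.InF y) : M.InF (x + y) := by
  rw [Mod.InF, M.add_pow, hx, hy]

theorem Mod.inF_mul {x y : E} (hx : M.InF x) (hy : M.InF y) : M.InF (x * y) := by
  rw [Mod.InF, mul_pow, hx, hy]

theorem Mod.inF_inv {x : E} (hx : M.InF x) : M.InF x⁻¹ := by
  rw [Mod.InF, inv_pow, hx]

theorem Mod.inF_pow {x : E} (hx : M.InF x) (m : ℕ) : M.InF (x ^ m) := by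
  rw [Mod.InF, ← pow_mul, mul_comm, pow_mul, hx]

theorem Mod.inF_trace (x : E) : M.InF (x ^ M.q + x) := by
  rw [Mod.InF, M.add_pow, M.pow_pow, add_comm]

theorem Mod.inF_norm (x : E) : M.InF (x ^ M.q * x) := by
  rw [Mod.InF, mul_pow, M.pow_pow, mul_comm]

/-- The square root in the subfield. -/
def Mod.sqrtF (x : E) : E := x ^ (2 ^ (M.n - 1))

theorem Mod.sqrtF_sq {x : E} (hx : M.InF x) : M.sqrtF x ^ 2 = x := by
  rw [Mod.sqrtF, ← pow_mul, ← pow_succ, Nat.sub_add_cancel (le_trans one_le_two M.two_le)]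
  exact hx

theorem Mod.inF_sqrtF {x : E} (hx : M.InF x) : M.InF (M.sqrtF x) := M.inF_pow hx _

theorem Mod.sqrtF_mul (x y : E) : M.sqrtF (x * y) = M.sqrtF x * M.sqrtF y := mul_pow _ _ _

theorem Mod.sqrtF_ne_zero {x : E} (hx : x ≠ 0) : M.sqrtF x ≠ 0 := pow_ne_zero _ hx

theorem Mod.sq_inj (M : Mod h E) {x y : E} (e : x ^ 2 = y ^ 2) : x = y := by
  haveI := M.char
  exact CharTwo.sq_injective e

theorem Mod.card_inF : Nat.card {x : E // M.InF x} = M.q := by
  show _ = 2 ^ M.n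
  rw [← M.qNum_eq, ← card_zSub h]
  refine (Nat.card_eq_of_bijective (fun z : zSub h => (⟨M.zeta z, M.zeta_fix z z.2⟩ : {x : E // M.InF x}))
    ⟨fun z w e => Subtype.ext (M.zeta_inj z z.2 w w.2 (congrArg Subtype.val e)), fun x => ?_⟩).symm
  obtain ⟨z, hz, e⟩ := M.zeta_surj x x.2
  exact ⟨⟨z, hz⟩, Subtype.ext e⟩

/-- The trace onto the subfield is surjective. -/
theorem Mod.exists_trace {l : E} (hl : M.InF l) : ∃ x : E, x ^ M.q + x = l := by
  classical
  haveI := M.finite
  letI := Fintype.ofFinite E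
  let S := Finset.univ.filter fun x : E => M.InF x
  have hS : S.card = M.q := by
    rw [← M.card_inF, Nat.card_eq_fintype_card, Fintype.card_subtype]
  have hfib : ∀ b ∈ (Finset.univ.image fun x : E => x ^ M.q + x),
      (Finset.univ.filter fun x : E => x ^ M.q + x = b).card ≤ M.q := by
    intro b hb
    obtain ⟨x₀, -, rfl⟩ := Finset.mem_image.1 hb
    refine le_trans (Finset.card_le_card_of_injOn (t := S) (fun x => x + x₀) (fun x hx => ?_)
      (fun x _ y _ e => by simpa using e)) hS.le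
    simp only [Finset.coe_filter, Finset.mem_univ, true_and, Set.mem_setOf_eq] at hx
    simp only [S, Finset.coe_filter, Finset.mem_univ, true_and, Set.mem_setOf_eq, Mod.InF, M.add_pow]
    linear_combination hx + M.add_self (x₀ ^ M.q) - M.add_self x
  have h1 := Finset.card_le_mul_card_image (s := (Finset.univ : Finset E)) M.q hfib
  rw [Finset.card_univ, ← Nat.card_eq_fintype_card, M.card, sq] at h1
  have h2 : M.q ≤ (Finset.univ.image fun x : E => x ^ M.q + x).card :=
    Nat.le_of_mul_le_mul_left h1 (Nat.pos_of_ne_zero M.q_ne_zero)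
  have h3 := Finset.eq_of_subset_of_card_le
    (s := Finset.univ.image fun x : E => x ^ M.q + x) (t := S) (fun x hx => by
      obtain ⟨y, -, rfl⟩ := Finset.mem_image.1 hx
      exact Finset.mem_filter.2 ⟨Finset.mem_univ _, M.inF_trace y⟩) (by omega)
  have h4 : l ∈ S := Finset.mem_filter.2 ⟨Finset.mem_univ _, hl⟩
  rw [← h3] at h4
  obtain ⟨y, -, hy⟩ := Finset.mem_image.1 h4
  exact ⟨y, hy⟩

/-- A quadratic over the subfield without roots there has a root outside it. -/
theorem Mod.exists_root {σ c : E} (hσ : M.InF σ) (hc : M.InF c)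
    (hno : ∀ x, M.InF x → x ^ 2 + σ * x ≠ c) : ∃ x, ¬ M.InF x ∧ x ^ 2 + σ * x = c := by
  classical
  suffices hex : ∃ x, x ^ 2 + σ * x = c from
    hex.imp fun x hx => ⟨fun hx' => hno x hx' hx, hx⟩
  haveI := M.finite
  letI := Fintype.ofFinite E
  by_cases hσ0 : σ = 0
  · exact ⟨M.sqrtF c, by rw [hσ0, zero_mul, add_zero, M.sqrtF_sq hc]⟩
  obtain ⟨d₀, hd₀⟩ := M.exists_trace hσ
  let S₀ := Finset.univ.filter fun x : E => M.InF x
  have hS : S₀.card = M.q := by
    rw [← M.card_inF, Nat.card_eq_fintype_card, Fintype.card_subtype]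
  have hd : ¬ M.InF d₀ := fun e => hσ0 (by rw [← hd₀, show d₀ ^ M.q = d₀ from e, M.add_self])
  let S := S₀ ∪ S₀.image (fun x => x + d₀)
  have hScard : S.card = 2 * M.q := by
    rw [Finset.card_union_of_disjoint, Finset.card_image_of_injective _ (add_left_injective d₀), hS]
    · omega
    · rw [Finset.disjoint_left]
      intro x hx hx'
      obtain ⟨y, hy, rfl⟩ := Finset.mem_image.1 hx'
      simp only [S₀, Finset.mem_filter, Finset.mem_univ, true_and] at hx hy
      exact hd (by simpa [add_assoc, add_left_comm y, M.add_self] using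
        (show M.InF (y + d₀ + y) from M.inF_add hx hy))
  have hmap : ∀ x ∈ S, x ^ 2 + σ * x ∈ S₀ := by
    intro x hx
    simp only [S₀, Finset.mem_filter, Finset.mem_univ, true_and]
    rcases Finset.mem_union.1 hx with hx | hx
    · simp only [S₀, Finset.mem_filter, Finset.mem_univ, true_and] at hx
      exact M.inF_add (M.inF_pow hx 2) (M.inF_mul hσ hx)
    · obtain ⟨y, hy, rfl⟩ := Finset.mem_image.1 hx
      simp only [S₀, Finset.mem_filter, Finset.mem_univ, true_and] at hy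
      have e1 : (y + d₀) ^ M.q = y + d₀ + σ := by
        rw [M.add_pow, show y ^ M.q = y from hy]
        linear_combination hd₀ - M.add_self d₀
      rw [Mod.InF, M.add_pow, ← pow_mul, mul_comm 2, pow_mul, mul_pow, e1, show σ ^ M.q = σ from hσ]
      linear_combination (σ * (y + d₀) + σ ^ 2) * M.two_eq_zero
  have hfib : ∀ b ∈ S.image (fun x => x ^ 2 + σ * x),
      (S.filter fun x => x ^ 2 + σ * x = b).card ≤ 2 := by
    intro b hb
    obtain ⟨x₀, -, rfl⟩ := Finset.mem_image.1 hb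
    refine le_trans (Finset.card_le_card (t := {x₀, x₀ + σ}) fun x hx => ?_) Finset.card_le_two
    simp only [Finset.mem_filter] at hx
    have : (x + x₀) * (x + x₀ + σ) = 0 := by
      linear_combination hx.2 + (x * x₀ + x₀ ^ 2 + σ * x₀) * M.two_eq_zero
    simp only [Finset.mem_insert, Finset.mem_singleton]
    rcases mul_eq_zero.1 this with e | e
    · exact Or.inl (M.eq_of_add e)
    · exact Or.inr (M.eq_of_add (by linear_combination e))
  have h1 := Finset.card_le_mul_card_image (s := S) 2 hfib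
  have h3 := Finset.eq_of_subset_of_card_le
    (s := S.image fun x => x ^ 2 + σ * x) (t := S₀) (fun x hx => by
      obtain ⟨y, hy, rfl⟩ := Finset.mem_image.1 hx
      exact hmap y hy) (by omega)
  have h4 : c ∈ S₀ := Finset.mem_filter.2 ⟨Finset.mem_univ _, hc⟩
  rw [← h3] at h4
  obtain ⟨y, -, hy⟩ := Finset.mem_image.1 h4
  exact ⟨y, hy⟩

/-! ### The scalars of `K` -/

/-- The action of `K` on `Z₀`. -/
noncomputable def Mod.chi (k : G) : E := M.zeta (k * sInv h * k⁻¹)

/-- Its square root. -/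
noncomputable def Mod.mu (k : G) : E := M.sqrtF (M.chi k)

theorem Mod.zeta_one : M.zeta 1 = 0 := by
  have := M.zeta_mul 1 (one_mem _) 1 (one_mem _)
  rw [one_mul] at this
  linear_combination -this

theorem Mod.zeta_ne_zero {z : G} (hz : z ∈ zSub h) (hz1 : z ≠ 1) : M.zeta z ≠ 0 :=
  fun e => hz1 (M.zeta_inj z hz 1 (one_mem _) (e.trans M.zeta_one.symm))

theorem Mod.chi_ne_zero {k : G} (hk : k ∈ kSet a t) : M.chi k ≠ 0 :=
  M.zeta_ne_zero (z_conj_mem h (sInv_mem h) hk.1.1) (fun e => sInv_ne h (by simpa using e))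

theorem Mod.chi_inF {k : G} (hk : k ∈ kSet a t) : M.InF (M.chi k) :=
  M.zeta_fix _ (z_conj_mem h (sInv_mem h) hk.1.1)

theorem Mod.chi_one : M.chi 1 = 1 := by
  rw [Mod.chi, one_mul, inv_one, mul_one, M.zeta_s]

theorem Mod.chi_mul {k l : G} (hk : k ∈ kSet a t) (hl : l ∈ kSet a t) :
    M.chi (k * l) = M.chi k * M.chi l := by
  rw [Mod.chi, show k * l * sInv h * (k * l)⁻¹ = k * (l * sInv h * l⁻¹) * k⁻¹ by group,
    M.zeta_conj k hk _ (z_conj_mem h (sInv_mem h) hl.1.1)]
  rfl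

theorem Mod.chi_inv {k : G} (hk : k ∈ kSet a t) : M.chi k⁻¹ = (M.chi k)⁻¹ := by
  refine eq_inv_of_mul_eq_one_left ?_
  rw [← M.chi_mul (k_inv h hk) hk, inv_mul_cancel, M.chi_one]

theorem Mod.chi_inj {k l : G} (hk : k ∈ kSet a t) (hl : l ∈ kSet a t) (e : M.chi k = M.chi l) :
    k = l :=
  k_unique h (sInv_mem h) (sInv_ne h) hk hl
    (M.zeta_inj _ (z_conj_mem h (sInv_mem h) hk.1.1) _ (z_conj_mem h (sInv_mem h) hl.1.1) e)

theorem Mod.exists_chi {l : E} (hl : M.InF l) (hl0 : l ≠ 0) : ∃ k ∈ kSet a t, M.chi k = l := by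
  obtain ⟨z, hz, rfl⟩ := M.zeta_surj l hl
  obtain ⟨k, hk, e⟩ := exists_k h (sInv_mem h) (sInv_ne h) hz
    (fun e => hl0 (by rw [e, M.zeta_one]))
  exact ⟨k, hk, by rw [Mod.chi, e]⟩

theorem Mod.mu_sq {k : G} (hk : k ∈ kSet a t) : M.mu k ^ 2 = M.chi k := M.sqrtF_sq (M.chi_inF hk)

theorem Mod.mu_ne_zero {k : G} (hk : k ∈ kSet a t) : M.mu k ≠ 0 :=
  M.sqrtF_ne_zero (M.chi_ne_zero hk)

theorem Mod.mu_inF {k : G} (hk : k ∈ kSet a t) : M.InF (M.mu k) := M.inF_sqrtF (M.chi_inF hk)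

theorem Mod.mu_mul {k l : G} (hk : k ∈ kSet a t) (hl : l ∈ kSet a t) :
    M.mu (k * l) = M.mu k * M.mu l := by
  rw [Mod.mu, M.chi_mul hk hl, M.sqrtF_mul]
  rfl

theorem Mod.mu_one : M.mu 1 = 1 := by rw [Mod.mu, M.chi_one]; exact one_pow _

theorem Mod.mu_inv {k : G} (hk : k ∈ kSet a t) : M.mu k⁻¹ = (M.mu k)⁻¹ := by
  refine eq_inv_of_mul_eq_one_left ?_
  rw [← M.mu_mul (k_inv h hk) hk, inv_mul_cancel, M.mu_one]

theorem Mod.exists_mu {m : E} (hm : M.InF m) (hm0 : m ≠ 0) : ∃ k ∈ kSet a t, M.mu k = m := by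
  obtain ⟨k, hk, e⟩ := M.exists_chi (M.inF_pow hm 2) (pow_ne_zero 2 hm0)
  exact ⟨k, hk, M.sq_inj (by rw [M.mu_sq hk, e])⟩

end Cfsg.Agent.Lib.BenderSuzuki.Coords
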