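import Cfsg.Agent.Lib.BenderSuzuki.Coords.OnQ

/-!
# Bender–Suzuki §9: the squaring map is the norm

From an element of `V₀` conjugate to a translate `τ⁻¹ v` of `v` (hypothesis `HasFixer`) one reads
off two cells of `t y t`; comparing them for `v` and `v * v` gives `x * x = N (θ x)`.
-/

set_option autoImplicit false

namespace Cfsg.Agent.Lib.BenderSuzuki.Coords

open MulAction Cfsg.Agent.Lib.RankOne.Basic Cfsg.Agent.Lib.RankOne.Involution

universe u v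

variable {G : Type u} {Ω : Type v} [Group G] [Finite G] [MulAction G Ω] {a : Ω} {t : G}
  {Q : Subgroup G} {h : Ctx G Ω a t Q} {E : Type} [Field E] {M : Mod h E} (c : M.Chart)

/-- The fixed point statement for the translates of an element of `V₀` of prime order. -/
def Mod.HasFixer (M : Mod h E) : Prop :=
  ∀ v ∈ vKer a t, v ≠ 1 → (orderOf v).Prime → ∀ p : Ω, h.Off p →
    ∃ τ w g₀ : G, τ ∈ M.lGrp ∧ τ • p = v • p ∧ w ∈ vKer a t ∧ g₀ • a = p ∧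
      g₀ • (t • a) = v • p ∧ g₀ * w * g₀⁻¹ = τ⁻¹ * v

theorem exists_prime_ker (h : Ctx G Ω a t Q) :
    ∃ v ∈ vKer a t, v ≠ 1 ∧ (orderOf v).Prime := by
  have h1 : Nat.card (vKer a t) ≠ 1 := fun e => h.ker (Subgroup.eq_bot_of_card_eq _ e)
  obtain ⟨p, hp, hdvd⟩ := Nat.exists_prime_and_dvd h1
  haveI := Fact.mk hp
  obtain ⟨⟨v, hv⟩, hord⟩ := exists_prime_orderOf_dvd_card' p hdvd
  rw [Subgroup.orderOf_mk] at hord
  refine ⟨v, hv, fun e => ?_, by rw [hord]; exact hp⟩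
  rw [e, orderOf_one] at hord
  exact hp.one_lt.ne hord

/-- Squares of elements of prime order in `V₀`. -/
theorem prime_sq (h : Ctx G Ω a t Q) {v : G} (hv : v ∈ vKer a t) (hv1 : v ≠ 1)
    (hp : (orderOf v).Prime) : v * v ≠ 1 ∧ (orderOf (v * v)).Prime := by
  obtain ⟨j, hj⟩ := ker_orderOf_odd h hv
  have h1 : v * v ≠ 1 := fun e => hv1 (by
    have := pow_orderOf_eq_one v
    rw [hj, pow_succ, pow_mul, sq, e, one_pow, one_mul] at this
    exact this)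
  refine ⟨h1, ?_⟩
  have h2 : orderOf (v * v) ∣ orderOf v := by rw [← sq]; exact orderOf_pow_dvd 2
  rcases hp.eq_one_or_self_of_dvd _ h2 with e | e
  · exact absurd (orderOf_eq_one_iff.1 e) h1
  · rw [e]; exact hp

include c in
/-- The relation of a translate of `v` in the parameters of a point `y • (t • a)`. -/
theorem Mod.Chart.exists_translate (hs : M.HasFixer) {v y : G} (hv : v ∈ vKer a t) (hv1 : v ≠ 1)
    (hp : (orderOf v).Prime) (hyQ : y ∈ Q) (hy : y ∉ zSub h) :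
    ∃ τ w q : G, τ ∈ M.lGrp ∧ τ • (y • (t • a)) = v • (y • (t • a)) ∧ w ∈ vKer a t ∧ q ∈ Q ∧
      τ⁻¹ * v = y * t * q * w * q⁻¹ * t * y⁻¹ := by
  obtain ⟨τ, w, g₀, hτ, hτp, hw, hga, -, he⟩ := hs v hv hv1 hp _ (off_of_mem hyQ hy)
  have hfix : (t * y⁻¹ * g₀) • a = a := by
    rw [mul_smul, hga, mul_smul, inv_smul_smul, tt_smul (setup h)]
  obtain ⟨q, hq, d, hd, hqd⟩ := exists_Q_D (setup h) hfix
  refine ⟨τ, d * w * d⁻¹, q, hτ, hτp, ker_conj h hd hw, hq, ?_⟩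
  have hg : g₀ = y * t * q * d := by
    calc g₀ = y * (t * t) * y⁻¹ * g₀ := by rw [(setup h).mul_self]; group
      _ = y * t * (t * y⁻¹ * g₀) := by group
      _ = _ := by rw [hqd]; group
  rw [← he, hg]
  simp [mul_assoc, t_inv' h]

/-- The two cells of the translate. -/
theorem Mod.Chart.shift {v y τ w q : G} (hv : v ∈ vKer a t) (hv1 : v ≠ 1) (hyQ : y ∈ Q)
    (hy : y ∉ zSub h) (hτ : τ ∈ M.lGrp) (hτp : τ • (y • (t • a)) = v • (y • (t • a)))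
    (hw : w ∈ vKer a t) (hq : q ∈ Q) (he : τ⁻¹ * v = y * t * q * w * q⁻¹ * t * y⁻¹) :
    ∃ k ∈ kSet a t,
      M.mu k * (c.kappa v + (c.kappa v)⁻¹) = c.theta y ^ M.q * c.theta y ∧
      (c.kappa w)⁻¹ * (M.mu k * c.kappa v + M.sq y) = M.mu k * (c.kappa v)⁻¹ + M.sq y ∧
      ∃ y₃ g d f : G, y₃ ∈ Q ∧ y₃ ∉ zSub h ∧ g ∈ Q ∧ d ∈ twoStab G a t ∧ f ∈ Q ∧
        t * y₃ * t = g * d * t * f ∧ d * w = k * v ∧
        c.theta g = c.theta y ∧ c.dd g = M.mu k * c.kappa v + M.sq y ∧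
        c.theta f = (c.kappa w)⁻¹ * c.theta y ∧ c.dd f = M.mu k * (c.kappa v)⁻¹ := by
  have hS := setup h
  have hp := off_of_mem hyQ hy
  have hτa : τ⁻¹ • a ≠ a := fun e =>
    M.ker_shift_fpf hv hv1 hτ hp hτp.symm (Or.inl rfl) (inv_smul_eq_iff.1 e).symm
  -- the element `y₃`
  set y₃ := q * w * q⁻¹ * w⁻¹ with hy₃def
  have hy₃Q : y₃ ∈ Q := by
    rw [hy₃def, show q * w * q⁻¹ * w⁻¹ = q * (w * q⁻¹ * w⁻¹) by group]
    exact Q.mul_mem hq (twoStab_norm hS hw.1 (Q.inv_mem hq))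
  have hy₃ : y₃ ∉ zSub h := fun hz => by
    have h1 := ker_trick h hw hz (x := q⁻¹) (by rw [hy₃def]; group)
    apply hτa
    have h2 : τ⁻¹ * v = y * w * y⁻¹ := by
      rw [he]
      calc y * t * q * w * q⁻¹ * t * y⁻¹ = y * (t * (y₃ * w) * t) * y⁻¹ := by rw [hy₃def]; group
        _ = y * (t * w * t) * y⁻¹ := by rw [h1, one_mul]
        _ = _ := by rw [ker_t h hw, mul_assoc w t t, hS.mul_self, mul_one]
    calc τ⁻¹ • a = (τ⁻¹ * v) • a := by rw [mul_smul, show v • a = a from hv.1.1]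
      _ = a := by
        rw [h2, mul_smul, mul_smul, inv_smul_eq_iff.2 (Q_fix hS hyQ).symm,
          show w • a = a from hw.1.1, Q_fix hS hyQ]
  obtain ⟨g, d, f, hg, hd, hf, hcell⟩ := exists_cell hy₃Q (fun e => hy₃ (e ▸ (zSub h).one_mem)) h
  -- the normal form of `τ⁻¹`
  rcases M.cases_lGrp (M.lGrp.inv_mem hτ) with ⟨z, hz, k, hk, hzk⟩ | ⟨z₁, hz₁, k, hk, z₂, hz₂, hzk⟩
  · exact absurd (by rw [hzk, mul_smul, show k • a = a from hk.1.1, hz.1]) hτa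
  have heq : z₁ * (k * v) * t * z₂ = (y * g) * (d * w) * t * (w⁻¹ * f * w * y⁻¹) := by
    have e1 : z₁ * (k * v) * t * z₂ = τ⁻¹ * v := by
      rw [hzk]
      calc z₁ * (k * v) * t * z₂ = z₁ * k * (v * t) * z₂ := by group
        _ = z₁ * k * t * (v * z₂ * v⁻¹) * v := by rw [← ker_t h hv]; group
        _ = _ := by rw [ker_z h hv hz₂]
    have e2 : (y * g) * (d * w) * t * (w⁻¹ * f * w * y⁻¹) = τ⁻¹ * v := by
      rw [he]
      calc (y * g) * (d * w) * t * (w⁻¹ * f * w * y⁻¹)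
          = y * g * d * (w * t) * w⁻¹ * f * w * y⁻¹ := by group
        _ = y * (g * d * t * f) * w * y⁻¹ := by rw [← ker_t h hw]; group
        _ = y * t * y₃ * (t * w) * y⁻¹ := by rw [← hcell]; group
        _ = _ := by rw [ker_t h hw, hy₃def]; group
    rw [e1, e2]
  obtain ⟨hyg, hdw, hfy⟩ := cell_unique (zSub_le h hz₁) (Q.mul_mem hyQ hg)
    ((twoStab G a t).mul_mem hk.1 hv.1) ((twoStab G a t).mul_mem hd hw.1) (zSub_le h hz₂)
    (Q.mul_mem (twoStab_norm' hS hw.1 hf) (Q.inv_mem hyQ)) heq h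
  -- the vector equation
  have hphi : M.phi τ⁻¹ = ((actA (M.zeta z₁) ∘ actM (M.mu k)) ∘ actT) ∘ actA (M.zeta z₂) := by
    rw [hzk]
    exact M.phi_eq (M.rel_mul (M.rel_mul (M.rel_mul (M.rel_z hz₁) (M.rel_k hk)) M.rel_t)
      (M.rel_z hz₂))
  have hvec : M.phi τ⁻¹ (sm (c.kappa v) (c.vec (y • (t • a)))) = c.vec (y • (t • a)) := by
    rw [← c.vec_ker hv hp, ← c.vec_smul (M.lGrp.inv_mem hτ) (off_ker hv hp), ← hτp, inv_smul_smul]
  rw [hphi, c.vec_eq hyQ hy] at hvec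
  simp only [Function.comp_apply, actA, actM, actT, sm, Prod.mk.injEq] at hvec
  obtain ⟨hv₁, hv₂⟩ := hvec
  have hA := c.theta_ne hyQ hy
  have hκ := c.kappa_ne_zero hv
  have hm := M.mu_ne_zero hk
  have hz₂e : c.dd y + M.zeta z₂ = M.mu k * (c.kappa v)⁻¹ := by
    field_simp at hv₂
    field_simp
    linear_combination hv₂
  have hz₁e : c.dd y + M.zeta z₁ = M.mu k * c.kappa v := by
    rw [hv₂] at hv₁
    field_simp at hv₁
    linear_combination (-1 : E) * hv₁ + M.zeta z₁ * M.two_eq_zero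
  have hn := c.norm_kappa hv
  have hκq : c.kappa v ^ M.q = (c.kappa v)⁻¹ := eq_inv_of_mul_eq_one_left hn
  have hmu : M.mu k * (c.kappa v + (c.kappa v)⁻¹) = c.theta y ^ M.q * c.theta y := by
    have h1 : (c.dd y + M.zeta z₂) ^ M.q = c.dd y ^ M.q + M.zeta z₂ := by
      rw [M.add_pow, show M.zeta z₂ ^ M.q = M.zeta z₂ from M.zeta_fix _ hz₂]
    rw [hz₂e, mul_pow, inv_pow, hκq, inv_inv, show M.mu k ^ M.q = M.mu k from M.mu_inF hk] at h1
    rw [← c.trace hyQ]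
    linear_combination h1 - hz₂e + M.zeta z₂ * M.two_eq_zero
  -- `g` and `f`
  obtain ⟨i1, i2⟩ := c.theta_inv hyQ
  obtain ⟨g1, g2⟩ := c.theta_zmul hz₁ (Q.inv_mem hyQ)
  have hgz : g = z₁ * y⁻¹ := by
    rw [z_comm h hz₁ (Q.inv_mem hyQ), hyg]; group
  rw [← hgz, i1] at g1
  rw [← hgz, i2] at g2
  have hgd : c.dd g = M.mu k * c.kappa v + M.sq y := by linear_combination g2 + hz₁e
  have hfz : f = w * (z₂ * y) * w⁻¹ := by rw [hfy]; group
  obtain ⟨f1, f2⟩ := c.theta_ker hw (Q.mul_mem (zSub_le h hz₂) hyQ)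
  obtain ⟨j1, j2⟩ := c.theta_zmul hz₂ hyQ
  rw [← hfz, j1] at f1
  rw [← hfz, j2] at f2
  have hfd : c.dd f = M.mu k * (c.kappa v)⁻¹ := by linear_combination f2 + hz₂e
  have hfs : M.sq f = M.sq y := by
    unfold Mod.sq
    congr 1
    rw [hfz]
    calc w * (z₂ * y) * w⁻¹ * (w * (z₂ * y) * w⁻¹) = w * (z₂ * (y * z₂) * y) * w⁻¹ := by group
      _ = w * (z₂ * z₂ * (y * y)) * w⁻¹ := by rw [← z_comm h hz₂ hyQ]; group
      _ = _ := by rw [z_sq h hz₂, one_mul, ker_z h hw (q_sq h hyQ)]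
  obtain ⟨-, G1, G2⟩ := c.theta_g hy₃Q hy₃ hg (cell_g hd hf hcell h)
  obtain ⟨-, F1, F2⟩ := c.theta_f hy₃Q hy₃ hg hd hf hcell
  rw [g1] at G1
  rw [f1] at F1
  rw [hgd] at G2
  rw [hfd, hfs] at F2
  have hD : c.dd y₃ ≠ 0 := fun e => c.dd_not_inF hy₃Q hy₃ (by rw [e]; exact M.inF_zero)
  have hrel : (c.kappa w)⁻¹ * (M.mu k * c.kappa v + M.sq y) =
      M.mu k * (c.kappa v)⁻¹ + M.sq y := by
    have e2 : c.theta y₃ = c.theta y * c.dd y₃ := by rw [G1, div_mul_cancel₀ _ hD]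
    have e4 : (c.kappa w)⁻¹ = c.dd y₃ * (c.dd y₃ + M.sq y₃)⁻¹ :=
      mul_right_cancel₀ hA (by rw [F1, e2]; ring)
    rw [G2, e4, mul_comm (c.dd y₃), mul_assoc, mul_inv_cancel₀ hD, mul_one, F2, add_assoc,
      M.add_self, add_zero]
  exact ⟨k, hk, hmu, hrel, y₃, g, d, f, hy₃Q, hy₃, hg, hd, hf, hcell, hdw.symm, g1, hgd, f1, hfd⟩

include c in
theorem Mod.Chart.sq_ne {y : G} (hyQ : y ∈ Q) (hy : y ∉ zSub h) : M.sq y ≠ 0 :=
  M.zeta_ne_zero (q_sq h hyQ) fun e => hy ⟨Q_fix (setup h) hyQ, e⟩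

/-- The squaring map is the norm of the first coordinate. -/
theorem Mod.Chart.norm_eq (hs : M.HasFixer) {y : G} (hyQ : y ∈ Q) :
    M.sq y = c.theta y ^ M.q * c.theta y := by
  by_cases hy : y ∈ zSub h
  · rw [c.theta_z hy, mul_zero]
    exact (congrArg M.zeta hy.2).trans M.zeta_one
  obtain ⟨v, hv, hv1, hvp⟩ := exists_prime_ker h
  obtain ⟨τ, w, q, hτ, hτp, hw, hq, he⟩ := c.exists_translate hs hv hv1 hvp hyQ hy
  obtain ⟨k, hk, hmu, hrel, -⟩ := c.shift hv hv1 hyQ hy hτ hτp hw hq he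
  have hτv : v * τ⁻¹ = τ⁻¹ * v := M.ker_lGrp hv (M.lGrp.inv_mem hτ)
  have he2 : (τ * τ)⁻¹ * (v * v) = y * t * q * (w * w) * q⁻¹ * t * y⁻¹ := by
    calc (τ * τ)⁻¹ * (v * v) = τ⁻¹ * (τ⁻¹ * v) * v := by group
      _ = τ⁻¹ * (v * τ⁻¹) * v := by rw [hτv]
      _ = (τ⁻¹ * v) * (τ⁻¹ * v) := by group
      _ = y * t * q * w * q⁻¹ * (t * t) * q * w * q⁻¹ * t * y⁻¹ := by rw [he]; group
      _ = _ := by rw [(setup h).mul_self]; group
  have hτp2 : (τ * τ) • (y • (t • a)) = (v * v) • (y • (t • a)) := by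
    rw [mul_smul, hτp, ← mul_smul, ← M.ker_lGrp hv hτ, mul_smul, hτp, ← mul_smul]
  obtain ⟨k', hk', hmu', hrel', -⟩ := c.shift (mul_mem hv hv) (prime_sq h hv hv1 hvp).1 hyQ hy
    (M.lGrp.mul_mem hτ hτ) hτp2 (mul_mem hw hw) hq he2
  rw [c.kappa_mul hv hv, mul_inv] at hmu' hrel'
  rw [c.kappa_mul hw hw, mul_inv] at hrel'
  set N := c.theta y ^ M.q * c.theta y
  set S := M.sq y
  set κ := c.kappa v
  set ν := κ⁻¹
  set ω := (c.kappa w)⁻¹
  set P := κ + ν with hPdef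
  have hκν : κ * ν = 1 := mul_inv_cancel₀ (c.kappa_ne_zero hv)
  have hP : P ≠ 0 := fun e => c.kappa_not_inF hv hv1 (by
    have hn := c.norm_kappa hv
    show κ ^ M.q = κ
    rw [eq_inv_of_mul_eq_one_left hn]
    exact (M.eq_of_add e).symm)
  have hmu2 : M.mu k' * P ^ 2 = N := by
    rw [← hmu', hPdef]
    linear_combination (M.mu k' * κ * ν) * M.two_eq_zero
  have h1 : ω * (N * κ + P * S) = N * ν + P * S := by
    rw [← hmu]; linear_combination P * hrel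
  have h2 : ω * ω * (N * (κ * κ) + P ^ 2 * S) = N * (ν * ν) + P ^ 2 * S := by
    rw [← hmu2]; linear_combination P ^ 2 * hrel'
  have h3 : (ω + 1) ^ 2 * (P ^ 2 * S * (N + S)) = 0 := by
    linear_combination (ω * (N * κ + P * S) + (N * ν + P * S)) * h1 + N * h2 +
      (-(ω ^ 2 * N ^ 2 * κ ^ 2) + N ^ 2 * ν ^ 2 + ω * P ^ 2 * S * (N + S) +
        P * S * N * (ν - κ * ω ^ 2) + P ^ 2 * S * (N + S)) * M.two_eq_zero
  have hω : ω + 1 ≠ 0 := fun e => by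
    have hω1 : ω = 1 := M.eq_of_add e
    rw [hω1] at hrel
    have : κ = ν := mul_left_cancel₀ (M.mu_ne_zero hk) (by linear_combination hrel)
    exact hP (by rw [hPdef, this, M.add_self])
  rcases mul_eq_zero.1 h3 with e | e
  · exact absurd (pow_eq_zero_iff (two_ne_zero) |>.1 e) hω
  · rcases mul_eq_zero.1 e with e | e
    · exact absurd e (mul_ne_zero (pow_ne_zero 2 hP) (c.sq_ne hyQ hy))
    · exact (M.eq_of_add e).symm

/-- The second coordinate of an inverse is the conjugate. -/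
theorem Mod.Chart.dd_inv (hs : M.HasFixer) {x : G} (hx : x ∈ Q) :
    c.dd x⁻¹ = c.dd x ^ M.q := by
  rw [(c.theta_inv hx).2, c.norm_eq hs hx, ← c.trace hx]
  linear_combination c.dd x * M.two_eq_zero

end Cfsg.Agent.Lib.BenderSuzuki.Coords
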