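import Cfsg.Agent.Lib.BenderSuzuki.Coords.Chart

/-!
# Bender–Suzuki §9: the functions `θ` and `δ` on `Q`
-/

set_option autoImplicit false

namespace Cfsg.Agent.Lib.BenderSuzuki.Coords

open MulAction Cfsg.Agent.Lib.RankOne.Basic Cfsg.Agent.Lib.RankOne.Involution

universe u v

variable {G : Type u} {Ω : Type v} [Group G] [Finite G] [MulAction G Ω] {a : Ω} {t : G}
  {Q : Subgroup G} {h : Ctx G Ω a t Q} {E : Type} [Field E] {M : Mod h E} (c : M.Chart)

theorem off_of_mem {x : G} (hx : x ∈ Q) (hz : x ∉ zSub h) : h.Off (x • (t • a)) :=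
  ⟨fun e => t_smul_ne (setup h) (smul_left_cancel x (e.trans (Q_fix (setup h) hx).symm)),
    fun z hz' e => hz (by rw [Q_smul_inj (setup h) hx (zSub_le h hz') (t_smul_ne (setup h)) e]; exact hz')⟩

theorem not_mem_z_mul {z x : G} (hz : z ∈ zSub h) (hx : x ∉ zSub h) : z * x ∉ zSub h := fun e =>
  hx (by have := mul_mem ((zSub h).inv_mem hz) e; rwa [inv_mul_cancel_left] at this)

theorem not_mem_conj {d x : G} (hd : d • a = a) (hx : x ∉ zSub h) : d * x * d⁻¹ ∉ zSub h :=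
  fun e => hx (by
    have := z_conj_mem h e ((stabilizer G a).inv_mem hd)
    rwa [show d⁻¹ * (d * x * d⁻¹) * d⁻¹⁻¹ = x by group] at this)

theorem not_mem_inv {x : G} (hx : x ∉ zSub h) : x⁻¹ ∉ zSub h := fun e => hx ((zSub h).inv_mem_iff.1 e)

open Classical in
/-- The first coordinate. -/
noncomputable def Mod.Chart.theta (x : G) : E :=
  if x ∈ zSub h then 0 else (c.vec (x • (t • a))).2⁻¹

open Classical in
/-- The second coordinate. -/
noncomputable def Mod.Chart.dd (x : G) : E :=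
  if x ∈ zSub h then M.zeta x else (c.vec (x • (t • a))).1 / (c.vec (x • (t • a))).2

/-- The squaring map. -/
def Mod.sq (M : Mod h E) (x : G) : E := M.zeta (x * x)

theorem Mod.Chart.theta_z {x : G} (hx : x ∈ zSub h) : c.theta x = 0 := if_pos hx

theorem Mod.Chart.dd_z {x : G} (hx : x ∈ zSub h) : c.dd x = M.zeta x := if_pos hx

theorem Mod.Chart.theta_off {x : G} (hx : x ∉ zSub h) :
    c.theta x = (c.vec (x • (t • a))).2⁻¹ := if_neg hx

theorem Mod.Chart.dd_off {x : G} (hx : x ∉ zSub h) :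
    c.dd x = (c.vec (x • (t • a))).1 / (c.vec (x • (t • a))).2 := if_neg hx

theorem Mod.Chart.theta_ne {x : G} (hxQ : x ∈ Q) (hx : x ∉ zSub h) : c.theta x ≠ 0 := by
  rw [c.theta_off hx]
  exact inv_ne_zero (M.snd_ne_zero (c.form_vec (off_of_mem hxQ hx)))

theorem Mod.Chart.dd_not_inF {x : G} (hxQ : x ∈ Q) (hx : x ∉ zSub h) : ¬ M.InF (c.dd x) := by
  rw [c.dd_off hx]
  exact M.ratio_not_inF (c.form_vec (off_of_mem hxQ hx))

theorem Mod.Chart.vec_eq {x : G} (hxQ : x ∈ Q) (hx : x ∉ zSub h) :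
    c.vec (x • (t • a)) = (c.dd x / c.theta x, (c.theta x)⁻¹) := by
  have hY := M.snd_ne_zero (c.form_vec (off_of_mem hxQ hx))
  rw [c.theta_off hx, c.dd_off hx, inv_inv]
  exact Prod.ext (by field_simp) rfl

theorem Mod.Chart.trace {x : G} (hxQ : x ∈ Q) :
    c.dd x ^ M.q + c.dd x = c.theta x ^ M.q * c.theta x := by
  by_cases hx : x ∈ zSub h
  · rw [c.dd_z hx, c.theta_z hx, show M.zeta x ^ M.q = M.zeta x from M.zeta_fix x hx, M.add_self,
      mul_zero]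
  · have hp := c.form_vec (off_of_mem hxQ hx)
    rw [c.vec_eq hxQ hx] at hp
    have hT := c.theta_ne hxQ hx
    simp only [Mod.form, div_pow, inv_pow] at hp
    field_simp at hp
    linear_combination hp

theorem Mod.Chart.theta_zmul {z x : G} (hz : z ∈ zSub h) (hxQ : x ∈ Q) :
    c.theta (z * x) = c.theta x ∧ c.dd (z * x) = M.zeta z + c.dd x := by
  by_cases hx : x ∈ zSub h
  · rw [c.theta_z (mul_mem hz hx), c.theta_z hx, c.dd_z (mul_mem hz hx), c.dd_z hx,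
      M.zeta_mul z hz x hx]
    exact ⟨rfl, rfl⟩
  · have hzx := not_mem_z_mul hz hx
    rw [c.theta_off hzx, c.dd_off hzx, mul_smul, c.vec_smul (M.z_mem_lGrp hz) (off_of_mem hxQ hx),
      M.phi_eq (M.rel_z hz), c.theta_off hx, c.dd_off hx]
    have hY := M.snd_ne_zero (c.form_vec (off_of_mem hxQ hx))
    exact ⟨rfl, by simp only [actA]; field_simp; ring⟩

theorem Mod.Chart.theta_k {k x : G} (hk : k ∈ kSet a t) (hxQ : x ∈ Q) :
    c.theta (k * x * k⁻¹) = M.mu k * c.theta x ∧ c.dd (k * x * k⁻¹) = M.chi k * c.dd x := by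
  by_cases hx : x ∈ zSub h
  · have := z_conj_mem h hx hk.1.1
    rw [c.theta_z this, c.theta_z hx, c.dd_z this, c.dd_z hx, mul_zero, M.zeta_conj k hk x hx]
    exact ⟨rfl, rfl⟩
  · have hkx : k * x * k⁻¹ ∉ zSub h := not_mem_conj hk.1.1 hx
    rw [c.theta_off hkx, c.dd_off hkx, ← conj_smul_b hk.1,
      c.vec_smul (M.k_mem_lGrp hk) (off_of_mem hxQ hx), M.phi_eq (M.rel_k hk), c.theta_off hx,
      c.dd_off hx, ← M.mu_sq hk]
    have hY := M.snd_ne_zero (c.form_vec (off_of_mem hxQ hx))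
    have hm := M.mu_ne_zero hk
    simp only [actM]
    exact ⟨by field_simp, by field_simp⟩

theorem Mod.Chart.theta_ker {e x : G} (he : e ∈ vKer a t) (hxQ : x ∈ Q) :
    c.theta (e * x * e⁻¹) = (c.kappa e)⁻¹ * c.theta x ∧ c.dd (e * x * e⁻¹) = c.dd x := by
  by_cases hx : x ∈ zSub h
  · rw [ker_z h he hx, c.theta_z hx, mul_zero]
    exact ⟨rfl, rfl⟩
  · have hex : e * x * e⁻¹ ∉ zSub h := not_mem_conj he.1.1 hx
    rw [c.theta_off hex, c.dd_off hex, ← conj_smul_b he.1, c.vec_ker he (off_of_mem hxQ hx),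
      c.theta_off hx, c.dd_off hx]
    have hk := c.kappa_ne_zero he
    simp only [sm]
    exact ⟨mul_inv _ _, mul_div_mul_left _ _ hk⟩

theorem Mod.Chart.theta_inv {x : G} (hxQ : x ∈ Q) :
    c.theta x⁻¹ = c.theta x ∧ c.dd x⁻¹ = c.dd x + M.sq x := by
  rw [q_inv h hxQ, ← z_comm h (q_sq h hxQ) hxQ]
  obtain ⟨h1, h2⟩ := c.theta_zmul (q_sq h hxQ) hxQ
  exact ⟨h1, by rw [h2, add_comm]; rfl⟩

/-- Equal first coordinates: equal cosets. -/
theorem Mod.Chart.coset {x y : G} (hxQ : x ∈ Q) (hyQ : y ∈ Q) (e : c.theta x = c.theta y) :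
    ∃ z ∈ zSub h, y = z * x := by
  by_cases hx : x ∈ zSub h
  · by_cases hy : y ∈ zSub h
    · exact ⟨y * x⁻¹, mul_mem hy ((zSub h).inv_mem hx), by group⟩
    · exact absurd (e.symm.trans (c.theta_z hx)) (c.theta_ne hyQ hy)
  · have hy : y ∉ zSub h := fun hy => c.theta_ne hxQ hx (e.trans (c.theta_z hy))
    have hd : M.InF (c.dd x + c.dd y) := by
      rw [Mod.InF, M.add_pow]
      have h1 := c.trace hxQ
      have h2 := c.trace hyQ
      rw [← e] at h2
      linear_combination h1 + h2 + (c.theta x ^ M.q * c.theta x - c.dd x - c.dd y) * M.two_eq_zero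
    obtain ⟨z, hz, hze⟩ := M.zeta_surj _ hd
    refine ⟨z, hz, Q_smul_inj (setup h) hyQ (Q.mul_mem (zSub_le h hz) hxQ) (t_smul_ne (setup h)) ?_⟩
    obtain ⟨h1, h2⟩ := c.theta_zmul hz hxQ
    have hzx := not_mem_z_mul hz hx
    refine c.vec_inj (off_of_mem hyQ hy) (off_of_mem (Q.mul_mem (zSub_le h hz) hxQ) hzx) ?_
    rw [c.vec_eq hyQ hy, c.vec_eq (Q.mul_mem (zSub_le h hz) hxQ) hzx, h1, h2, hze, e,
      add_comm (c.dd x), add_assoc, M.add_self, add_zero]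

theorem Mod.Chart.exists_of_trace {θ d : E} (hθ : θ ≠ 0) (hd : d ^ M.q + d = θ ^ M.q * θ) :
    ∃ x ∈ Q, x ∉ zSub h ∧ c.theta x = θ ∧ c.dd x = d := by
  have hf : M.form (d / θ, θ⁻¹) = 1 := by
    simp only [Mod.form, div_pow, inv_pow]
    field_simp
    linear_combination hd
  obtain ⟨p, hp, hpe⟩ := c.vec_surj hf
  obtain ⟨x, hx, rfl⟩ := Q_trans (setup h) (t_smul_ne (setup h)) hp.1
  have hxz : x ∉ zSub h := fun hz => hp.2 x hz rfl
  refine ⟨x, hx, hxz, ?_, ?_⟩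
  · rw [c.theta_off hxz, hpe, inv_inv]
  · rw [c.dd_off hxz, hpe]
    field_simp

/-- Uniqueness in the big cell. -/
theorem cell_unique {x x' d d' f f' : G} (hx : x ∈ Q) (hx' : x' ∈ Q) (hd : d ∈ twoStab G a t)
    (hd' : d' ∈ twoStab G a t) (hf : f ∈ Q) (hf' : f' ∈ Q) (e : x * d * t * f = x' * d' * t * f')
    (h : Ctx G Ω a t Q) : x = x' ∧ d = d' ∧ f = f' := by
  have hS := setup h
  have h1 : x • (t • a) = x' • (t • a) := by
    have := congrArg (fun g : G => g • a) e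
    simpa [mul_smul, Q_fix hS hf, Q_fix hS hf', (mem_twoStab.1 hd).2, (mem_twoStab.1 hd').2] using this
  have h2 := Q_smul_inj hS hx hx' (t_smul_ne hS) h1
  subst h2
  simp only [mul_assoc] at e
  have e2 := mul_left_cancel e
  have hD : t * (d⁻¹ * d') * t ∈ twoStab G a t :=
    t_conj_mem hS ((twoStab G a t).mul_mem ((twoStab G a t).inv_mem hd) hd')
  have h3 : f * f'⁻¹ = t * (d⁻¹ * d') * t := by
    calc f * f'⁻¹ = t⁻¹ * d⁻¹ * (d * (t * f)) * f'⁻¹ := by group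
      _ = _ := by rw [e2, t_inv' h]; group
  have h4 : f * f'⁻¹ = 1 := Q_free hS (Q.mul_mem hf (Q.inv_mem hf')) (t_smul_ne hS)
    (by rw [h3]; exact (mem_twoStab.1 hD).2)
  rw [mul_inv_eq_one] at h4
  subst h4
  exact ⟨rfl, mul_right_cancel e2, rfl⟩

include c in
theorem Mod.Chart.t_off {x : G} (hxQ : x ∈ Q) (hx : x ∉ zSub h) :
    ∃ g, g ∈ Q ∧ g ∉ zSub h ∧ g • (t • a) = t • (x • (t • a)) := by
  have ho := M.off_smul M.t_mem_lGrp (off_of_mem hxQ hx)
  obtain ⟨g, hg, hge⟩ := Q_trans (setup h) (t_smul_ne (setup h)) ho.1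
  exact ⟨g, hg, fun hz => ho.2 g hz hge.symm, hge⟩

theorem Mod.Chart.theta_g {x g : G} (hxQ : x ∈ Q) (hx : x ∉ zSub h) (hgQ : g ∈ Q)
    (e : g • (t • a) = t • (x • (t • a))) :
    g ∉ zSub h ∧ c.theta g = c.theta x / c.dd x ∧ c.dd g = (c.dd x)⁻¹ := by
  have hg : g ∉ zSub h := fun hz =>
    (M.off_smul M.t_mem_lGrp (off_of_mem hxQ hx)).2 g hz e.symm
  refine ⟨hg, ?_⟩
  rw [c.theta_off hg, c.dd_off hg, e, c.vec_smul M.t_mem_lGrp (off_of_mem hxQ hx),
    M.phi_eq M.rel_t, c.vec_eq hxQ hx]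
  have hT := c.theta_ne hxQ hx
  simp only [actT]
  exact ⟨inv_div _ _, by field_simp⟩

theorem cell_g {x g d f : G} (hd : d ∈ twoStab G a t) (hf : f ∈ Q)
    (e : t * x * t = g * d * t * f) (h : Ctx G Ω a t Q) :
    g • (t • a) = t • (x • (t • a)) := by
  have := congrArg (fun g : G => g • a) e
  simpa [mul_smul, Q_fix (setup h) hf, (mem_twoStab.1 hd).2] using this.symm

theorem exists_cell {x : G} (hxQ : x ∈ Q) (hx1 : x ≠ 1) (h : Ctx G Ω a t Q) :
    ∃ g d f, g ∈ Q ∧ d ∈ twoStab G a t ∧ f ∈ Q ∧ t * x * t = g * d * t * f := by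
  have hS := setup h
  have hne : t • (x • (t • a)) ≠ a := fun e => hx1 (Q_free hS hxQ (t_smul_ne hS) (by
    conv_rhs => rw [← e]
    rw [tt_smul hS]))
  obtain ⟨g, hg, hge⟩ := Q_trans hS (t_smul_ne hS) hne
  have hfix : (t * g⁻¹ * t * x * t) • a = a := by
    simp only [mul_smul]
    rw [← hge, inv_smul_smul, tt_smul hS]
  obtain ⟨q, hq, d, hd, hqd⟩ := exists_Q_D hS hfix
  refine ⟨g, t * d * t, d⁻¹ * q * d, hg, t_conj_mem hS hd, twoStab_norm' hS hd hq, ?_⟩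
  calc t * x * t = g * t * (t * g⁻¹ * t * x * t) := by
        simp [mul_assoc, tt_mul hS]
    _ = g * t * (q * d) := by rw [hqd]
    _ = g * (t * d * (t * t)) * (d⁻¹ * q * d) := by rw [hS.mul_self]; group
    _ = _ := by group

theorem Mod.Chart.theta_f {x g d f : G} (hxQ : x ∈ Q) (hx : x ∉ zSub h) (hgQ : g ∈ Q)
    (hd : d ∈ twoStab G a t) (hfQ : f ∈ Q) (e : t * x * t = g * d * t * f) :
    f ∉ zSub h ∧ c.theta f = c.theta x / (c.dd x + M.sq x) ∧
      c.dd f = (c.dd x + M.sq x)⁻¹ + M.sq f := by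
  have e' : t * x⁻¹ * t = f⁻¹ * (t * d⁻¹ * t) * t * g⁻¹ := by
    have := congrArg (fun g : G => g⁻¹) e
    simp only [mul_inv_rev, t_inv' h] at this
    simp only [mul_assoc] at this ⊢
    rw [this]
    simp [tt_mul (setup h)]
  have hdt := t_conj_mem (setup h) ((twoStab G a t).inv_mem hd)
  obtain ⟨h1, h2, h3⟩ := c.theta_g (Q.inv_mem hxQ) (not_mem_inv hx) (Q.inv_mem hfQ)
    (cell_g hdt (Q.inv_mem hgQ) e' h)
  obtain ⟨i1, i2⟩ := c.theta_inv hxQ
  obtain ⟨j1, j2⟩ := c.theta_inv hfQ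
  rw [i1, i2, j1] at h2
  rw [i2, j2] at h3
  refine ⟨fun hz => h1 ((zSub h).inv_mem hz), h2, ?_⟩
  linear_combination h3 - M.sq f * M.two_eq_zero

end Cfsg.Agent.Lib.BenderSuzuki.Coords
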