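import Cfsg.Agent.Lib.BenderSuzuki.Coords.SL2

/-!
# Bender–Suzuki §9: `L₀` is regular off the chord; vector coordinates of the points off the chord
-/

set_option autoImplicit false

namespace Cfsg.Agent.Lib.BenderSuzuki.Coords

open MulAction Cfsg.Agent.Lib.RankOne.Basic Cfsg.Agent.Lib.RankOne.Involution

universe u v

variable {G : Type u} {Ω : Type v} [Group G] [Finite G] [MulAction G Ω] {a : Ω} {t : G}
  {Q : Subgroup G} {h : Ctx G Ω a t Q} {E : Type} [Field E] (M : Mod h E)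

/-- The point is off the chord of `a` and `t • a`. -/
def Ctx.Off (h : Ctx G Ω a t Q) (c : Ω) : Prop := c ≠ a ∧ ∀ z ∈ zSub h, c ≠ z • (t • a)

/-- The point is on the chord. -/
def Ctx.OnLine (h : Ctx G Ω a t Q) (c : Ω) : Prop := c = a ∨ ∃ z ∈ zSub h, c = z • (t • a)

theorem not_off {c : Ω} : ¬ h.Off c ↔ h.OnLine c := by
  simp only [Ctx.Off, Ctx.OnLine]
  push Not
  exact Classical.or_iff_not_imp_left.symm

theorem conj_smul_b {d z : G} (hd : d ∈ twoStab G a t) :
    d • (z • (t • a)) = (d * z * d⁻¹) • (t • a) := by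
  rw [mul_smul, mul_smul, inv_smul_eq_iff.2 (mem_twoStab.1 hd).2.symm]

theorem Mod.onLine_smul {g : G} (hg : g ∈ M.lGrp) {c : Ω} (hc : h.OnLine c) : h.OnLine (g • c) := by
  obtain ⟨f, hf⟩ := hg
  induction hf generalizing c with
  | one => rwa [one_smul]
  | @mz z g f hz _ ih =>
    rw [mul_smul]
    rcases ih hc with e | ⟨w, hw, e⟩
    · exact Or.inl (by rw [e]; exact hz.1)
    · exact Or.inr ⟨z * w, mul_mem hz hw, by rw [e, mul_smul]⟩
  | @mk k g f hk _ ih =>
    rw [mul_smul]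
    rcases ih hc with e | ⟨w, hw, e⟩
    · exact Or.inl (by rw [e]; exact hk.1.1)
    · exact Or.inr ⟨k * w * k⁻¹, z_conj_mem h hw hk.1.1, by rw [e, conj_smul_b hk.1]⟩
  | @mt g f _ ih =>
    rw [mul_smul]
    rcases ih hc with e | ⟨w, hw, e⟩
    · exact Or.inr ⟨1, one_mem _, by rw [e, one_smul]⟩
    · by_cases hw1 : w = 1
      · exact Or.inl (by rw [e, hw1, one_smul, tt_smul (setup h)])
      · obtain ⟨l, hl, rfl⟩ := exists_k h (sInv_mem h) (sInv_ne h) hw hw1
        have hinv := z_conj_mem h (sInv_mem h) ((stabilizer G a).inv_mem hl.1.1)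
        rw [inv_inv] at hinv
        refine Or.inr ⟨l⁻¹ * sInv h * l, hinv, ?_⟩
        have hl2 := k_mul h hl hl
        rw [e, ← mul_smul, ← mul_smul, tzt h hl, mul_smul, mul_smul, mul_smul]
        rw [show (l⁻¹ * sInv h * l) • a = a by
          rw [mul_smul, mul_smul, show l • a = a from hl.1.1, (sInv_mem h).1]
          exact (stabilizer G a).inv_mem hl.1.1]
        rw [show (l * l) • a = a from hl2.1.1]

theorem Mod.off_smul {g : G} (hg : g ∈ M.lGrp) {c : Ω} (hc : h.Off c) : h.Off (g • c) := by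
  by_contra hn
  have := M.onLine_smul (M.lGrp.inv_mem hg) (not_off.1 hn)
  rw [inv_smul_smul] at this
  exact not_off.2 this hc

theorem onLine_ker {v : G} (hv : v ∈ vKer a t) {c : Ω} (hc : h.OnLine c) : v • c = c := by
  rcases hc with rfl | ⟨z, hz, rfl⟩
  · exact hv.1.1
  · rw [conj_smul_b hv.1, ker_z h hv hz]

theorem off_ne_ker {v : G} (hv : v ∈ vKer a t) (hv1 : v ≠ 1) {c : Ω} (hc : h.Off c) : v • c ≠ c :=
  fun e => not_off.2 (ker_fix h hv hv1 e) hc

theorem off_ker {v : G} (hv : v ∈ vKer a t) {c : Ω} (hc : h.Off c) : h.Off (v • c) := by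
  by_contra hn
  have := onLine_ker ((vKer a t).inv_mem hv) (not_off.1 hn)
  rw [inv_smul_smul] at this
  rw [← this] at hn
  exact hn hc

/-- An odd power trick: a map commuting with squares. -/
theorem smul_eq_of_sq (h : Ctx G Ω a t Q) {v : G} (hv : v ∈ vKer a t) {c : Ω} (e : v • v • c = c) : v • c = c := by
  have hp : ∀ j : ℕ, v ^ (2 * j) • c = c := by
    intro j
    induction j with
    | zero => simp
    | succ j ih => rw [show 2 * (j + 1) = 1 + 1 + 2 * j by ring, pow_add, mul_smul, ih, pow_add,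
        pow_one, mul_smul, e]
  obtain ⟨j, hj⟩ := ker_orderOf_odd h hv
  calc v • c = v ^ (orderOf v + 1) • c := by rw [pow_succ, pow_orderOf_eq_one, one_mul]
    _ = c := by rw [hj, show 2 * j + 1 + 1 = 2 * (j + 1) by ring, hp]

theorem Mod.free_a {g : G} (hg : g ∈ M.lGrp) (hga : g • a = a) {c : Ω} (hc : h.Off c)
    (he : g • c = c) : g = 1 := by
  rcases M.cases_lGrp hg with ⟨z, hz, k, hk, rfl⟩ | ⟨z₁, hz₁, k, hk, z₂, hz₂, rfl⟩
  · by_cases hk1 : k = 1
    · subst hk1
      rw [mul_one] at he ⊢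
      exact Q_free (setup h) (zSub_le h hz) hc.1 he
    · exfalso
      have hchi : M.chi k + 1 ≠ 0 := fun e => hk1 (M.chi_inj hk (k_one h)
        (by rw [M.chi_one]; exact M.eq_of_add e))
      obtain ⟨w, hw, hwe⟩ := M.zeta_surj (M.zeta z / (M.chi k + 1))
        (by
          rw [div_eq_mul_inv]
          exact M.inF_mul (M.zeta_fix z hz) (M.inF_inv (M.inF_add (M.chi_inF hk) M.inF_one)))
      have hw' : k * w * k⁻¹ * w = z := by
        have hcw := z_conj_mem h hw hk.1.1
        refine M.zeta_inj _ (mul_mem hcw hw) z hz ?_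
        rw [M.zeta_mul _ hcw _ hw, M.zeta_conj k hk w hw, hwe]
        show M.chi k * _ + _ = _
        field_simp
      have hzk : z * k = w * k * w⁻¹ := by
        rw [z_inv h hw, ← hw']
        calc k * w * k⁻¹ * w * k = w * (k * w * k⁻¹) * k := by
              rw [z_comm h (z_conj_mem h hw hk.1.1) (zSub_le h hw)]
          _ = w * k * w := by group
      have hc' := M.off_smul (M.z_mem_lGrp hw) hc
      have hfix : k • (w • c) = w • c := by
        have e2 : w • ((w * k * w⁻¹) • c) = w • c := by rw [← hzk, he]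
        rw [← mul_smul, show w * (w * k * w⁻¹) = k * w⁻¹ by
          rw [← mul_assoc, ← mul_assoc, z_sq h hw, one_mul], z_inv h hw, mul_smul] at e2
        exact e2
      exact hk1 (inverted_fix_three (setup h) hk ⟨a, t • a, w • c, (t_smul_ne (setup h)).symm,
        hc'.1.symm, fun e => hc'.2 1 (one_mem _) (by rw [one_smul]; exact e.symm),
        hk.1.1, (mem_twoStab.1 hk.1).2, hfix⟩)
  · exfalso
    rw [mul_smul, hz₂.1, mul_smul, mul_smul, (mem_twoStab.1 hk.1).2] at hga
    exact t_smul_ne (setup h) (smul_left_cancel z₁ (hga.trans hz₁.1.symm))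

theorem Mod.free_line {g : G} (hg : g ∈ M.lGrp) {d : Ω} (hd : h.OnLine d) (hgd : g • d = d)
    {c : Ω} (hc : h.Off c) (he : g • c = c) : g = 1 := by
  rcases hd with rfl | ⟨z, hz, rfl⟩
  · exact M.free_a hg hgd hc he
  · have hm : t * z ∈ M.lGrp := M.lGrp.mul_mem M.t_mem_lGrp (M.z_mem_lGrp hz)
    have h1 : t * z * g * (t * z)⁻¹ = 1 := by
      refine M.free_a (M.lGrp.mul_mem (M.lGrp.mul_mem hm hg) (M.lGrp.inv_mem hm)) ?_
        (M.off_smul hm hc) (by rw [mul_smul, mul_smul, inv_smul_smul, he])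
      have hb : (t * z)⁻¹ • a = z • (t • a) := by
        rw [mul_inv_rev, z_inv h hz, t_inv' h, mul_smul]
      rw [mul_smul, mul_smul, hb, hgd, mul_smul, ← mul_smul z z, z_sq h hz, one_smul,
        tt_smul (setup h)]
    rwa [mul_inv_eq_one, mul_eq_left] at h1

/-- An involution `k t` of `L₀` fixes exactly one point, on the chord. -/
theorem swap_fixed {k : G} (hk : k ∈ kSet a t) :
    ∃ c, h.OnLine c ∧ (k * t) • c = c ∧ ∀ d, (k * t) • d = d → d = c := by
  have hS := setup h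
  obtain ⟨e, he, hee, -⟩ := exists_sqrtK hS hk
  have hj : k * t = e * t * e⁻¹ := by
    calc k * t = e * (e * t) := by rw [← hee]; group
      _ = e * (t * e⁻¹) := by rw [tk h (k_inv h he), inv_inv]
      _ = _ := by group
  have hts : t • (sInv h • (t • a)) = sInv h • (t • a) := by
    rw [← mul_smul, ← mul_smul, (sInv_spec h).2.2, mul_smul, (sInv_spec h).1.1, mul_smul]
  have hfix : (k * t) • ((e * sInv h * e⁻¹) • (t • a)) = (e * sInv h * e⁻¹) • (t • a) := by
    rw [← conj_smul_b he.1, hj, mul_smul, mul_smul, inv_smul_smul, hts]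
  have hne : k * t ≠ 1 := fun e1 => by
    have := congrArg (fun g : G => g • a) e1
    simp only [mul_smul, (mem_twoStab.1 hk.1).2, one_smul] at this
    exact t_smul_ne hS this
  have hsq : k * t * (k * t) = 1 := by
    calc k * t * (k * t) = k * (t * k) * t := by group
      _ = k * k⁻¹ * (t * t) := by rw [tk h hk]; group
      _ = 1 := by rw [hS.mul_self]; group
  obtain ⟨c, -, huniq⟩ := exists_fixed hS hne hsq
  exact ⟨_, Or.inr ⟨_, z_conj_mem h (sInv_mem h) he.1.1, rfl⟩, hfix,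
    fun d hd => (huniq d hd).trans (huniq _ hfix).symm⟩

theorem mul_smul_one (hS : Cfsg.IsRankOneSetup G Ω a t Q) {k : G} (hk : k ∈ kSet a t) :
    k * t * (k * t) = 1 := by
  calc k * t * (k * t) = k * (t * k) * t := by group
    _ = k * k⁻¹ * (t * t) := by rw [t_mul_inverted hS hk]; group
    _ = 1 := by rw [hS.mul_self]; group

/-- `L₀` is semiregular off the chord. -/
theorem Mod.free {g : G} (hg : g ∈ M.lGrp) {c : Ω} (hc : h.Off c) (he : g • c = c) : g = 1 := by
  have hS := setup h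
  rcases M.cases_lGrp hg with ⟨z, hz, k, hk, hgd⟩ | ⟨z₁, hz₁, k, hk, z₂, hz₂, rfl⟩
  · refine M.free_a hg ?_ hc he
    rw [hgd, mul_smul, show k • a = a from hk.1.1, hz.1]
  set g' := z₂ * z₁ * (k * t) with hg'def
  have hz₂L := M.z_mem_lGrp hz₂
  have hjL : k * t ∈ M.lGrp := M.lGrp.mul_mem (M.k_mem_lGrp hk) M.t_mem_lGrp
  have hz : z₂ * z₁ ∈ zSub h := mul_mem hz₂ hz₁
  have hg' : g' ∈ M.lGrp := M.lGrp.mul_mem (M.z_mem_lGrp hz) hjL
  have hconj : z₂ * (z₁ * k * t * z₂) * z₂⁻¹ = g' := by rw [hg'def]; group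
  suffices h1 : g' = 1 by
    rw [h1, mul_inv_eq_one, mul_eq_left] at hconj
    exact hconj
  set p := z₂ • c with hpdef
  have hp : h.Off p := M.off_smul hz₂L hc
  have hgp : g' • p = p := by rw [← hconj, hpdef, mul_smul, mul_smul, inv_smul_smul, he]
  by_cases hline : ∃ d, h.OnLine d ∧ g' • d = d
  · obtain ⟨d, hd, hd'⟩ := hline
    exact M.free_line hg' hd hd' hp hgp
  push Not at hline
  set j := k * t with hjdef
  obtain ⟨c₀, hc₀, hjc₀, huniq⟩ := swap_fixed (h := h) hk
  have hj2 : ∀ d : Ω, j • j • d = d := fun d => by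
    have : j * j = 1 := by
      calc k * t * (k * t) = k * (t * k) * t := by group
        _ = k * k⁻¹ * (t * t) := by rw [tk h hk]; group
        _ = 1 := by rw [hS.mul_self]; group
    rw [← mul_smul, this, one_smul]
  by_cases hz1 : z₂ * z₁ = 1
  · refine absurd (hline c₀ hc₀) (not_not.2 ?_)
    rw [hg'def, hz1, one_mul, hjc₀]
  have hjp : j • p ≠ p := fun e => not_off.2 (by rw [huniq p e]; exact hc₀) hp
  have hgjp : g' • (j • p) = j • p := by
    have e1 : g'⁻¹ • p = p := inv_smul_eq_iff.2 hgp.symm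
    have e2 : g'⁻¹ = j⁻¹ * (z₂ * z₁) := by rw [hg'def, mul_inv_rev, z_inv h hz]
    rw [e2, mul_smul, inv_smul_eq_iff] at e1
    rw [hg'def, mul_smul, hj2, ← e1]
  obtain ⟨v, hv, hv1⟩ := (Subgroup.bot_or_exists_ne_one _).resolve_left h.ker
  have hvg : v * g' = g' * v := M.ker_lGrp hv hg'
  have hvj : v * j = j * v := M.ker_lGrp hv hjL
  have hgvp : g' • (v • p) = v • p := by rw [← mul_smul, ← hvg, mul_smul, hgp]
  have hvp : v • p ≠ p := off_ne_ker hv hv1 hp
  have hvjp : v • p ≠ j • p := fun e => hvp (smul_eq_of_sq h hv (by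
    rw [e, ← mul_smul, hvj, mul_smul, e, hj2]))
  obtain ⟨g₁, hg₁p, hg₁j⟩ := exists_pair hS hjp.symm (t_smul_ne hS).symm
  set d := g₁ * g' * g₁⁻¹ with hddef
  set i := g₁ * j * g₁⁻¹ with hidef
  have hgi : g₁⁻¹ • a = p := inv_smul_eq_iff.2 hg₁p.symm
  have hgb : g₁⁻¹ • (t • a) = j • p := inv_smul_eq_iff.2 hg₁j.symm
  have hdD : d ∈ twoStab G a t := by
    rw [mem_twoStab, hddef, mul_smul, mul_smul, hgi, hgp, hg₁p, mul_smul, mul_smul, hgb, hgjp, hg₁j]
    exact ⟨rfl, rfl⟩
  have hia : i • a = t • a := by rw [hidef, mul_smul, mul_smul, hgi, hg₁j]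
  have hib : i • (t • a) = a := by rw [hidef, mul_smul, mul_smul, hgb, hj2, hg₁p]
  have hii : i * i = 1 := by
    have : j * j = 1 := by
      calc k * t * (k * t) = k * (t * k) * t := by group
        _ = k * k⁻¹ * (t * t) := by rw [tk h hk]; group
        _ = 1 := by rw [hS.mul_self]; group
    rw [hidef, show g₁ * j * g₁⁻¹ * (g₁ * j * g₁⁻¹) = g₁ * (j * j) * g₁⁻¹ by group, this]
    group
  have htiK : t * i ∈ kSet a t := by
    refine (mem_invertedBy_iff hS).2 ⟨?_, ?_⟩
    · rw [mem_twoStab, mul_smul t i a, hia, tt_smul hS, mul_smul t i (t • a), hib]; exact ⟨rfl, rfl⟩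
    · calc t * (t * i) * t = i * t := by rw [tt_mul hS]
        _ = (t * i)⁻¹ := by rw [mul_inv_rev, inv_eq_self_of_sq hii, t_inv' h]
  obtain ⟨e, he', hee, -⟩ := exists_sqrtK hS htiK
  have hidi : i * d * i = d⁻¹ := by
    have hz' := z_sq h hz
    rw [hddef, hidef, hg'def]
    calc g₁ * j * g₁⁻¹ * (g₁ * (z₂ * z₁ * j) * g₁⁻¹) * (g₁ * j * g₁⁻¹)
        = g₁ * (j * (z₂ * z₁) * (j * j)) * g₁⁻¹ := by group
      _ = g₁ * (j * (z₂ * z₁)) * g₁⁻¹ := by
        rw [show j * j = 1 from mul_smul_one hS hk, mul_one]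
      _ = _ := by
        simp only [mul_inv_rev, inv_inv, inv_eq_self_of_sq hz', inv_eq_self_of_sq (show j * j = 1 from mul_smul_one hS hk)]
        group
  have hiee : i = e⁻¹ * t * e := by
    calc i = t * (t * i) := by rw [tt_mul hS]
      _ = (t * e) * e := by rw [← hee]; group
      _ = _ := by rw [tk h he']
  set d' := e * d * e⁻¹
  have hd'K : d' ∈ kSet a t := by
    refine ⟨(twoStab G a t).mul_mem ((twoStab G a t).mul_mem he'.1 hdD)
      ((twoStab G a t).inv_mem he'.1), ?_⟩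
    calc t * (e * d * e⁻¹) * t⁻¹ = e * (i * d * i) * e⁻¹ := by
          rw [t_inv' h, hiee]
          calc t * (e * d * e⁻¹) * t = t * e * d * (e⁻¹ * t) := by group
            _ = _ := by group
      _ = _ := by rw [hidi, show d' = e * d * e⁻¹ from rfl]; group
  have hd'1 : d' = 1 := by
    have hfix : ∀ x : Ω, g' • x = x → d' • (e • g₁ • x) = e • g₁ • x := fun x hx => by
      show (e * d * e⁻¹) • _ = _
      rw [mul_smul, mul_smul, inv_smul_smul, hddef, mul_smul, mul_smul, inv_smul_smul, hx]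
    refine inverted_fix_three hS hd'K ⟨e • g₁ • p, e • g₁ • (j • p), e • g₁ • (v • p),
      ?_, ?_, ?_, hfix _ hgp, hfix _ hgjp, hfix _ hgvp⟩
    · exact fun e' => hjp (smul_left_cancel g₁ (smul_left_cancel e e')).symm
    · exact fun e' => hvp (smul_left_cancel g₁ (smul_left_cancel e e')).symm
    · exact fun e' => hvjp (smul_left_cancel g₁ (smul_left_cancel e e')).symm
  have hd1 : d = 1 := by
    rwa [show d' = e * d * e⁻¹ from rfl, mul_inv_eq_one, mul_eq_left] at hd'1
  rwa [hddef, mul_inv_eq_one, mul_eq_left] at hd1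

/-- `|K| = q - 1`. -/
theorem Mod.card_kSet : Nat.card (kSet a t : Set G) + 1 = M.q := by
  show _ = 2 ^ M.n
  rw [card_invertedBy (setup h), ← M.qNum_eq]
  rfl

theorem Mod.card_off : Nat.card {c : Ω // h.Off c} + M.q = M.q ^ 3 := by
  have hS := setup h
  have := finiteOmega hS
  let f : {x : Q // (x : G) ∉ zSub h} → {c : Ω // h.Off c} := fun x => ⟨(x.1 : G) • (t • a),
    fun e => t_smul_ne hS (smul_left_cancel (x.1 : G) (e.trans (Q_fix hS x.1.2).symm)),
    fun z hz e => x.2 (by rw [Q_smul_inj hS x.1.2 (zSub_le h hz) (t_smul_ne hS) e]; exact hz)⟩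
  have hf : Function.Bijective f := by
    refine ⟨fun x y e => Subtype.ext (Subtype.ext (Q_smul_inj hS x.1.2 y.1.2 (t_smul_ne hS)
      (congrArg Subtype.val e))), fun c => ?_⟩
    obtain ⟨x, hx, e⟩ := Q_trans hS (t_smul_ne hS) c.2.1
    exact ⟨⟨⟨x, hx⟩, fun hz => c.2.2 x hz e.symm⟩, Subtype.ext e⟩
  rw [← Nat.card_eq_of_bijective f hf]
  have hsplit : Nat.card {x : Q // (x : G) ∈ zSub h} + Nat.card {x : Q // (x : G) ∉ zSub h} =
      Nat.card Q := by
    classical
    rw [← Nat.card_sum]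
    exact Nat.card_congr (Equiv.sumCompl _)
  have hz : Nat.card {x : Q // (x : G) ∈ zSub h} = M.q := by
    show _ = 2 ^ M.n
    rw [← M.qNum_eq, ← card_zSub h]
    exact Nat.card_congr ⟨fun x => ⟨x.1, x.2⟩, fun z => ⟨⟨z, zSub_le h z.2⟩, z.2⟩,
      fun x => rfl, fun z => rfl⟩
  rw [h.card, M.qNum_eq] at hsplit
  change _ = M.q ^ 3 at hsplit
  omega

theorem Mod.exists_off (M : Mod h E) : ∃ c : Ω, h.Off c := by
  have h1 := M.card_off
  have h4 := M.four_le
  by_contra! hno
  have : IsEmpty {c : Ω // h.Off c} := ⟨fun c => hno c.1 c.2⟩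
  rw [Nat.card_of_isEmpty, zero_add] at h1
  have : M.q * 1 < M.q * (M.q * M.q) := Nat.mul_lt_mul_of_pos_left (by nlinarith) (by omega)
  rw [mul_one] at this
  rw [pow_succ, sq, mul_assoc] at h1
  omega

/-- `L₀` is transitive off the chord. -/
theorem Mod.trans {c d : Ω} (hc : h.Off c) (hd : h.Off d) : ∃ g ∈ M.lGrp, g • c = d := by
  classical
  have hS := setup h
  have := finiteOmega hS
  let f : M.lGrp → {x : Ω // h.Off x} := fun g => ⟨(g : G) • c, M.off_smul g.2 hc⟩
  have hinj : Function.Injective f := fun g g' e => by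
    have e' : (g : G) • c = (g' : G) • c := congrArg Subtype.val e
    have h1 := M.free (M.lGrp.mul_mem (M.lGrp.inv_mem g'.2) g.2) hc
      (by rw [mul_smul, e', inv_smul_smul])
    exact Subtype.ext (inv_mul_eq_one.1 h1).symm
  let P := (↥(zSub h) × ↥(kSet a t)) ⊕
    ↥(zSub h) × ↥(kSet a t) × ↥(zSub h)
  let g : P → M.lGrp := Sum.elim
    (fun x => ⟨(x.1 : G) * x.2, M.lGrp.mul_mem (M.z_mem_lGrp x.1.2) (M.k_mem_lGrp x.2.2)⟩)
    (fun x => ⟨(x.1 : G) * x.2.1 * t * x.2.2, M.lGrp.mul_mem (M.lGrp.mul_mem (M.lGrp.mul_mem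
      (M.z_mem_lGrp x.1.2) (M.k_mem_lGrp x.2.1.2)) M.t_mem_lGrp) (M.z_mem_lGrp x.2.2.2)⟩)
  have hne : ∀ (x : ↥(zSub h) × ↥(kSet a t))
      (y : ↥(zSub h) × ↥(kSet a t) × ↥(zSub h)),
      (x.1 : G) * x.2 ≠ y.1 * y.2.1 * t * y.2.2 := by
    intro x y e
    have := congrArg (fun g : G => g • a) e
    simp only [mul_smul, show (x.2 : G) • a = a from x.2.2.1.1, x.1.2.1, y.2.2.2.1,
      (mem_twoStab.1 y.2.1.2.1).2] at this
    exact t_smul_ne hS (smul_left_cancel (y.1 : G) (this.symm.trans y.1.2.1.symm))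
  have hginj : Function.Injective g := by
    rintro (x | x) (y | y) e <;> have e' := congrArg Subtype.val e <;>
      simp only [g, Sum.elim_inl, Sum.elim_inr] at e'
    · obtain ⟨h1, h2⟩ := Q_D_unique hS (zSub_le h x.1.2) (zSub_le h y.1.2) x.2.2.1 y.2.2.1 e'
      exact congrArg Sum.inl (Prod.ext (Subtype.ext h1) (Subtype.ext h2))
    · exact absurd e' (hne x y)
    · exact absurd e'.symm (hne y x)
    · have h1 : (x.1 : G) = y.1 := by
        have := congrArg (fun g : G => g • a) e'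
        simp only [mul_smul, x.2.2.2.1, y.2.2.2.1, (mem_twoStab.1 x.2.1.2.1).2,
          (mem_twoStab.1 y.2.1.2.1).2] at this
        exact Q_smul_inj hS (zSub_le h x.1.2) (zSub_le h y.1.2) (t_smul_ne hS) this
      rw [h1] at e'
      simp only [mul_assoc] at e'
      have e2 := mul_left_cancel e'
      have hD : t * ((x.2.1 : G)⁻¹ * y.2.1) * t ∈ twoStab G a t := t_conj_mem hS
        ((twoStab G a t).mul_mem ((twoStab G a t).inv_mem x.2.1.2.1) y.2.1.2.1)
      have e3 : (x.2.2 : G) * (y.2.2 : G)⁻¹ = t * ((x.2.1 : G)⁻¹ * y.2.1) * t := by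
        calc (x.2.2 : G) * (y.2.2 : G)⁻¹
            = t⁻¹ * (x.2.1 : G)⁻¹ * ((x.2.1 : G) * (t * x.2.2)) * (y.2.2 : G)⁻¹ := by group
          _ = _ := by rw [e2, t_inv' h]; group
      have e4 : (x.2.2 : G) * (y.2.2 : G)⁻¹ = 1 := Q_free hS
        (Q.mul_mem (zSub_le h x.2.2.2) (Q.inv_mem (zSub_le h y.2.2.2))) (t_smul_ne hS)
        (by rw [e3]; exact (mem_twoStab.1 hD).2)
      rw [mul_inv_eq_one] at e4
      rw [e4] at e2
      exact congrArg Sum.inr (Prod.ext (Subtype.ext h1)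
        (Prod.ext (Subtype.ext (mul_right_cancel e2)) (Subtype.ext e4)))
  have hk := M.card_kSet
  have hP : Nat.card P + M.q = M.q ^ 3 := by
    rw [Nat.card_sum, Nat.card_prod, Nat.card_prod, Nat.card_prod, card_zSub h, M.qNum_eq]
    simp only [Mod.q] at hk ⊢
    rw [← hk]
    ring
  have hle : Nat.card P ≤ Nat.card M.lGrp := Nat.card_le_card_of_injective g hginj
  have hle2 := Nat.card_le_card_of_injective f hinj
  have hoff := M.card_off
  obtain ⟨x, hx⟩ := (hinj.bijective_of_nat_card_le (by omega)).2 ⟨d, hd⟩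
  exact ⟨x, x.2, congrArg Subtype.val hx⟩

end Cfsg.Agent.Lib.BenderSuzuki.Coords
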