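import Cfsg.Agent.Lib.BenderSuzuki.Coords.Field

/-!
# Bender–Suzuki §9: the group `L₀ = ⟨Z₀, t⟩` and its action on `E × E`
-/

set_option autoImplicit false

namespace Cfsg.Agent.Lib.BenderSuzuki.Coords

open MulAction Cfsg.Agent.Lib.RankOne.Basic Cfsg.Agent.Lib.RankOne.Involution

universe u v

/-- Upper unitriangular map. -/
def actA {E : Type} [Field E] (l : E) : E × E → E × E := fun p => (p.1 + l * p.2, p.2)

/-- Diagonal map. -/
def actM {E : Type} [Field E] (m : E) : E × E → E × E := fun p => (m * p.1, m⁻¹ * p.2)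

/-- Exchange of the coordinates. -/
def actT {E : Type} [Field E] : E × E → E × E := fun p => (p.2, p.1)

variable {G : Type u} {Ω : Type v} [Group G] [Finite G] [MulAction G Ω] {a : Ω} {t : G}
  {Q : Subgroup G} {h : Ctx G Ω a t Q} {E : Type} [Field E] (M : Mod h E)

theorem actA_comp (M : Mod h E) (l l' : E) (p : E × E) : actA l (actA l' p) = actA (l + l') p := by
  simp only [actA, Prod.mk.injEq]
  exact ⟨by ring, trivial⟩

theorem actA_zero {E : Type} [Field E] (p : E × E) : actA (0 : E) p = p := by simp [actA]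

theorem actM_comp {E : Type} [Field E] (m m' : E) (p : E × E) :
    actM m (actM m' p) = actM (m * m') p := by
  simp only [actM, mul_inv, Prod.mk.injEq]
  exact ⟨by ring, by ring⟩

theorem actM_one {E : Type} [Field E] (p : E × E) : actM (1 : E) p = p := by simp [actM]

theorem actT_actM {E : Type} [Field E] (m : E) (p : E × E) :
    actT (actM m p) = actM m⁻¹ (actT p) := by
  simp [actM, actT]

theorem actM_actA {E : Type} [Field E] {m : E} (hm : m ≠ 0) (l : E) (p : E × E) :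
    actM m (actA l p) = actA (m ^ 2 * l) (actM m p) := by
  simp only [actM, actA, Prod.mk.injEq]
  exact ⟨by field_simp, trivial⟩

/-- Membership data of the generators. -/
inductive Mod.Rel : G → (E × E → E × E) → Prop
  | one : Mod.Rel 1 id
  | mz {z g : G} {f : E × E → E × E} : z ∈ zSub h → Mod.Rel g f →
      Mod.Rel (z * g) (actA (M.zeta z) ∘ f)
  | mk {k g : G} {f : E × E → E × E} : k ∈ kSet a t → Mod.Rel g f →
      Mod.Rel (k * g) (actM (M.mu k) ∘ f)
  | mt {g : G} {f : E × E → E × E} : Mod.Rel g f → Mod.Rel (t * g) (actT ∘ f)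

/-- The normal forms. -/
def Mod.NF (g : G) (f : E × E → E × E) : Prop :=
  (∃ z ∈ zSub h, ∃ k ∈ kSet a t, g = z * k ∧ f = actA (M.zeta z) ∘ actM (M.mu k)) ∨
    ∃ z₁ ∈ zSub h, ∃ k ∈ kSet a t, ∃ z₂ ∈ zSub h, g = z₁ * k * t * z₂ ∧
      f = actA (M.zeta z₁) ∘ actM (M.mu k) ∘ actT ∘ actA (M.zeta z₂)

theorem Mod.zeta_conj_k {k z : G} (hk : k ∈ kSet a t) (hz : z ∈ zSub h) :
    M.zeta (k * z * k⁻¹) = M.mu k ^ 2 * M.zeta z := by
  rw [M.zeta_conj k hk z hz, M.mu_sq hk]; rfl

theorem Mod.nf_of_rel {g : G} {f : E × E → E × E} (hr : M.Rel g f) : M.NF g f := by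
  induction hr with
  | one => exact Or.inl ⟨1, one_mem _, 1, k_one h, by simp, funext fun p => by
      simp [M.zeta_one, M.mu_one, actA_zero, actM_one]⟩
  | @mz z g f hz _ ih =>
    rcases ih with ⟨z₁, hz₁, k, hk, rfl, rfl⟩ | ⟨z₁, hz₁, k, hk, z₂, hz₂, rfl, rfl⟩
    · exact Or.inl ⟨z * z₁, mul_mem hz hz₁, k, hk, by group, funext fun p => by
        simp [Function.comp_apply, M.zeta_mul z hz z₁ hz₁, actA_comp M]⟩
    · exact Or.inr ⟨z * z₁, mul_mem hz hz₁, k, hk, z₂, hz₂, by group, funext fun p => by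
        simp [Function.comp_apply, M.zeta_mul z hz z₁ hz₁, actA_comp M]⟩
  | @mk l g f hl _ ih =>
    rcases ih with ⟨z₁, hz₁, k, hk, rfl, rfl⟩ | ⟨z₁, hz₁, k, hk, z₂, hz₂, rfl, rfl⟩
    · exact Or.inl ⟨l * z₁ * l⁻¹, z_conj_mem h hz₁ hl.1.1, l * k, k_mul h hl hk, by group,
        funext fun p => by
          simp [Function.comp_apply, M.zeta_conj_k hl hz₁, M.mu_mul hl hk,
            actM_actA (M.mu_ne_zero hl), actM_comp]⟩
    · exact Or.inr ⟨l * z₁ * l⁻¹, z_conj_mem h hz₁ hl.1.1, l * k, k_mul h hl hk, z₂, hz₂, by group,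
        funext fun p => by
          simp [Function.comp_apply, M.zeta_conj_k hl hz₁, M.mu_mul hl hk,
            actM_actA (M.mu_ne_zero hl), actM_comp]⟩
  | @mt g f _ ih =>
    have htk : ∀ k ∈ kSet a t, t * k = k⁻¹ * t := fun k hk => tk h hk
    have htt : t * t = 1 := (setup h).mul_self
    rcases ih with ⟨z, hz, k, hk, rfl, rfl⟩ | ⟨z₁, hz₁, k, hk, z₂, hz₂, rfl, rfl⟩
    · have hz' : k⁻¹ * z * k ∈ zSub h := by
        simpa using z_conj_mem h hz ((stabilizer G a).inv_mem hk.1.1)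
      refine Or.inr ⟨1, one_mem _, k⁻¹, k_inv h hk, k⁻¹ * z * k, hz', ?_, funext fun p => ?_⟩
      · rw [show (1 : G) * k⁻¹ * t * (k⁻¹ * z * k) = (k⁻¹ * t) * (k⁻¹ * z * k) by group, ← htk k hk]
        group
      · simp only [Function.comp_apply, M.zeta_one, actA_zero]
        rw [show M.zeta (k⁻¹ * z * k) = M.mu k⁻¹ ^ 2 * M.zeta z by
          rw [← M.zeta_conj_k (k_inv h hk) hz, inv_inv]]
        rw [M.mu_inv hk, ← actT_actM, actM_actA (M.mu_ne_zero hk)]
        congr 2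
        have := M.mu_ne_zero hk
        field_simp
    · by_cases hz1 : z₁ = 1
      · subst hz1
        have hz' : k⁻¹ * z₂ * k⁻¹⁻¹ ∈ zSub h := z_conj_mem h hz₂ ((stabilizer G a).inv_mem hk.1.1)
        refine Or.inl ⟨k⁻¹ * z₂ * k⁻¹⁻¹, hz', k⁻¹, k_inv h hk, ?_, funext fun p => ?_⟩
        · calc t * (1 * k * t * z₂) = (t * k) * t * z₂ := by group
            _ = k⁻¹ * (t * t) * z₂ := by rw [htk k hk]; group
            _ = _ := by rw [htt]; group
        · simp only [Function.comp_apply, M.zeta_one, actA_zero]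
          rw [M.zeta_conj_k (k_inv h hk) hz₂, ← actM_actA (M.mu_ne_zero (k_inv h hk)), actT_actM,
            M.mu_inv hk]
          congr 1
      · obtain ⟨l, hl, rfl⟩ := exists_k h (sInv_mem h) (sInv_ne h) hz₁ hz1
        set z' := l⁻¹ * sInv h * l with hz'def
        have hz' : z' ∈ zSub h := by
          simpa [hz'def] using z_conj_mem h (sInv_mem h) ((stabilizer G a).inv_mem hl.1.1)
        have hz'' : k⁻¹ * z' * k ∈ zSub h := by
          simpa using z_conj_mem h hz' ((stabilizer G a).inv_mem hk.1.1)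
        refine Or.inr ⟨z', hz', (l * l)⁻¹ * k, k_mul h (k_inv h (k_mul h hl hl)) hk,
          k * z' * k⁻¹ * z₂, mul_mem (z_conj_mem h hz' hk.1.1) hz₂, ?_, funext fun p => ?_⟩
        · have h1 := tzt h hl
          have h2 := htk (l * l) (k_mul h hl hl)
          calc t * (l * sInv h * l⁻¹ * k * t * z₂)
              = (t * (l * sInv h * l⁻¹) * t) * ((t * k) * t) * z₂ := by
                simp [mul_assoc, tt_mul (setup h)]
            _ = z' * (t * (l * l)) * z' * (k⁻¹ * (t * t)) * z₂ := by rw [h1, ← hz'def, htk k hk]; group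
            _ = z' * ((l * l)⁻¹ * (t * z' * k⁻¹)) * z₂ := by rw [h2, htt]; group
            _ = z' * (l * l)⁻¹ * (t * k⁻¹) * (k * z' * k⁻¹) * z₂ := by group
            _ = _ := by rw [htk k⁻¹ (k_inv h hk)]; group
        · have hd := M.mu_ne_zero hl
          have hkne := M.mu_ne_zero hk
          simp only [Function.comp_apply, M.zeta_conj_k hl (sInv_mem h), M.zeta_s, mul_one,
            M.mu_mul (k_inv h (k_mul h hl hl)) hk, M.mu_inv (k_mul h hl hl), M.mu_mul hl hl,
            M.zeta_mul _ (z_conj_mem h hz' hk.1.1) z₂ hz₂, M.zeta_conj_k hk hz']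
          rw [show M.zeta z' = (M.mu l ^ 2)⁻¹ by
            rw [hz'def]
            have := M.zeta_conj_k (k_inv h hl) (sInv_mem h)
            rw [inv_inv] at this
            rw [this, M.zeta_s, M.mu_inv hl, mul_one, inv_pow]]
          simp only [actA, actM, actT, Prod.mk.injEq]
          refine ⟨?_, ?_⟩
          · field_simp
            linear_combination -(M.mu k ^ 2 * p.2) * M.two_eq_zero
          · field_simp
            ring

theorem Mod.nf_unique {g : G} {f f' : E × E → E × E} (h1 : M.NF g f) (h2 : M.NF g f') : f = f' := by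
  have hS := setup h
  have e0 : ∀ z ∈ zSub h, ∀ k ∈ kSet a t, (z * k) • a = a := fun z hz k hk => by
    rw [mul_smul, show k • a = a from hk.1.1, hz.1]
  have e1 : ∀ z₁ ∈ zSub h, ∀ k ∈ kSet a t, ∀ z₂ ∈ zSub h,
      (z₁ * k * t * z₂) • a = z₁ • (t • a) := fun z₁ hz₁ k hk z₂ hz₂ => by
    rw [mul_smul, hz₂.1, mul_smul, mul_smul, (mem_twoStab.1 hk.1).2]
  have hne : ∀ z₁ ∈ zSub h, z₁ • (t • a) ≠ a := fun z₁ hz₁ e =>
    t_smul_ne hS (smul_left_cancel z₁ (e.trans hz₁.1.symm))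
  rcases h1 with ⟨z, hz, k, hk, rfl, rfl⟩ | ⟨z₁, hz₁, k, hk, z₂, hz₂, rfl, rfl⟩ <;>
    rcases h2 with ⟨z', hz', k', hk', he, rfl⟩ | ⟨z₁', hz₁', k', hk', z₂', hz₂', he, rfl⟩
  · obtain ⟨rfl, rfl⟩ := Q_D_unique hS (zSub_le h hz) (zSub_le h hz') hk.1 hk'.1 he
    rfl
  · have := congrArg (fun g : G => g • a) he
    simp only [e0 z hz k hk, e1 z₁' hz₁' k' hk' z₂' hz₂'] at this
    exact absurd this.symm (hne _ hz₁')
  · have := congrArg (fun g : G => g • a) he
    simp only [e0 z' hz' k' hk', e1 z₁ hz₁ k hk z₂ hz₂] at this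
    exact absurd this (hne _ hz₁)
  · have := congrArg (fun g : G => g • a) he
    simp only [e1 z₁ hz₁ k hk z₂ hz₂, e1 z₁' hz₁' k' hk' z₂' hz₂'] at this
    have hzz := Q_smul_inj hS (zSub_le h hz₁) (zSub_le h hz₁') (t_smul_ne hS) this
    subst hzz
    have h3 : k * t * z₂ = k' * t * z₂' := mul_left_cancel (a := z₁) (by simpa [mul_assoc] using he)
    have h4 : z₂ * z₂'⁻¹ = t * (k⁻¹ * k') * t := by
      calc z₂ * z₂'⁻¹ = t⁻¹ * k⁻¹ * (k * t * z₂) * z₂'⁻¹ := by group
        _ = t⁻¹ * k⁻¹ * (k' * t * z₂') * z₂'⁻¹ := by rw [h3]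
        _ = _ := by rw [t_inv' h]; group
    have hD : t * (k⁻¹ * k') * t ∈ twoStab G a t :=
      t_conj_mem hS ((twoStab G a t).mul_mem ((twoStab G a t).inv_mem hk.1) hk'.1)
    have h5 : z₂ * z₂'⁻¹ = 1 :=
      Q_free hS (Q.mul_mem (zSub_le h hz₂) (Q.inv_mem (zSub_le h hz₂'))) (t_smul_ne hS)
        (by rw [h4]; exact (mem_twoStab.1 hD).2)
    rw [mul_inv_eq_one] at h5
    subst h5
    have h6 : k = k' := mul_right_cancel (mul_right_cancel h3)
    subst h6
    rfl

theorem Mod.rel_unique {g : G} {f f' : E × E → E × E} (h1 : M.Rel g f) (h2 : M.Rel g f') :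
    f = f' := M.nf_unique (M.nf_of_rel h1) (M.nf_of_rel h2)

theorem Mod.rel_mul {g g' : G} {f f' : E × E → E × E} (h1 : M.Rel g f) (h2 : M.Rel g' f') :
    M.Rel (g * g') (f ∘ f') := by
  induction h1 with
  | one => rw [one_mul, Function.id_comp]; exact h2
  | mz hz _ ih => rw [mul_assoc, Function.comp_assoc]; exact .mz hz ih
  | mk hk _ ih => rw [mul_assoc, Function.comp_assoc]; exact .mk hk ih
  | mt _ ih => rw [mul_assoc, Function.comp_assoc]; exact .mt ih

/-- The group `L₀`. -/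
def Mod.lGrp : Subgroup G where
  carrier := {g | ∃ f, M.Rel g f}
  one_mem' := ⟨id, .one⟩
  mul_mem' := fun ⟨f, hf⟩ ⟨f', hf'⟩ => ⟨f ∘ f', M.rel_mul hf hf'⟩
  inv_mem' := by
    rintro g ⟨f, hf⟩
    have hp : ∀ m : ℕ, ∃ f', M.Rel (g ^ m) f' := by
      intro m
      induction m with
      | zero => exact ⟨id, by rw [pow_zero]; exact .one⟩
      | succ m ih =>
        obtain ⟨f', hf'⟩ := ih
        exact ⟨f' ∘ f, by rw [pow_succ]; exact M.rel_mul hf' hf⟩
    have : g⁻¹ = g ^ (orderOf g - 1) := by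
      refine inv_eq_of_mul_eq_one_left ?_
      rw [← pow_succ, Nat.sub_add_cancel (orderOf_pos g), pow_orderOf_eq_one]
    obtain ⟨f', hf'⟩ := hp (orderOf g - 1)
    exact ⟨f', by rw [this]; exact hf'⟩

open Classical in
/-- The action of `L₀` on `E × E`. -/
noncomputable def Mod.phi (g : G) : E × E → E × E :=
  if hg : ∃ f, M.Rel g f then hg.choose else id

theorem Mod.phi_eq {g : G} {f : E × E → E × E} (hf : M.Rel g f) : M.phi g = f := by
  have hg : ∃ f, M.Rel g f := ⟨f, hf⟩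
  rw [Mod.phi, dif_pos hg]
  exact M.rel_unique hg.choose_spec hf

theorem Mod.phi_rel {g : G} (hg : g ∈ M.lGrp) : M.Rel g (M.phi g) := by
  obtain ⟨f, hf⟩ := hg
  rw [M.phi_eq hf]; exact hf

theorem Mod.phi_mul {g g' : G} (hg : g ∈ M.lGrp) (hg' : g' ∈ M.lGrp) (p : E × E) :
    M.phi (g * g') p = M.phi g (M.phi g' p) := by
  rw [M.phi_eq (M.rel_mul (M.phi_rel hg) (M.phi_rel hg'))]; rfl

theorem Mod.phi_one (p : E × E) : M.phi 1 p = p := by rw [M.phi_eq .one]; rfl

theorem Mod.rel_z {z : G} (hz : z ∈ zSub h) : M.Rel z (actA (M.zeta z)) := by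
  have := Mod.Rel.mz hz (Mod.Rel.one (M := M))
  rwa [mul_one, Function.comp_id] at this

theorem Mod.rel_k {k : G} (hk : k ∈ kSet a t) : M.Rel k (actM (M.mu k)) := by
  have := Mod.Rel.mk hk (Mod.Rel.one (M := M))
  rwa [mul_one, Function.comp_id] at this

theorem Mod.rel_t : M.Rel t actT := by
  have := Mod.Rel.mt (Mod.Rel.one (M := M))
  rwa [mul_one, Function.comp_id] at this

theorem Mod.z_mem_lGrp {z : G} (hz : z ∈ zSub h) : z ∈ M.lGrp := ⟨_, M.rel_z hz⟩

theorem Mod.k_mem_lGrp {k : G} (hk : k ∈ kSet a t) : k ∈ M.lGrp := ⟨_, M.rel_k hk⟩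

theorem Mod.t_mem_lGrp : t ∈ M.lGrp := ⟨_, M.rel_t⟩

theorem Mod.cases_lGrp {g : G} (hg : g ∈ M.lGrp) :
    (∃ z ∈ zSub h, ∃ k ∈ kSet a t, g = z * k) ∨
      ∃ z₁ ∈ zSub h, ∃ k ∈ kSet a t, ∃ z₂ ∈ zSub h, g = z₁ * k * t * z₂ := by
  obtain ⟨f, hf⟩ := hg
  rcases M.nf_of_rel hf with ⟨z, hz, k, hk, he, -⟩ | ⟨z₁, hz₁, k, hk, z₂, hz₂, he, -⟩
  · exact Or.inl ⟨z, hz, k, hk, he⟩
  · exact Or.inr ⟨z₁, hz₁, k, hk, z₂, hz₂, he⟩

/-- `V₀` centralises `L₀`. -/
theorem Mod.ker_lGrp {v g : G} (hv : v ∈ vKer a t) (hg : g ∈ M.lGrp) : v * g = g * v := by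
  obtain ⟨f, hf⟩ := hg
  induction hf with
  | one => rw [mul_one, one_mul]
  | @mz z g f hz _ ih =>
    rw [← mul_assoc, mul_inv_eq_iff_eq_mul.1 (ker_z h hv hz), mul_assoc, ih, mul_assoc]
  | @mk k g f hk _ ih => rw [← mul_assoc, ← ker_k h hv hk, mul_assoc, ih, mul_assoc]
  | @mt g f _ ih => rw [← mul_assoc, ← ker_t h hv, mul_assoc, ih, mul_assoc]

/-- The action commutes with scalars. -/
theorem Mod.phi_smul {g : G} (hg : g ∈ M.lGrp) (c : E) (p : E × E) :
    M.phi g (c * p.1, c * p.2) = (c * (M.phi g p).1, c * (M.phi g p).2) := by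
  have hf := M.phi_rel hg
  generalize M.phi g = f at hf ⊢
  clear hg
  induction hf with
  | one => rfl
  | mz _ _ ih => simp only [Function.comp_apply, ih, actA, Prod.mk.injEq]; exact ⟨by ring, trivial⟩
  | mk _ _ ih => simp only [Function.comp_apply, ih, actM, Prod.mk.injEq]; exact ⟨by ring, by ring⟩
  | mt _ ih => simp only [Function.comp_apply, ih, actT]

/-- The action is additive. -/
theorem Mod.phi_add {g : G} (hg : g ∈ M.lGrp) (p p' : E × E) :
    M.phi g (p + p') = M.phi g p + M.phi g p' := by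
  have hf := M.phi_rel hg
  generalize M.phi g = f at hf ⊢
  clear hg
  induction hf with
  | one => rfl
  | mz _ _ ih =>
    simp only [Function.comp_apply, ih, actA, Prod.fst_add, Prod.snd_add, Prod.ext_iff]
    exact ⟨by ring, trivial⟩
  | mk _ _ ih =>
    simp only [Function.comp_apply, ih, actM, Prod.fst_add, Prod.snd_add, Prod.ext_iff]
    exact ⟨by ring, by ring⟩
  | mt _ ih => simp only [Function.comp_apply, ih, actT, Prod.fst_add, Prod.snd_add, Prod.mk_add_mk]

/-- The action commutes with conjugation over the subfield. -/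
theorem Mod.phi_conj {g : G} (hg : g ∈ M.lGrp) (p : E × E) :
    M.phi g (p.1 ^ M.q, p.2 ^ M.q) = ((M.phi g p).1 ^ M.q, (M.phi g p).2 ^ M.q) := by
  have hf := M.phi_rel hg
  generalize M.phi g = f at hf ⊢
  clear hg
  induction hf with
  | one => rfl
  | @mz z _ _ hz _ ih => simp [Function.comp_apply, ih, actA, M.add_pow, mul_pow, M.zeta_fix z hz]
  | @mk k _ _ hk _ ih =>
    simp [Function.comp_apply, ih, actM, mul_pow, show (M.mu k) ^ M.q = M.mu k from M.mu_inF hk]
  | mt _ ih => simp [Function.comp_apply, ih, actT]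

/-- The hermitian form. -/
def Mod.form (p : E × E) : E := p.1 ^ M.q * p.2 + p.1 * p.2 ^ M.q

theorem Mod.form_phi {g : G} (hg : g ∈ M.lGrp) (p : E × E) : M.form (M.phi g p) = M.form p := by
  have hf := M.phi_rel hg
  generalize M.phi g = f at hf ⊢
  clear hg
  induction hf with
  | one => rfl
  | @mz z _ f hz _ ih =>
    rw [← ih]
    simp only [Mod.form, Function.comp_apply, actA, M.add_pow, mul_pow,
      show M.zeta z ^ M.q = M.zeta z from M.zeta_fix z hz]
    linear_combination (M.zeta z * (f p).2 * (f p).2 ^ M.q) * M.two_eq_zero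
  | @mk k _ f hk _ ih =>
    rw [← ih]
    simp only [Mod.form, Function.comp_apply, actM, mul_pow, inv_pow,
      show (M.mu k) ^ M.q = M.mu k from M.mu_inF hk]
    have := M.mu_ne_zero hk
    field_simp
  | mt _ ih =>
    rw [← ih]
    simp only [Mod.form, Function.comp_apply, actT]
    ring

end Cfsg.Agent.Lib.BenderSuzuki.Coords
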