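import Cfsg.Agent.Lib.BenderSuzuki.Coords.Chart
import Mathlib.FieldTheory.Fixed
import Mathlib.LinearAlgebra.Dimension.Free

/-!
# Bender–Suzuki §9: `C_D(t)` acts semilinearly

An element of `C_D(t)` induces a field automorphism of the subfield with `q` elements; conjugation by
it on `L₀` applies the automorphism to the matrix entries.
-/

set_option autoImplicit false
set_option linter.style.haveILetI false
set_option linter.unusedSectionVars false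

namespace Cfsg.Agent.Lib.BenderSuzuki.Coords

open MulAction Cfsg.Agent.Lib.RankOne.Basic Cfsg.Agent.Lib.RankOne.Involution

universe u v

/-- A field automorphism of prime order: the field has `|fixed field| ^ r` elements. -/
theorem card_eq_fixed_pow {F : Type*} [Field F] [Finite F] (σ : RingAut F) {r : ℕ} (hr : r.Prime)
    (hp : σ ^ r = 1) (h1 : σ ≠ 1) : Nat.card F = Nat.card {x : F // σ x = x} ^ r := by
  haveI : Finite (RingAut F) :=
    Finite.of_injective (fun τ : RingAut F => (τ : F → F)) DFunLike.coe_injective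
  set Γ := Subgroup.zpowers σ with hΓ
  letI : Fintype Γ := Fintype.ofFinite _
  haveI : Fact r.Prime := ⟨hr⟩
  have hcardΓ : Nat.card Γ = r := by
    rw [hΓ, Nat.card_zpowers, orderOf_eq_prime hp h1]
  have hfix : ∀ x : F, x ∈ FixedPoints.subfield Γ F ↔ σ x = x := fun x => by
    refine ⟨fun hx => hx ⟨σ, Subgroup.mem_zpowers σ⟩, fun hx g => ?_⟩
    have h2 : Γ ≤ MulAction.stabilizer (RingAut F) x := by
      rw [hΓ, Subgroup.zpowers_le]; exact hx
    exact h2 g.2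
  rw [Module.natCard_eq_pow_finrank (K := FixedPoints.subfield Γ F), FixedPoints.finrank_eq_card Γ F,
    ← Nat.card_eq_fintype_card, hcardΓ, Nat.card_congr (Equiv.subtypeEquivRight hfix)]

variable {G : Type u} {Ω : Type v} [Group G] [Finite G] [MulAction G Ω] {a : Ω} {t : G}
  {Q : Subgroup G} {h : Ctx G Ω a t Q} {E : Type} [Field E] (M : Mod h E)

omit [Finite G] in
theorem vGrp_t {d : G} (hd : d ∈ vGrp a t) : d * t = t * d :=
  Subgroup.mem_centralizer_singleton_iff.1 hd.2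

theorem vGrp_conj_t {d : G} (hd : d ∈ vGrp a t) : d * t * d⁻¹ = t :=
  mul_inv_eq_iff_eq_mul.2 (vGrp_t hd)

theorem vGrp_s (h : Ctx G Ω a t Q) {d : G} (hd : d ∈ vGrp a t) : d * sInv h * d⁻¹ = sInv h := by
  obtain ⟨hs, hs1, he⟩ := sInv_spec h
  refine (centralizer_t_eq (setup h) (invs_of_z h hs hs1) (zSub_le h hs)
    (by rw [z_inv h hs]; exact he) hd.1).1 ?_
  exact mul_inv_eq_iff_eq_mul.2 (vGrp_t hd).symm

theorem mem_vKer_of_fix (h : Ctx G Ω a t Q) {d : G} (hd : d ∈ twoStab G a t)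
    (he : ∀ z ∈ zSub h, d * z * d⁻¹ = z) : d ∈ vKer a t :=
  ⟨hd, Subgroup.mem_centralizer_iff.2 fun x hx =>
    (mul_inv_eq_iff_eq_mul.1 (he x (z_of_invs h hx))).symm⟩

/-- An element of `L₀` in `C_D(t)` is trivial. -/
theorem Mod.eq_one_of_vGrp {g : G} (hg : g ∈ M.lGrp) (hgV : g ∈ vGrp a t) : g = 1 := by
  have hS := setup h
  rcases M.cases_lGrp hg with ⟨z, hz, k, hk, rfl⟩ | ⟨z₁, hz₁, k, hk, z₂, hz₂, rfl⟩
  · have h1 := (mem_twoStab.1 hgV.1).2
    rw [mul_smul, (mem_twoStab.1 hk.1).2] at h1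
    have hz1 : z = 1 := Q_free hS (zSub_le h hz) (t_smul_ne hS) h1
    subst hz1
    rw [one_mul] at hgV ⊢
    have h2 : k⁻¹ = k := by
      rw [← hk.2, mul_inv_eq_iff_eq_mul]
      exact (vGrp_t hgV).symm
    exact eq_one_of_sq hS.odd_card hk.1 (by nth_rewrite 1 [← h2]; rw [inv_mul_cancel])
  · exfalso
    have h1 : (z₁ * k * t * z₂) • a = a := hgV.1.1
    rw [mul_smul, hz₂.1, mul_smul, mul_smul, (mem_twoStab.1 hk.1).2] at h1
    exact t_smul_ne hS (smul_left_cancel z₁ (h1.trans hz₁.1.symm))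

/-- The big cell is parametrised injectively. -/
theorem cell_inj (h : Ctx G Ω a t Q) {z₁ z₁' k k' z₂ z₂' : G} (hz₁ : z₁ ∈ zSub h)
    (hz₁' : z₁' ∈ zSub h) (hk : k ∈ kSet a t) (hk' : k' ∈ kSet a t) (hz₂ : z₂ ∈ zSub h)
    (hz₂' : z₂' ∈ zSub h) (e : z₁ * k * t * z₂ = z₁' * k' * t * z₂') :
    z₁ = z₁' ∧ k = k' ∧ z₂ = z₂' := by
  have hS := setup h
  have e0 : ∀ x ∈ zSub h, ∀ l ∈ kSet a t, ∀ y ∈ zSub h, (x * l * t * y) • a = x • (t • a) :=
    fun x _ l hl y hy => by rw [mul_smul, hy.1, mul_smul, mul_smul, (mem_twoStab.1 hl.1).2]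
  have h1 := congrArg (fun g : G => g • a) e
  simp only [e0 _ hz₁ _ hk _ hz₂, e0 _ hz₁' _ hk' _ hz₂'] at h1
  have hz := Q_smul_inj hS (zSub_le h hz₁) (zSub_le h hz₁') (t_smul_ne hS) h1
  subst hz
  simp only [mul_assoc] at e
  have e2 := mul_left_cancel e
  have e3 : z₂ * z₂'⁻¹ = t * (k⁻¹ * k') * t := by
    calc z₂ * z₂'⁻¹ = t⁻¹ * k⁻¹ * (k * (t * z₂)) * z₂'⁻¹ := by group
      _ = t⁻¹ * k⁻¹ * (k' * (t * z₂')) * z₂'⁻¹ := by rw [e2]
      _ = _ := by rw [t_inv' h]; group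
  have e4 : z₂ * z₂'⁻¹ = 1 := Q_free hS (Q.mul_mem (zSub_le h hz₂) (Q.inv_mem (zSub_le h hz₂')))
    (t_smul_ne hS) (by
      rw [e3]
      exact (mem_twoStab.1 (t_conj_mem hS
        ((twoStab G a t).mul_mem ((twoStab G a t).inv_mem hk.1) hk'.1))).2)
  rw [mul_inv_eq_one] at e4
  subst e4
  exact ⟨rfl, mul_right_cancel e2, rfl⟩

/-! ### The subfield and its automorphisms -/

/-- The subfield with `q` elements. -/
def Mod.fSub : Subfield E where
  carrier := {x | M.InF x}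
  mul_mem' := fun hx hy => M.inF_mul hx hy
  one_mem' := M.inF_one
  add_mem' := fun hx hy => M.inF_add hx hy
  zero_mem' := M.inF_zero
  neg_mem' := fun {x} hx => by
    show M.InF (-x)
    rw [show -x = x by haveI := M.char; exact CharTwo.neg_eq x]
    exact hx
  inv_mem' := fun _ hx => M.inF_inv hx

open Classical in
/-- The element of `Z₀` with a given image. -/
noncomputable def Mod.zOf (x : E) : G :=
  if hx : M.InF x then (M.zeta_surj x hx).choose else 1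

theorem Mod.zOf_mem (x : E) : M.zOf x ∈ zSub h := by
  rw [Mod.zOf]
  split
  · next hx => exact (M.zeta_surj x hx).choose_spec.1
  · exact one_mem _

theorem Mod.zeta_zOf {x : E} (hx : M.InF x) : M.zeta (M.zOf x) = x := by
  rw [Mod.zOf, dif_pos hx]
  exact (M.zeta_surj x hx).choose_spec.2

theorem Mod.zOf_zeta {z : G} (hz : z ∈ zSub h) : M.zOf (M.zeta z) = z :=
  M.zeta_inj _ (M.zOf_mem _) z hz (M.zeta_zOf (M.zeta_fix z hz))

/-- The map induced on the subfield by conjugation. -/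
noncomputable def Mod.sig (d : G) (x : E) : E := M.zeta (d * M.zOf x * d⁻¹)

theorem Mod.sig_zeta {d z : G} (hz : z ∈ zSub h) : M.sig d (M.zeta z) = M.zeta (d * z * d⁻¹) := by
  rw [Mod.sig, M.zOf_zeta hz]

variable {d : G}

theorem Mod.sig_inF (hd : d ∈ vGrp a t) (x : E) : M.InF (M.sig d x) :=
  M.zeta_fix _ (z_conj_mem h (M.zOf_mem x) hd.1.1)

theorem Mod.sig_add (hd : d ∈ vGrp a t) {x y : E} (hx : M.InF x) (hy : M.InF y) :
    M.sig d (x + y) = M.sig d x + M.sig d y := by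
  obtain ⟨z, hz, rfl⟩ := M.zeta_surj x hx
  obtain ⟨z', hz', rfl⟩ := M.zeta_surj y hy
  rw [← M.zeta_mul z hz z' hz', M.sig_zeta (mul_mem hz hz'), M.sig_zeta hz, M.sig_zeta hz',
    ← M.zeta_mul _ (z_conj_mem h hz hd.1.1) _ (z_conj_mem h hz' hd.1.1)]
  congr 1
  group

theorem Mod.sig_zero : M.sig d 0 = 0 := by
  rw [← M.zeta_one, M.sig_zeta (one_mem _), mul_one, mul_inv_cancel, M.zeta_one]

theorem Mod.sig_one (hd : d ∈ vGrp a t) : M.sig d 1 = 1 := by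
  rw [← M.zeta_s, M.sig_zeta (sInv_mem h), vGrp_s h hd, M.zeta_s]

theorem Mod.sig_chi (hd : d ∈ vGrp a t) {k : G} (hk : k ∈ kSet a t) :
    M.sig d (M.chi k) = M.chi (d * k * d⁻¹) := by
  rw [Mod.chi, M.sig_zeta (z_conj_mem h (sInv_mem h) hk.1.1), Mod.chi,
    show d * k * d⁻¹ * sInv h * (d * k * d⁻¹)⁻¹ = d * k * (d⁻¹ * sInv h * d⁻¹⁻¹) * k⁻¹ * d⁻¹ by
      group,
    vGrp_s h ((vGrp a t).inv_mem hd)]
  congr 1
  group

theorem Mod.sig_mul (hd : d ∈ vGrp a t) {x y : E} (hx : M.InF x) (hy : M.InF y) :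
    M.sig d (x * y) = M.sig d x * M.sig d y := by
  by_cases hx0 : x = 0
  · rw [hx0, zero_mul, M.sig_zero, zero_mul]
  obtain ⟨k, hk, rfl⟩ := M.exists_chi hx hx0
  obtain ⟨z, hz, rfl⟩ := M.zeta_surj y hy
  have hc := z_conj_mem h hz hd.1.1
  rw [M.sig_chi hd hk, show M.chi k * M.zeta z = M.zeta (k * z * k⁻¹) from (M.zeta_conj k hk z hz).symm,
    M.sig_zeta (z_conj_mem h hz hk.1.1), M.sig_zeta hz,
    show M.chi (d * k * d⁻¹) * M.zeta (d * z * d⁻¹) =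
      M.zeta (d * k * d⁻¹ * (d * z * d⁻¹) * (d * k * d⁻¹)⁻¹) from
      (M.zeta_conj _ (k_conj h hd.1 hk) _ hc).symm]
  congr 1
  group

theorem Mod.sig_pow (hd : d ∈ vGrp a t) {x : E} (hx : M.InF x) (m : ℕ) :
    M.sig d (x ^ m) = M.sig d x ^ m := by
  induction m with
  | zero => rw [pow_zero, pow_zero, M.sig_one hd]
  | succ m ih => rw [pow_succ, M.sig_mul hd (M.inF_pow hx m) hx, ih, pow_succ]

theorem Mod.sig_inv (hd : d ∈ vGrp a t) {x : E} (hx : M.InF x) :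
    M.sig d x⁻¹ = (M.sig d x)⁻¹ := by
  by_cases hx0 : x = 0
  · rw [hx0, inv_zero, M.sig_zero, inv_zero]
  refine eq_inv_of_mul_eq_one_left ?_
  rw [← M.sig_mul hd (M.inF_inv hx) hx, inv_mul_cancel₀ hx0, M.sig_one hd]

theorem Mod.sig_mu (hd : d ∈ vGrp a t) {k : G} (hk : k ∈ kSet a t) :
    M.sig d (M.mu k) = M.mu (d * k * d⁻¹) := by
  rw [Mod.mu, Mod.mu, Mod.sqrtF, Mod.sqrtF, M.sig_pow hd (M.chi_inF hk), M.sig_chi hd hk]

theorem Mod.sig_comp {d' : G} (hd' : d' ∈ vGrp a t) {x : E} (hx : M.InF x) :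
    M.sig d (M.sig d' x) = M.sig (d * d') x := by
  obtain ⟨z, hz, rfl⟩ := M.zeta_surj x hx
  rw [M.sig_zeta hz, M.sig_zeta (z_conj_mem h hz hd'.1.1), M.sig_zeta hz]
  congr 1
  group

theorem Mod.sig_id {x : E} (hx : M.InF x) : M.sig 1 x = x := by
  obtain ⟨z, hz, rfl⟩ := M.zeta_surj x hx
  rw [M.sig_zeta hz, one_mul, inv_one, mul_one]

theorem Mod.exists_sig_ne (hd : d ∈ vGrp a t) (hne : d ∉ vKer a t) :
    ∃ x, M.InF x ∧ M.sig d x ≠ x := by
  by_contra hno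
  push Not at hno
  refine hne (mem_vKer_of_fix h hd.1 fun z hz => M.zeta_inj _ (z_conj_mem h hz hd.1.1) z hz ?_)
  rw [← M.sig_zeta hz, hno _ (M.zeta_fix z hz)]

/-- The number of elements of `Z₀` centralised by `d`. -/
noncomputable def fixNum (h : Ctx G Ω a t Q) (d : G) : ℕ :=
  Nat.card {z : zSub h // d * (z : G) * d⁻¹ = z}

theorem Mod.q_eq_fixNum_pow (hd : d ∈ vGrp a t) (hne : d ∉ vKer a t) {r : ℕ} (hr : r.Prime)
    (hdr : d ^ r = 1) : M.q = fixNum h d ^ r := by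
  haveI := M.finite
  have hmem : ∀ x : M.fSub, M.InF (x : E) := fun x => x.2
  let R : vGrp a t →* RingAut M.fSub := MonoidHom.mk' (fun e =>
    { toFun := fun x => ⟨M.sig e x, M.sig_inF e.2 x⟩
      invFun := fun x => ⟨M.sig (e : G)⁻¹ x, M.sig_inF ((vGrp a t).inv_mem e.2) x⟩
      left_inv := fun x => Subtype.ext
        (show M.sig (e : G)⁻¹ (M.sig e x) = x by rw [M.sig_comp e.2 (hmem x), inv_mul_cancel, M.sig_id (hmem x)])
      right_inv := fun x => Subtype.ext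
        (show M.sig e (M.sig (e : G)⁻¹ x) = x by
          rw [M.sig_comp ((vGrp a t).inv_mem e.2) (hmem x), mul_inv_cancel, M.sig_id (hmem x)])
      map_mul' := fun x y => Subtype.ext (M.sig_mul e.2 (hmem x) (hmem y))
      map_add' := fun x y => Subtype.ext (M.sig_add e.2 (hmem x) (hmem y)) })
    fun e e' => RingEquiv.ext fun x => Subtype.ext (M.sig_comp e'.2 (hmem x)).symm
  have hR : ∀ (e : vGrp a t) (x : M.fSub), ((R e x : M.fSub) : E) = M.sig e x := fun _ _ => rfl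
  obtain ⟨x₀, hx₀, hx₀'⟩ := M.exists_sig_ne hd hne
  have hp : R ⟨d, hd⟩ ^ r = 1 := by
    rw [← map_pow, show (⟨d, hd⟩ : vGrp a t) ^ r = 1 from Subtype.ext hdr, map_one]
  have h1 : R ⟨d, hd⟩ ≠ 1 := fun e => hx₀' (by
    have := congrArg (fun σ : RingAut M.fSub => ((σ ⟨x₀, hx₀⟩ : M.fSub) : E)) e
    simpa [hR] using this)
  have hq : Nat.card M.fSub = M.q := M.card_inF
  have hf : Nat.card {x : M.fSub // R ⟨d, hd⟩ x = x} = fixNum h d := by
    refine (Nat.card_eq_of_bijective (fun z : {z : zSub h // d * (z : G) * d⁻¹ = z} =>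
      (⟨⟨M.zeta z.1, M.zeta_fix _ z.1.2⟩, Subtype.ext (by
        rw [hR]
        show M.sig d (M.zeta z.1) = M.zeta z.1
        rw [M.sig_zeta z.1.2, z.2])⟩ : {x : M.fSub // R ⟨d, hd⟩ x = x})) ⟨?_, ?_⟩).symm
    · intro z z' e
      exact Subtype.ext (Subtype.ext (M.zeta_inj _ z.1.2 _ z'.1.2
        (congrArg (fun x : {x : M.fSub // R ⟨d, hd⟩ x = x} => ((x.1 : M.fSub) : E)) e)))
    · rintro ⟨x, hx⟩
      obtain ⟨z, hz, hze⟩ := M.zeta_surj x (hmem x)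
      refine ⟨⟨⟨z, hz⟩, M.zeta_inj _ (z_conj_mem h hz hd.1.1) z hz ?_⟩, Subtype.ext (Subtype.ext hze)⟩
      have h2 : M.sig d (x : E) = x := congrArg Subtype.val hx
      rw [← M.sig_zeta hz, hze, h2]
  rw [← hq, card_eq_fixed_pow (R ⟨d, hd⟩) hr hp h1, hf]

/-! ### Semilinearity on `L₀` -/

/-- Both coordinates lie in the subfield. -/
def Mod.InF2 (p : E × E) : Prop := M.InF p.1 ∧ M.InF p.2

/-- The automorphism on both coordinates. -/
noncomputable def Mod.sigP (d : G) (p : E × E) : E × E := (M.sig d p.1, M.sig d p.2)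

theorem Mod.semilinear (hd : d ∈ vGrp a t) {g : G} (hg : g ∈ M.lGrp) :
    d * g * d⁻¹ ∈ M.lGrp ∧ ∀ p, M.InF2 p →
      M.InF2 (M.phi g p) ∧ M.phi (d * g * d⁻¹) (M.sigP d p) = M.sigP d (M.phi g p) := by
  have hf := M.phi_rel hg
  suffices key : ∃ f', M.Rel (d * g * d⁻¹) f' ∧ ∀ p, M.InF2 p →
      M.InF2 (M.phi g p) ∧ f' (M.sigP d p) = M.sigP d (M.phi g p) by
    obtain ⟨f', hf', hp⟩ := key
    refine ⟨⟨f', hf'⟩, ?_⟩
    rw [M.phi_eq hf']
    exact hp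
  generalize M.phi g = f at hf ⊢
  clear hg
  induction hf with
  | one =>
    exact ⟨id, by rw [mul_one, mul_inv_cancel]; exact .one, fun p hp => ⟨hp, rfl⟩⟩
  | @mz z g f hz _ ih =>
    obtain ⟨f', hf', hp⟩ := ih
    refine ⟨actA (M.zeta (d * z * d⁻¹)) ∘ f', ?_, fun p hpF => ?_⟩
    · rw [show d * (z * g) * d⁻¹ = d * z * d⁻¹ * (d * g * d⁻¹) by group]
      exact .mz (z_conj_mem h hz hd.1.1) hf'
    · obtain ⟨⟨h1, h2⟩, he⟩ := hp p hpF
      have hzF : M.InF (M.zeta z) := M.zeta_fix z hz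
      refine ⟨⟨M.inF_add h1 (M.inF_mul hzF h2), h2⟩, ?_⟩
      simp only [Function.comp_apply, he]
      simp only [Mod.sigP, actA, Prod.mk.injEq, and_true]
      rw [M.sig_add hd h1 (M.inF_mul hzF h2), M.sig_mul hd hzF h2, M.sig_zeta hz]
  | @mk k g f hk _ ih =>
    obtain ⟨f', hf', hp⟩ := ih
    refine ⟨actM (M.mu (d * k * d⁻¹)) ∘ f', ?_, fun p hpF => ?_⟩
    · rw [show d * (k * g) * d⁻¹ = d * k * d⁻¹ * (d * g * d⁻¹) by group]
      exact .mk (k_conj h hd.1 hk) hf'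
    · obtain ⟨⟨h1, h2⟩, he⟩ := hp p hpF
      have hm : M.InF (M.mu k) := M.mu_inF hk
      refine ⟨⟨M.inF_mul hm h1, M.inF_mul (M.inF_inv hm) h2⟩, ?_⟩
      simp only [Function.comp_apply, he]
      simp only [Mod.sigP, actM, Prod.mk.injEq]
      rw [M.sig_mul hd hm h1, M.sig_mul hd (M.inF_inv hm) h2, M.sig_inv hd hm, M.sig_mu hd hk]
      exact ⟨rfl, rfl⟩
  | @mt g f _ ih =>
    obtain ⟨f', hf', hp⟩ := ih
    refine ⟨actT ∘ f', ?_, fun p hpF => ?_⟩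
    · rw [show d * (t * g) * d⁻¹ = d * t * d⁻¹ * (d * g * d⁻¹) by group, vGrp_conj_t hd]
      exact .mt hf'
    · obtain ⟨⟨h1, h2⟩, he⟩ := hp p hpF
      refine ⟨⟨h2, h1⟩, ?_⟩
      simp only [Function.comp_apply, he]
      rfl

/-- The centraliser of `d` in `L₀`. -/
theorem Mod.card_cent_le (hd : d ∈ vGrp a t) :
    Nat.card {g : M.lGrp // d * (g : G) * d⁻¹ = g} + fixNum h d ≤ fixNum h d ^ 3 := by
  classical
  have hS := setup h
  let A := {z : zSub h // d * (z : G) * d⁻¹ = z}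
  let B := {k : (kSet a t : Set G) // d * (k : G) * d⁻¹ = k}
  change _ + Nat.card A ≤ Nat.card A ^ 3
  have hB : Nat.card B + 1 ≤ Nat.card A := by
    rw [← Finite.card_option]
    refine Nat.card_le_card_of_injective (fun o => o.elim ⟨1, by simp⟩ fun k =>
      ⟨⟨(k.1 : G) * sInv h * (k.1 : G)⁻¹, z_conj_mem h (sInv_mem h) k.1.2.1.1⟩, ?_⟩) ?_
    · show d * ((k.1 : G) * sInv h * (k.1 : G)⁻¹) * d⁻¹ = (k.1 : G) * sInv h * (k.1 : G)⁻¹
      calc _ = (d * (k.1 : G) * d⁻¹) * (d * sInv h * d⁻¹) * (d * (k.1 : G) * d⁻¹)⁻¹ := by group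
        _ = _ := by rw [k.2, vGrp_s h hd]
    · rintro (_ | k) (_ | k') e
      · rfl
      · have e' : (1 : G) = (k'.1 : G) * sInv h * (k'.1 : G)⁻¹ :=
          congrArg (fun x : A => ((x.1 : zSub h) : G)) e
        exact absurd (conj_eq_one_iff.1 e'.symm) (sInv_ne h)
      · have e' : (k.1 : G) * sInv h * (k.1 : G)⁻¹ = 1 :=
          congrArg (fun x : A => ((x.1 : zSub h) : G)) e
        exact absurd (conj_eq_one_iff.1 e') (sInv_ne h)
      · exact congrArg some (Subtype.ext (Subtype.ext (k_unique h (sInv_mem h) (sInv_ne h) k.1.2 k'.1.2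
          (congrArg (fun x : A => ((x.1 : zSub h) : G)) e))))
  have hc2 : ∀ x y : G, d * (x * y) * d⁻¹ = d * x * d⁻¹ * (d * y * d⁻¹) := fun x y => by group
  let f : A × B ⊕ A × B × A → {g : M.lGrp // d * (g : G) * d⁻¹ = g} := Sum.elim
    (fun x => ⟨⟨(x.1.1 : G) * x.2.1,
      M.lGrp.mul_mem (M.z_mem_lGrp x.1.1.2) (M.k_mem_lGrp x.2.1.2)⟩, by
        show d * ((x.1.1 : G) * x.2.1) * d⁻¹ = _
        rw [hc2, x.1.2, x.2.2]⟩)
    (fun x => ⟨⟨(x.1.1 : G) * x.2.1.1 * t * x.2.2.1, M.lGrp.mul_mem (M.lGrp.mul_mem (M.lGrp.mul_mem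
      (M.z_mem_lGrp x.1.1.2) (M.k_mem_lGrp x.2.1.1.2)) M.t_mem_lGrp) (M.z_mem_lGrp x.2.2.1.2)⟩, by
        show d * ((x.1.1 : G) * x.2.1.1 * t * x.2.2.1) * d⁻¹ = _
        rw [hc2, hc2, hc2, x.1.2, x.2.1.2, x.2.2.2, vGrp_conj_t hd]⟩)
  have hf : Function.Surjective f := by
    rintro ⟨⟨g, hg⟩, hgd⟩
    change d * g * d⁻¹ = g at hgd
    rcases M.cases_lGrp hg with ⟨z, hz, k, hk, rfl⟩ | ⟨z₁, hz₁, k, hk, z₂, hz₂, rfl⟩
    · rw [hc2] at hgd
      obtain ⟨e1, e2⟩ := Q_D_unique hS (zSub_le h (z_conj_mem h hz hd.1.1)) (zSub_le h hz)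
        (k_conj h hd.1 hk).1 hk.1 hgd
      exact ⟨Sum.inl (⟨⟨z, hz⟩, e1⟩, ⟨⟨k, hk⟩, e2⟩), rfl⟩
    · rw [hc2, hc2, hc2, vGrp_conj_t hd] at hgd
      obtain ⟨e1, e2, e3⟩ := cell_inj h (z_conj_mem h hz₁ hd.1.1) hz₁ (k_conj h hd.1 hk) hk
        (z_conj_mem h hz₂ hd.1.1) hz₂ hgd
      exact ⟨Sum.inr (⟨⟨z₁, hz₁⟩, e1⟩, ⟨⟨k, hk⟩, e2⟩, ⟨⟨z₂, hz₂⟩, e3⟩), rfl⟩
  have hle := Nat.card_le_card_of_surjective f hf
  rw [Nat.card_sum, Nat.card_prod, Nat.card_prod, Nat.card_prod] at hle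
  set x := Nat.card A
  set y := Nat.card B
  have h2 : x * y + x ≤ x * x := by nlinarith
  have h3 : x * (y * x) + x * x ≤ x * x * x := by nlinarith
  have h4 : x ^ 3 = x * x * x := by ring
  omega

end Cfsg.Agent.Lib.BenderSuzuki.Coords
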